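import Cfsg.Agent.Lib.AfterFT.DihedralSquare.Tools
import Cfsg.Agent.Lib.AfterFT.DihedralSquare.Automizer

/-!
Essential subgroups in groups: invariant series and a criterion against essential subgroups.
-/

set_option autoImplicit false
set_option linter.unusedSectionVars false

namespace CfsgLib.SDSquare

open Cfsg Cfsg.FusionSystem Subgroup CfsgLib.AfterFT.DihedralSquare

universe u
variable {G : Type u} [Group G]

/-- A subgroup of `E` invariant under the normalizer of `E`. -/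
structure Inv (E L : Subgroup G) : Prop where
  le : L ≤ E
  conj : ∀ g ∈ normalizer (E : Set G), ∀ l ∈ L, g * l * g⁻¹ ∈ L

variable {E L : Subgroup G}

theorem Inv.bot : Inv E (⊥ : Subgroup G) :=
  ⟨bot_le, fun g _ l hl => by rw [mem_bot.mp hl, mul_one, mul_inv_cancel]; exact one_mem _⟩

theorem Inv.top : Inv E E := ⟨le_rfl, fun g hg l hl => (mem_normalizer_iff.mp hg l).mp hl⟩

theorem Inv.conj_iff (h : Inv E L) {g l : G} (hg : g ∈ normalizer (E : Set G)) : g * l * g⁻¹ ∈ L ↔ l ∈ L := by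
  refine ⟨fun hl => ?_, h.conj g hg l⟩
  have := h.conj g⁻¹ (inv_mem hg) _ hl
  simpa [mul_assoc] using this

/-- The subgroup generated by an invariant set is invariant. -/
theorem Inv.closure_set {S : Set G} (hS : S ⊆ E)
    (h : ∀ g ∈ normalizer (E : Set G), ∀ l ∈ S, g * l * g⁻¹ ∈ S) : Inv E (Subgroup.closure S) := by
  refine ⟨(closure_le _).mpr hS, fun g hg l hl => ?_⟩
  have : Subgroup.closure S ≤ (Subgroup.closure S).comap (MulAut.conj g).toMonoidHom :=
    (closure_le _).mpr fun s hs => subset_closure (h g hg s hs)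
  exact this hl

theorem Inv.of_iff (hle : L ≤ E) (p : G → Prop) (hp : ∀ l ∈ E, (l ∈ L ↔ p l))
    (h : ∀ g ∈ normalizer (E : Set G), ∀ l ∈ E, p l → p (g * l * g⁻¹)) : Inv E L :=
  ⟨hle, fun g hg l hl => (hp _ ((mem_normalizer_iff.mp hg l).mp (hle hl))).mpr (h g hg l (hle hl)
    ((hp l (hle hl)).mp hl))⟩

theorem Inv.conj_left (h : Inv E L) {e c : G} (he : e ∈ E) (hc : c * e⁻¹ ∈ L) : e⁻¹ * c ∈ L := by
  have := h.conj e⁻¹ (inv_mem (le_normalizer he)) _ hc
  simpa [mul_assoc] using this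

variable [Finite G] {P : Sylow 2 G}

/-- An element of the normalizer stabilising a series of invariant subgroups induces an inner automorphism. -/
theorem inner_of_series (hE : (groupFusionSystem (P : Subgroup G)).IsEssential 2 E) {L0 L1 L2 : Subgroup G}
    (h0 : Inv E L0) (h1 : Inv E L1) (h2 : Inv E L2) (h01 : L0 ≤ L1) (h12 : L1 ≤ L2) {k : G}
    (hk : k ∈ normalizer (E : Set G)) (s3 : ∀ e ∈ E, k * e * k⁻¹ * e⁻¹ ∈ L2)
    (s2 : ∀ e ∈ L2, k * e * k⁻¹ * e⁻¹ ∈ L1) (s1 : ∀ e ∈ L1, k * e * k⁻¹ * e⁻¹ ∈ L0)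
    (s0 : ∀ e ∈ L0, k * e = e * k) : ∃ u ∈ E, ∀ e ∈ E, k * e * k⁻¹ = u * e * u⁻¹ := by
  haveI : Fact (Nat.Prime 2) := ⟨Nat.prime_two⟩
  set F := groupFusionSystem (P : Subgroup G)
  have hES : E ≤ P := hE.1.1
  let C : Fin 5 → Subgroup E := ![⊥, L0.subgroupOf E, L1.subgroupOf E, L2.subgroupOf E, ⊤]
  have hinv : ∀ α ∈ F.autGroup E, ∀ i, ∀ x ∈ C i, α x ∈ C i := by
    intro α hα i x hx
    obtain ⟨g, hg, rfl⟩ := exists_conjAut hES hα
    fin_cases i
    · simp only [C] at hx ⊢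
      simp_all
    all_goals first | exact h0.conj g hg _ hx | exact h1.conj g hg _ hx | exact h2.conj g hg _ hx | trivial
  let A : Subgroup (F.autGroup E) :=
    { carrier := {a | ∀ i : Fin 4, ∀ x ∈ C i.succ, x⁻¹ * (a : MulAut E) x ∈ C i.castSucc}
      one_mem' := fun i x _ => by simp
      mul_mem' := by
        intro a b ha hb i x hx
        have hbx : (b : MulAut E) x ∈ C i.succ := hinv _ b.2 _ x hx
        have := (C i.castSucc).mul_mem (hb i x hx) (ha i _ hbx)
        simpa [MulAut.mul_apply, mul_assoc] using this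
      inv_mem' := by
        intro a ha i x hx
        have hax : (a : MulAut E)⁻¹ x ∈ C i.succ := hinv _ ((F.autGroup E).inv_mem a.2) _ x hx
        have := (C i.castSucc).inv_mem (ha i _ hax)
        simpa using this }
  have hAn : A.Normal := by
    refine ⟨fun a ha b i x hx => ?_⟩
    have h1' := ha i _ (hinv _ ((F.autGroup E).inv_mem b.2) _ x hx)
    have h2' := hinv _ b.2 _ _ h1'
    simpa [MulAut.mul_apply] using h2'
  have hAp : IsPGroup 2 A := by
    have hmap : IsPGroup 2 (A.map (F.autGroup E).subtype) := by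
      refine isPGroup_of_stabilises (P.2.to_le hES) C rfl rfl _ ?_
      rintro _ ⟨a, ha, rfl⟩
      exact ha
    exact hmap.of_equiv (A.equivMapOfInjective _ Subtype.coe_injective).symm
  let a : F.autGroup E := ⟨conjAut hk, conjAut_mem hES hk⟩
  have haA : a ∈ A := by
    intro i x hx
    fin_cases i
    · show x⁻¹ * conjAut hk x = 1
      rw [inv_mul_eq_one]
      exact Subtype.ext (by rw [conjAut_apply]; exact (mul_inv_eq_iff_eq_mul.mpr (s0 _ hx)).symm)
    · exact h0.conj_left x.2 (s1 _ hx)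
    · exact h1.conj_left x.2 (s2 _ hx)
    · exact h2.conj_left x.2 (s3 _ x.2)
  obtain ⟨u, hu⟩ := (hE.isRadical P.2 (groupFusionSystem_isSaturated P)).2.le
    ⟨a, CfsgLib.le_pCore hAp haA, rfl⟩
  exact ⟨u, u.2, fun e he => (congrArg (fun f : MulAut E => ((f ⟨e, he⟩ : E) : G)) hu).symm⟩

/-- An element of `N_S(E)` stabilising such a series lies in `E`. -/
theorem mem_of_series (hE : (groupFusionSystem (P : Subgroup G)).IsEssential 2 E) {L0 L1 L2 : Subgroup G}
    (h0 : Inv E L0) (h1 : Inv E L1) (h2 : Inv E L2) (h01 : L0 ≤ L1) (h12 : L1 ≤ L2) {k : G}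
    (hk : k ∈ normalizerIn (P : Subgroup G) E) (s3 : ∀ e ∈ E, k * e * k⁻¹ * e⁻¹ ∈ L2)
    (s2 : ∀ e ∈ L2, k * e * k⁻¹ * e⁻¹ ∈ L1) (s1 : ∀ e ∈ L1, k * e * k⁻¹ * e⁻¹ ∈ L0)
    (s0 : ∀ e ∈ L0, k * e = e * k) : k ∈ E := by
  obtain ⟨u, hu, he⟩ := inner_of_series hE h0 h1 h2 h01 h12 hk.2 s3 s2 s1 s0
  by_contra hkE
  refine not_mem_inn hE.1.centralizerIn_le_self hE.1.1 hk hkE ⟨⟨u, hu⟩, MulEquiv.ext fun e => Subtype.ext ?_⟩
  exact (he e e.2).symm

/-- One invariant subgroup: `k` moves `E` into `L` and centralises it. -/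
theorem mem_of_step (hE : (groupFusionSystem (P : Subgroup G)).IsEssential 2 E) (h : Inv E L) {k : G}
    (hk : k ∈ normalizerIn (P : Subgroup G) E) (s1 : ∀ e ∈ E, k * e * k⁻¹ * e⁻¹ ∈ L)
    (s0 : ∀ e ∈ L, k * e = e * k) : k ∈ E :=
  mem_of_series hE h h h le_rfl le_rfl hk s1
    (fun e he => by rw [s0 e he, mul_inv_cancel_right, mul_inv_cancel]; exact one_mem _)
    (fun e he => by rw [s0 e he, mul_inv_cancel_right, mul_inv_cancel]; exact one_mem _) s0

/-- Two steps above the Frattini subgroup. -/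
theorem mem_of_frattini (hE : (groupFusionSystem (P : Subgroup G)).IsEssential 2 E) (h : Inv E L) {k : G}
    (hk : k ∈ normalizerIn (P : Subgroup G) E) (s1 : ∀ e ∈ E, k * e * k⁻¹ * e⁻¹ ∈ L)
    (s0 : ∀ e ∈ L, k * e * k⁻¹ * e⁻¹ ∈ (frattini E).map E.subtype) : k ∈ E := by
  haveI : Fact (Nat.Prime 2) := ⟨Nat.prime_two⟩
  set F := groupFusionSystem (P : Subgroup G)
  have hES : E ≤ P := hE.1.1
  by_contra hkE
  set Φ := frattini E
  haveI : Φ.Normal := inferInstance
  have hconjL : ∀ a : F.autGroup E, ∀ m : E, (m : G) ∈ L → (((a : MulAut E) m : E) : G) ∈ L := by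
    intro a m hm
    obtain ⟨g, hg, ha⟩ := exists_conjAut hES a.2
    rw [ha, conjAut_apply]
    exact h.conj g hg _ hm
  have hconjΦ : ∀ a : F.autGroup E, ∀ m ∈ Φ, (a : MulAut E) m ∈ Φ := fun a m hm =>
    (Subgroup.characteristic_iff_le_comap.mp (inferInstance : Φ.Characteristic) (a : MulAut E)) hm
  let A : Subgroup (F.autGroup E) :=
    { carrier := {a | (∀ e : E, ((e⁻¹ * (a : MulAut E) e : E) : G) ∈ L) ∧
        ∀ m : E, (m : G) ∈ L → m⁻¹ * (a : MulAut E) m ∈ Φ}
      one_mem' := ⟨fun e => by simp, fun m _ => by simp⟩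
      mul_mem' := by
        intro a b ha hb
        refine ⟨fun e => ?_, fun m hm => ?_⟩
        · have := L.mul_mem (hb.1 e) (ha.1 ((b : MulAut E) e))
          simpa [MulAut.mul_apply, mul_assoc] using this
        · have := Φ.mul_mem (hb.2 m hm) (ha.2 _ (hconjL b m hm))
          simpa [MulAut.mul_apply, mul_assoc] using this
      inv_mem' := by
        intro a ha
        refine ⟨fun e => ?_, fun m hm => ?_⟩
        · have := L.inv_mem (ha.1 ((a : MulAut E)⁻¹ e))
          simpa using this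
        · have := Φ.inv_mem (ha.2 _ (hconjL a⁻¹ m hm))
          simpa using this }
  have hAn : A.Normal := by
    refine ⟨fun a ha b => ⟨fun e => ?_, fun m hm => ?_⟩⟩
    · have := hconjL b _ (ha.1 ((b : MulAut E)⁻¹ e))
      simpa [MulAut.mul_apply] using this
    · have := hconjΦ b _ (ha.2 _ (hconjL b⁻¹ m hm))
      simpa [MulAut.mul_apply] using this
  have hAp : IsPGroup 2 A := by
    refine IsPGroup.of_equiv ?_ (A.equivMapOfInjective _ (F.autGroup E).subtype_injective).symm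
    refine isPGroup_two_step (P.2.to_le hES) _ (L.subgroupOf E) ?_ ?_ <;> rintro _ ⟨a, ha, rfl⟩
    exacts [ha.1, ha.2]
  let a : F.autGroup E := ⟨conjAut hk.2, conjAut_mem hES hk.2⟩
  have haA : a ∈ A := by
    refine ⟨fun e => h.conj_left e.2 (s1 e e.2), fun m hm => ?_⟩
    obtain ⟨f, hf, hfe⟩ := s0 m hm
    have h1 : conjAut hk.2 m * m⁻¹ = f := Subtype.ext (by simpa [conjAut_apply] using hfe.symm)
    have := (inferInstance : Φ.Normal).conj_mem f hf m⁻¹
    rw [← h1] at this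
    simpa [mul_assoc] using this
  obtain ⟨u, hu⟩ := (hE.isRadical P.2 (groupFusionSystem_isSaturated P)).2.le ⟨a, CfsgLib.le_pCore hAp haA, rfl⟩
  exact not_mem_inn hE.1.centralizerIn_le_self hES hk hkE ⟨u, hu⟩

/-- If every conjugate of `x` generates with some `y` a `2`-group of automorphisms, `E` is not essential. -/
theorem false_of_pairs (hE : (groupFusionSystem (P : Subgroup G)).IsEssential 2 E) {x : G}
    (hx : x ∈ normalizerIn (P : Subgroup G) E) (hxE : x ∉ E)
    (h : ∀ g (hg : g ∈ normalizer (E : Set G)), ∃ y, ∃ hy : y ∈ normalizerIn (P : Subgroup G) E, y ∉ E ∧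
      IsPGroup 2 ↥(zpowers (conjAut (mul_mem (mul_mem hg hx.2) (inv_mem hg))) ⊔ zpowers (conjAut hy.2))) :
    False := by
  haveI : Fact (Nat.Prime 2) := ⟨Nat.prime_two⟩
  set F := groupFusionSystem (P : Subgroup G)
  have hES := hE.1.1
  refine hE.extendableAut_ne P.2 (groupFusionSystem_isSaturated P) (le_antisymm (extendableAut_le_autGroup hES) ?_)
  intro γ hγ
  obtain ⟨g, hg, rfl⟩ := exists_conjAut hES hγ
  obtain ⟨y, hy, hyE, hA⟩ := h g hg
  have hk : g * x * g⁻¹ ∈ normalizer (E : Set G) := mul_mem (mul_mem hg hx.2) (inv_mem hg)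
  have hle : zpowers (conjAut hk) ⊔ zpowers (conjAut hy.2) ≤ F.autGroup E :=
    sup_le (zpowers_le.mpr (conjAut_mem hES hk)) (zpowers_le.mpr (conjAut_mem hES hy.2))
  obtain ⟨-, T, hT⟩ := (groupFusionSystem_isSaturated P).isFullyAutomized_of_isFullyNormalized P.2 hE.2.1
  obtain ⟨δ, hδ⟩ := exists_conj_mem_sylow T (hA.of_equiv (subgroupOfEquivOfLe hle).symm)
  have hδ' : ∀ c (hc : c ∈ zpowers (conjAut hk) ⊔ zpowers (conjAut hy.2)),
      (δ : MulAut E) * c * (δ : MulAut E)⁻¹ ∈ autInducedBy (P : Subgroup G) E := by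
    intro c hc
    have := hδ ⟨c, hle hc⟩ hc
    rw [hT] at this
    exact this
  have hrec := (groupFusionSystem_isSaturated P).isReceptive_of_isFullyNormalized P.2 hE.2.1
  have h1 : (δ : MulAut E) ∈ extendableAut F E :=
    mem_extendableAut_of_conj hrec δ.2 (conjAut_mem_induced hy) (not_mem_inn hE.1.centralizerIn_le_self hES hy hyE)
      (hδ' _ (mem_sup_right (mem_zpowers _)))
  have h2 : (δ : MulAut E) * conjAut hg ∈ extendableAut F E := by
    refine mem_extendableAut_of_conj hrec (mul_mem δ.2 hγ) (conjAut_mem_induced hx)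
      (not_mem_inn hE.1.centralizerIn_le_self hES hx hxE) ?_
    have e : conjAut hk = conjAut hg * conjAut hx.2 * (conjAut hg)⁻¹ := by
      rw [← conjAut_inv hg, ← conjAut_mul, ← conjAut_mul]
    have := hδ' _ (mem_sup_left (mem_zpowers _))
    rw [e] at this
    simpa [mul_assoc] using this
  simpa using mul_mem (inv_mem h1) h2

/-- Two automorphisms of `2`-power order whose commutator stabilises an invariant series generate a `2`-group. -/
theorem isPGroup_pair (hES : E ≤ P) {L0 L1 : Subgroup G} (h0 : Inv E L0) (h1 : Inv E L1) {k y : G}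
    (hk : k ∈ normalizer (E : Set G)) (hy : y ∈ normalizer (E : Set G))
    (hk2 : IsPGroup 2 (zpowers (conjAut hk))) (hy2 : IsPGroup 2 (zpowers (conjAut hy)))
    (s2 : ∀ e ∈ E, k * y * e * (k * y)⁻¹ * (y * k * e * (y * k)⁻¹)⁻¹ ∈ L1)
    (s1 : ∀ e ∈ L1, k * y * e * (k * y)⁻¹ * (y * k * e * (y * k)⁻¹)⁻¹ ∈ L0)
    (s0 : ∀ e ∈ L0, k * y * e * (k * y)⁻¹ = y * k * e * (y * k)⁻¹) :
    IsPGroup 2 ↥(zpowers (conjAut hk) ⊔ zpowers (conjAut hy)) := by
  haveI : Fact (Nat.Prime 2) := ⟨Nat.prime_two⟩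
  set a := conjAut hk
  set b := conjAut hy
  let C : Fin 4 → Subgroup E := ![⊥, L0.subgroupOf E, L1.subgroupOf E, ⊤]
  set B : Subgroup (MulAut E) := (groupFusionSystem (P : Subgroup G)).autGroup E
  have hinv : ∀ α ∈ B, ∀ i, ∀ x ∈ C i, α x ∈ C i := by
    intro α hα i x hx
    obtain ⟨g, hg, rfl⟩ := exists_conjAut hES hα
    fin_cases i
    · simp only [C] at hx ⊢
      simp_all
    all_goals first | exact h0.conj g hg _ hx | exact h1.conj g hg _ hx | trivial
  let N : Subgroup (MulAut E) :=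
    { carrier := {α | α ∈ B ∧ ∀ i : Fin 3, ∀ x ∈ C i.succ, x⁻¹ * α x ∈ C i.castSucc}
      one_mem' := ⟨one_mem _, fun i x _ => by simp⟩
      mul_mem' := by
        intro α β hα hβ
        refine ⟨mul_mem hα.1 hβ.1, fun i x hx => ?_⟩
        have hbx : β x ∈ C i.succ := hinv _ hβ.1 _ x hx
        have := (C i.castSucc).mul_mem (hβ.2 i x hx) (hα.2 i _ hbx)
        simpa [MulAut.mul_apply, mul_assoc] using this
      inv_mem' := by
        intro α hα
        refine ⟨inv_mem hα.1, fun i x hx => ?_⟩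
        have hax : α⁻¹ x ∈ C i.succ := hinv _ (inv_mem hα.1) _ x hx
        have := (C i.castSucc).inv_mem (hα.2 i _ hax)
        simpa using this }
  have hN2 : IsPGroup 2 N := isPGroup_of_stabilises (P.2.to_le hES) C rfl rfl _ fun α hα => hα.2
  have hnorm : ∀ β ∈ B, ∀ α ∈ N, β * α * β⁻¹ ∈ N := by
    intro β hβ α hα
    refine ⟨mul_mem (mul_mem hβ hα.1) (inv_mem hβ), fun i x hx => ?_⟩
    have h1' := hα.2 i _ (hinv _ (inv_mem hβ) _ x hx)
    have h2' := hinv _ hβ _ _ h1'
    simpa [MulAut.mul_apply] using h2'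
  have hBN : ∀ β ∈ B, β ∈ normalizer (N : Set (MulAut E)) := fun β hβ => mem_normalizer_iff.mpr fun α =>
    ⟨hnorm β hβ α, fun h => by have := hnorm β⁻¹ (inv_mem hβ) _ h; simpa [mul_assoc] using this⟩
  have haB : a ∈ B := conjAut_mem hES hk
  have hbB : b ∈ B := conjAut_mem hES hy
  have hcN : a * b * (b * a)⁻¹ ∈ N := by
    refine ⟨mul_mem (mul_mem haB hbB) (inv_mem (mul_mem hbB haB)), fun i x hx => ?_⟩
    set x' := (b * a)⁻¹ x with hx'
    have hxC : x' ∈ C i.succ := hinv _ (inv_mem (mul_mem hbB haB)) _ x hx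
    have e1 : (a * b * (b * a)⁻¹) x = (a * b) x' := by rw [MulAut.mul_apply]
    have e2 : x = (b * a) x' := by rw [hx', MulAut.apply_inv_self]
    rw [e1]
    nth_rewrite 1 [e2]
    have hl : ∀ α β : MulAut E, ∀ e : E, ((α * β) e : E) = α (β e) := fun _ _ _ => rfl
    fin_cases i
    · show ((b * a) x')⁻¹ * (a * b) x' = 1
      rw [inv_mul_eq_one]
      refine Subtype.ext ?_
      have := (s0 _ hxC).symm
      simp only [hl, a, b, conjAut_apply]
      simpa [mul_assoc] using this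
    · refine h0.conj_left ((b * a) x').2 ?_
      simp only [hl, a, b, conjAut_apply]
      simpa [mul_assoc] using s1 _ hxC
    · refine h1.conj_left ((b * a) x').2 ?_
      simp only [hl, a, b, conjAut_apply]
      simpa [mul_assoc] using s2 _ x'.2
  have h1' : IsPGroup 2 ↥(N ⊔ zpowers a) :=
    IsPGroup.to_sup_of_normal_left' hN2 hk2 (zpowers_le.mpr (hBN a haB))
  have hb : b ∈ normalizer ((N ⊔ zpowers a : Subgroup (MulAut E)) : Set (MulAut E)) := by
    have hle : ∀ β : MulAut E, β ∈ zpowers b → ∀ α ∈ N ⊔ zpowers a, β * α * β⁻¹ ∈ N ⊔ zpowers a := by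
      intro β hβ
      suffices zpowers b ≤ normalizer ((N ⊔ zpowers a : Subgroup (MulAut E)) : Set (MulAut E)) from
        fun α hα => (mem_normalizer_iff.mp (this hβ) α).mp hα
      rw [zpowers_le]
      refine mem_normalizer_fintype fun α hα => ?_
      have : N ⊔ zpowers a ≤ (N ⊔ zpowers a).comap (MulAut.conj b).toMonoidHom := by
        refine sup_le (fun α hα => mem_sup_left (hnorm b hbB α hα)) (zpowers_le.mpr ?_)
        show b * a * b⁻¹ ∈ N ⊔ zpowers a
        have e : b * a * b⁻¹ = (a * b * (b * a)⁻¹)⁻¹ * a := by group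
        rw [e]
        exact mul_mem (mem_sup_left (inv_mem hcN)) (mem_sup_right (mem_zpowers a))
      exact this hα
    exact mem_normalizer_iff.mpr fun α => ⟨hle b (mem_zpowers b) α, fun h => by
      have := hle b⁻¹ (inv_mem (mem_zpowers b)) _ h; simpa [mul_assoc] using this⟩
  have h2 : IsPGroup 2 ↥(N ⊔ zpowers a ⊔ zpowers b) :=
    IsPGroup.to_sup_of_normal_left' h1' hy2 (zpowers_le.mpr hb)
  exact h2.to_le (sup_le_sup_right le_sup_right _)

/-- Elements of a `2`-group induce automorphisms of `2`-power order; so do their conjugates. -/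
theorem isPGroup_conjAut {x g : G} (hx : x ∈ (P : Subgroup G)) (hk : g * x * g⁻¹ ∈ normalizer (E : Set G)) :
    IsPGroup 2 (zpowers (conjAut hk)) := by
  haveI : Fact (Nat.Prime 2) := ⟨Nat.prime_two⟩
  obtain ⟨n, hn⟩ := IsPGroup.iff_orderOf.mp P.2 ⟨x, hx⟩
  rw [Subgroup.orderOf_mk] at hn
  have hd : orderOf (conjAut hk) ∣ 2 ^ n := by
    refine orderOf_dvd_of_pow_eq_one ?_
    have h1 : (⟨g * x * g⁻¹, hk⟩ : normalizer (E : Set G)) ^ 2 ^ n = 1 := Subtype.ext (by
      push_cast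
      rw [conj_pow, ← hn, pow_orderOf_eq_one, mul_one, mul_inv_cancel])
    rw [conjAut, ← map_pow, h1, map_one]
  obtain ⟨j, -, hj⟩ := (Nat.dvd_prime_pow Nat.prime_two).mp hd
  exact IsPGroup.of_card (n := j) (by rw [Nat.card_zpowers, hj])

end CfsgLib.SDSquare
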