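import Cfsg.Agent.Lib.SDSquare.Square
import Cfsg.Agent.Lib.SDSquare.Series

/-!
The projection of an essential subgroup on a factor it does not contain: a four group or a group of order eight.
-/

set_option autoImplicit false
set_option linter.unusedSectionVars false

namespace CfsgLib.SDSquare

open Cfsg Cfsg.FusionSystem Subgroup CfsgLib.AfterFT.DihedralSquare

universe u
variable {G : Type u} [Group G]

namespace SDGen

variable (d : SDGen G)

theorem rot_off_root {v r : G} (hv : d.Off v) (hr : r ∈ d.X) :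
    ∃ s ∈ d.X, r * v * r⁻¹ * v⁻¹ = s * s := by
  obtain ⟨ζ, hζ, e⟩ := d.rot_off_sq hv hr
  rcases d.mem_Z.mp hζ with h | h
  · exact ⟨r, hr, by rw [e, h, mul_one]⟩
  · refine ⟨r * d.c, mul_mem hr d.c_mem_X, ?_⟩
    rw [e, h, ← d.c_mul_c]
    calc r * r * (d.c * d.c) = r * (r * d.c) * d.c := by group
      _ = r * (d.c * r) * d.c := by rw [d.rot_comm hr d.c_mem_X]
      _ = r * d.c * (r * d.c) := by group

/-- Commutators are squares of rotations. -/
theorem comm_sq {g h : G} (hg : g ∈ d.D) (hh : h ∈ d.D) : ∃ s ∈ d.X, g * h * g⁻¹ * h⁻¹ = s * s := by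
  by_cases hgX : g ∈ d.X
  · by_cases hhX : h ∈ d.X
    · exact ⟨1, one_mem _, by rw [d.rot_comm hgX hhX]; group⟩
    · exact d.rot_off_root ⟨hh, hhX⟩ hgX
  · by_cases hhX : h ∈ d.X
    · obtain ⟨s, hs, e⟩ := d.rot_off_root ⟨hg, hgX⟩ hhX
      refine ⟨s⁻¹, inv_mem hs, ?_⟩
      calc g * h * g⁻¹ * h⁻¹ = (h * g * h⁻¹ * g⁻¹)⁻¹ := by group
        _ = s⁻¹ * s⁻¹ := by rw [e]; group
    · have hr : g * h ∈ d.X := d.off_mul_off ⟨hg, hgX⟩ ⟨hh, hhX⟩
      obtain ⟨s, hs, e⟩ := d.rot_off_root (v := g⁻¹) ⟨inv_mem hg, fun h' => hgX (inv_mem_iff.mp h')⟩ hr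
      refine ⟨s, hs, ?_⟩
      rw [← e]
      group

end SDGen

variable [Finite G] {P : Sylow 2 G} {E : Subgroup G}

/-- The elements of `E` commuting with all squares. -/
def sqCent (E : Subgroup G) : Subgroup G := E ⊓ centralizer {f | ∃ e ∈ E, f = e * e}

theorem mem_sqCent {m : G} : m ∈ sqCent E ↔ m ∈ E ∧ ∀ e ∈ E, m * (e * e) = e * e * m := by
  simp only [sqCent, mem_inf, mem_centralizer_iff]
  constructor
  · exact fun ⟨h, h'⟩ => ⟨h, fun e he => (h' _ ⟨e, he, rfl⟩).symm⟩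
  · rintro ⟨h, h'⟩
    exact ⟨h, fun f ⟨e, he, hf⟩ => by rw [hf, h' e he]⟩

theorem inv_sqCent : Inv E (sqCent E) := by
  refine Inv.of_iff inf_le_left (fun m => ∀ e ∈ E, m * (e * e) = e * e * m)
    (fun m hm => ⟨fun h => (mem_sqCent.mp h).2, fun h => mem_sqCent.mpr ⟨hm, h⟩⟩) fun g hg m _ h e he => ?_
  have h1 := congrArg (MulAut.conj g) (h (g⁻¹ * e * g) ((mem_normalizer_iff''.mp hg e).mp he))
  simp only [MulAut.conj_apply] at h1
  calc g * m * g⁻¹ * (e * e) = g * (m * (g⁻¹ * e * g * (g⁻¹ * e * g))) * g⁻¹ := by group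
    _ = g * (g⁻¹ * e * g * (g⁻¹ * e * g) * m) * g⁻¹ := h1
    _ = e * e * (g * m * g⁻¹) := by group

/-- The centre of `E`. -/
def cen (E : Subgroup G) : Subgroup G := E ⊓ centralizer (E : Set G)

theorem mem_cen {m : G} : m ∈ cen E ↔ m ∈ E ∧ ∀ e ∈ E, m * e = e * m := by
  simp only [cen, mem_inf, mem_centralizer_iff, SetLike.mem_coe]
  exact ⟨fun ⟨h, h'⟩ => ⟨h, fun e he => (h' e he).symm⟩, fun ⟨h, h'⟩ => ⟨h, fun e he => (h' e he).symm⟩⟩

theorem inv_cen : Inv E (cen E) := by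
  refine Inv.of_iff inf_le_left (fun m => ∀ e ∈ E, m * e = e * m)
    (fun m hm => ⟨fun h => (mem_cen.mp h).2, fun h => mem_cen.mpr ⟨hm, h⟩⟩) fun g hg m _ h e he => ?_
  have h1 := congrArg (MulAut.conj g) (h (g⁻¹ * e * g) ((mem_normalizer_iff''.mp hg e).mp he))
  simp only [MulAut.conj_apply] at h1
  calc g * m * g⁻¹ * e = g * (m * (g⁻¹ * e * g)) * g⁻¹ := by group
    _ = g * (g⁻¹ * e * g * m) * g⁻¹ := h1
    _ = e * (g * m * g⁻¹) := by group

theorem sq_mem_frattini (hES : E ≤ P) {e : G} (he : e ∈ E) : e * e ∈ (frattini E).map E.subtype := by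
  haveI : Fact (Nat.Prime 2) := ⟨Nat.prime_two⟩
  exact ⟨(⟨e, he⟩ : E) ^ 2, CfsgLib.pow_mem_frattini_pGroup (P.2.to_le hES) _, by
    show ((⟨e, he⟩ : E) ^ 2 : E).val = e * e
    rw [pow_two]; rfl⟩

variable (q : Square (P : Subgroup G))

/-- The projection of `E` on the first factor is a four group contained in `E`. -/
structure Four (E : Subgroup G) (u : G) : Prop where
  off : q.a.Off u
  sq : u * u = 1
  mem : u ∈ E
  range : ∀ e ∈ E, q.pr e ∈ q.a.Z ∨ u⁻¹ * q.pr e ∈ q.a.Z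

/-- The projection of `E` on the first factor has order eight. -/
structure Eight (E : Subgroup G) (u : G) : Prop where
  off : q.a.Off u
  c_mem : q.a.c ∈ E
  lift : ∃ e ∈ E, q.pr e = u
  range : ∀ e ∈ E, q.pr e ∈ zpowers q.a.c ∨ u⁻¹ * q.pr e ∈ zpowers q.a.c

/-- A root of the rotation of order four. -/
def ra : G := q.a.x ^ (q.a.M : ℤ)

theorem mem_of_cent (hE : (groupFusionSystem (P : Subgroup G)).IsEssential 2 E) {g : G} (hg : g ∈ (P : Subgroup G))
    (h : ∀ e ∈ E, g * e = e * g) : g ∈ E :=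
  hE.1.centralizerIn_le_self ⟨hg, mem_centralizer_iff.mpr fun y hy => (h y hy).symm⟩

theorem za_memE (hE : (groupFusionSystem (P : Subgroup G)).IsEssential 2 E) : q.a.z ∈ E :=
  mem_of_cent hE q.za_mem fun _ he => q.za_comm (hE.1.1 he)

theorem Za_leE (hE : (groupFusionSystem (P : Subgroup G)).IsEssential 2 E) : q.a.Z ≤ E :=
  zpowers_le.mpr (za_memE q hE)

/-- An element of the first factor normalising the projection. -/
theorem normIn_of (hES : E ≤ P) {y : G} (hy : y ∈ q.a.D)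
    (h : ∀ e ∈ E, y * q.pr e * y⁻¹ * (q.pr e)⁻¹ ∈ E) : y ∈ normalizerIn (P : Subgroup G) E := by
  refine ⟨q.aD_le hy, mem_normalizer_fintype fun e he => ?_⟩
  have := mul_mem (q.comm_pr hy (hES he) ▸ h e he) he
  simpa using this

variable (hE : (groupFusionSystem (P : Subgroup G)).IsEssential 2 E)
include hE

theorem X_not_le (hD : ¬ q.a.D ≤ E) : ¬ q.a.X ≤ E := by
  intro hX
  obtain ⟨y, hy, hyE⟩ := Set.not_subset.mp hD
  have hcom : ∀ e ∈ E, ∃ s ∈ E, y * e * y⁻¹ * e⁻¹ = s * s := by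
    intro e he
    obtain ⟨s, hs, e'⟩ := q.a.comm_sq hy (q.pr_mem (hE.1.1 he))
    exact ⟨s, hX hs, by rw [q.comm_pr hy (hE.1.1 he), e']⟩
  have hN : y ∈ normalizerIn (P : Subgroup G) E := by
    refine ⟨q.aD_le hy, mem_normalizer_fintype fun e he => ?_⟩
    obtain ⟨s, hs, e'⟩ := hcom e he
    have := mul_mem (mul_mem hs hs) he
    rw [← e'] at this
    simpa using this
  refine hyE (mem_of_frattini hE Inv.top hN (fun e he => ?_) fun e he => ?_)
  · obtain ⟨s, hs, e'⟩ := hcom e he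
    rw [e']; exact mul_mem hs hs
  · obtain ⟨s, hs, e'⟩ := hcom e he
    rw [e']; exact sq_mem_frattini hE.1.1 hs

theorem exists_off (hD : ¬ q.a.D ≤ E) : ∃ e ∈ E, q.a.Off (q.pr e) := by
  by_contra hcon
  push Not at hcon
  refine X_not_le q hE hD fun r hr => ?_
  refine mem_of_cent hE (q.aD_le (q.a.X_le hr)) fun e he => (q.commute_iff_pr (q.a.X_le hr) (hE.1.1 he)).mpr ?_
  exact q.a.rot_comm hr (by
    by_contra h
    exact hcon e he ⟨q.pr_mem (hE.1.1 he), h⟩)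

theorem exists_root (hD : ¬ q.a.D ≤ E) : ∃ y ∈ q.a.X, y ∉ E ∧ y * y ∈ E := by
  classical
  obtain ⟨k, hk⟩ := q.a.two_pow
  have hex : ∃ j : ℕ, q.a.x ^ (2 ^ j) ∈ E := ⟨k + 3, by
    rw [show 2 ^ (k + 3) = orderOf q.a.x by rw [q.a.order_x, hk]; ring, pow_orderOf_eq_one]; exact E.one_mem⟩
  obtain ⟨j, hj⟩ : ∃ j, Nat.find hex = j + 1 := by
    refine Nat.exists_eq_succ_of_ne_zero fun h0 => X_not_le q hE hD ?_
    have := Nat.find_spec hex
    rw [h0, pow_zero, pow_one] at this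
    exact zpowers_le.mpr this
  refine ⟨q.a.x ^ (2 ^ j), pow_mem (mem_zpowers _) _, Nat.find_min hex (by omega), ?_⟩
  have := Nat.find_spec hex
  rwa [hj, pow_succ, pow_mul, pow_two] at this

theorem rot_range (hD : ¬ q.a.D ≤ E) {e₁ : G} (he₁ : e₁ ∈ E) (hX : q.pr e₁ ∈ q.a.X) :
    q.pr e₁ ∈ zpowers q.a.c := by
  by_contra hbig
  obtain ⟨y, hy, hyE, hy2⟩ := exists_root q hE hD
  have hES := hE.1.1
  have hcom : ∀ e ∈ E, ∃ s ∈ E, s ∈ q.a.X ∧ y * e * y⁻¹ * e⁻¹ = s := by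
    intro e he
    refine ⟨y * e * y⁻¹ * e⁻¹, ?_, ?_, rfl⟩ <;> rw [q.comm_pr (q.a.X_le hy) (hES he)] <;>
      by_cases h : q.pr e ∈ q.a.X
    · rw [q.a.rot_comm hy h, mul_inv_cancel_right, mul_inv_cancel]
      exact one_mem _
    · obtain ⟨ζ, hζ, e'⟩ := q.a.rot_off_sq ⟨q.pr_mem (hES he), h⟩ hy
      rw [e']
      exact mul_mem hy2 (Za_leE q hE hζ)
    · rw [q.a.rot_comm hy h, mul_inv_cancel_right, mul_inv_cancel]
      exact one_mem _
    · obtain ⟨ζ, hζ, e'⟩ := q.a.rot_off_sq ⟨q.pr_mem (hES he), h⟩ hy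
      rw [e']
      exact mul_mem (mul_mem hy hy) (q.a.Z_le hζ)
  have hN : y ∈ normalizerIn (P : Subgroup G) E := by
    refine ⟨q.aD_le (q.a.X_le hy), mem_normalizer_fintype fun e he => ?_⟩
    obtain ⟨s, hs, -, e'⟩ := hcom e he
    have := mul_mem hs he
    rw [← e'] at this
    simpa using this
  refine hyE (mem_of_step hE inv_sqCent hN (fun e he => ?_) fun m hm => ?_)
  · obtain ⟨s, hs, hsX, e'⟩ := hcom e he
    rw [e']
    refine mem_sqCent.mpr ⟨hs, fun f hf => (q.commute_iff_pr (q.a.X_le hsX) (P.mul_mem (hES hf) (hES hf))).mpr ?_⟩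
    rw [q.pr_sq (hES hf)]
    exact q.a.rot_comm hsX (q.a.sq_mem_X (q.pr_mem (hES hf)))
  · obtain ⟨hmE, hmc⟩ := mem_sqCent.mp hm
    refine (q.commute_iff_pr (q.a.X_le hy) (hES hmE)).mpr (q.a.rot_comm hy ?_)
    by_contra hmX
    have h1 := q.pr_commute (hES hmE) (P.mul_mem (hES he₁) (hES he₁)) (hmc e₁ he₁)
    rw [q.pr_sq (hES he₁)] at h1
    exact hbig (q.a.mem_zpowers_c hX (q.a.off_comm_rot ⟨q.pr_mem (hES hmE), hmX⟩ (mul_mem hX hX) h1.symm))

/-- The shapes of the projection. -/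
theorem four_or_eight (hD : ¬ q.a.D ≤ E) : (∃ u, Four q E u) ∨ ∃ u, Eight q E u := by
  obtain ⟨e₀, he₀, hu⟩ := exists_off q hE hD
  have hES := hE.1.1
  set u := q.pr e₀ with hu'
  have hoff : ∀ e ∈ E, q.pr e ∉ q.a.X → u⁻¹ * q.pr e ∈ q.a.X ∧ q.pr (e₀⁻¹ * e) = u⁻¹ * q.pr e := by
    intro e he h
    refine ⟨q.a.off_mul_off ⟨inv_mem hu.1, fun h' => hu.2 (inv_mem_iff.mp h')⟩ ⟨q.pr_mem (hES he), h⟩, ?_⟩
    rw [q.pr_mul (P.inv_mem (hES he₀)) (hES he), q.pr_inv (hES he₀)]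
  have hrange : ∀ e ∈ E, q.pr e ∈ zpowers q.a.c ∨ u⁻¹ * q.pr e ∈ zpowers q.a.c := by
    intro e he
    by_cases h : q.pr e ∈ q.a.X
    · exact Or.inl (rot_range q hE hD he h)
    · obtain ⟨h1, h2⟩ := hoff e he h
      exact Or.inr (h2 ▸ rot_range q hE hD (mul_mem (inv_mem he₀) he) (h2 ▸ h1))
  have hcx := q.a.c_mem_X
  have hcle : zpowers q.a.c ≤ q.a.X := zpowers_le.mpr hcx
  by_cases hbig : ∃ e₁ ∈ E, q.pr e₁ ∈ q.a.X ∧ q.pr e₁ ∉ q.a.Z
  · obtain ⟨e₁, he₁, hr₁, hr₁'⟩ := hbig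
    refine Or.inr ⟨u, hu, ?_, ⟨e₀, he₀, rfl⟩, hrange⟩
    have hcom : ∀ e ∈ E, q.a.c * e * q.a.c⁻¹ * e⁻¹ ∈ q.a.Z := by
      intro e he
      rw [q.comm_pr (q.a.X_le hcx) (hES he)]
      by_cases h : q.pr e ∈ q.a.X
      · rw [q.a.rot_comm hcx h, mul_inv_cancel_right, mul_inv_cancel]; exact one_mem _
      · rw [q.a.c_conj ⟨q.pr_mem (hES he), h⟩]; exact mem_zpowers _
    have hN : q.a.c ∈ normalizerIn (P : Subgroup G) E := normIn_of q hES (q.a.X_le hcx) fun e he => by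
      rw [← q.comm_pr (q.a.X_le hcx) (hES he)]; exact Za_leE q hE (hcom e he)
    refine mem_of_step hE inv_cen hN (fun e he => ?_) fun m hm => ?_
    · rcases q.a.mem_Z.mp (hcom e he) with h | h <;> rw [h]
      · exact one_mem _
      · exact mem_cen.mpr ⟨za_memE q hE, fun f hf => q.za_comm (hES hf)⟩
    · obtain ⟨hmE, hmc⟩ := mem_cen.mp hm
      refine (q.commute_iff_pr (q.a.X_le hcx) (hES hmE)).mpr (q.a.rot_comm hcx ?_)
      by_contra hmX
      exact hr₁' (q.a.off_comm_rot ⟨q.pr_mem (hES hmE), hmX⟩ hr₁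
        (q.pr_commute (hES hmE) (hES he₁) (hmc e₁ he₁)).symm)
  · push Not at hbig
    have hsmall : ∀ e ∈ E, q.pr e ∈ q.a.Z ∨ u⁻¹ * q.pr e ∈ q.a.Z := by
      intro e he
      by_cases h : q.pr e ∈ q.a.X
      · exact Or.inl (hbig e he h)
      · obtain ⟨h1, h2⟩ := hoff e he h
        exact Or.inr (h2 ▸ hbig _ (mul_mem (inv_mem he₀) he) (h2 ▸ h1))
    have huE : u ∈ E := by
      refine mem_of_cent hE (q.aD_le hu.1) fun e he => (q.commute_iff_pr hu.1 (hES he)).mpr ?_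
      have hzc : ∀ ζ ∈ q.a.Z, u * ζ = ζ * u := fun ζ hζ => by
        rcases q.a.mem_Z.mp hζ with h | h <;> rw [h]
        · simp
        · exact (q.a.z_comm hu.1).symm
      rcases hsmall e he with h | h
      · exact hzc _ h
      · calc u * q.pr e = u * (u * (u⁻¹ * q.pr e)) := by group
          _ = u * ((u⁻¹ * q.pr e) * u) := by rw [hzc _ h]
          _ = q.pr e * u := by group
    rcases q.a.off_cases hu with ⟨h, -⟩ | ⟨h, -⟩
    · exact Or.inl ⟨u, hu, h, huE, hsmall⟩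
    · exfalso
      have hcom : ∀ e ∈ E, q.a.c * e * q.a.c⁻¹ * e⁻¹ ∈ q.a.Z := by
        intro e he
        rw [q.comm_pr (q.a.X_le hcx) (hES he)]
        by_cases h : q.pr e ∈ q.a.X
        · rw [q.a.rot_comm hcx h, mul_inv_cancel_right, mul_inv_cancel]; exact one_mem _
        · rw [q.a.c_conj ⟨q.pr_mem (hES he), h⟩]; exact mem_zpowers _
      have hN : q.a.c ∈ normalizerIn (P : Subgroup G) E := normIn_of q hES (q.a.X_le hcx) fun e he => by
        rw [← q.comm_pr (q.a.X_le hcx) (hES he)]; exact Za_leE q hE (hcom e he)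
      have hcE : q.a.c ∈ E := by
        refine mem_of_frattini hE Inv.top hN (fun e he => Za_leE q hE (hcom e he)) fun e he => ?_
        rcases q.a.mem_Z.mp (hcom e he) with h' | h' <;> rw [h']
        · exact one_mem _
        · rw [← h]; exact sq_mem_frattini hES huE
      exact q.a.c_notMem_Z (hbig _ hcE (by rw [q.pr_of_mem (q.a.X_le hcx)]; exact hcx) |> fun h' => by
        rwa [q.pr_of_mem (q.a.X_le hcx)] at h')

end CfsgLib.SDSquare
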