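import Cfsg.Agent.Lib.SDSquare.Cross

/-!
The twisted complements are strongly closed.
-/

set_option autoImplicit false
set_option linter.unusedSectionVars false

namespace CfsgLib.SDSquare

open Cfsg Cfsg.FusionSystem Subgroup CfsgLib.AfterFT.DihedralSquare

universe u
variable {G : Type u} [Group G] [Finite G] {P : Sylow 2 G} {q : Square (P : Subgroup G)} {E : Subgroup G} {u : G}

theorem Twist.ext_T (tw : Twist q) {a b : G} (ha : a ∈ tw.T) (hb : b ∈ tw.T) (h : q.pr a = q.pr b) : a = b :=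
  q.ext ha.1 hb.1 h (by rw [ha.2, hb.2, h])

theorem Twist.mem_of_Za (tw : Twist q) {a : G} (ha : a ∈ q.a.Z) : a ∈ tw.T := by
  have hD := q.a.X_le (q.a.Z_le ha)
  exact ⟨q.aD_le hD, by rw [q.pr'_of_mem hD, q.pr_of_mem hD, tw.zeta_Z ha]⟩

theorem Twist.c_mem (tw : Twist q) : q.a.c ∈ tw.T := by
  have hD := q.a.X_le q.a.c_mem_X
  exact ⟨q.aD_le hD, by rw [q.pr'_of_mem hD, q.pr_of_mem hD, tw.zeta_sq_part q.a.c_mem_Qm q.a.c_mem_Dm]⟩

/-- Conjugation by `k` preserves a subgroup on `E`. -/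
def Keep (E T : Subgroup G) (k : G) : Prop := ∀ a ∈ E, a ∈ T ↔ k * a * k⁻¹ ∈ T

theorem Keep.of_le {T : Subgroup G} (hT : ∀ n ∈ normalizer (E : Set G), ∀ a ∈ E, a ∈ T → n * a * n⁻¹ ∈ T)
    {k : G} (hk : k ∈ normalizer (E : Set G)) : Keep E T k := fun a ha =>
  ⟨hT k hk a ha, fun h => by
    have := hT k⁻¹ (inv_mem hk) _ ((mem_normalizer_iff.mp hk a).mp ha) h
    simpa [mul_assoc] using this⟩

theorem Keep.of_cent {T : Subgroup G} {k : G} (h : ∀ a ∈ T, k * a = a * k) : Keep E T k := fun a _ => by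
  constructor <;> intro ha
  · rwa [h a ha, mul_inv_cancel_right]
  · have e : a = k * a * k⁻¹ := by
      calc a = k⁻¹ * (k * a * k⁻¹ * k) := by group
        _ = k⁻¹ * (k * (k * a * k⁻¹)) := by rw [h _ ha]
        _ = k * a * k⁻¹ := by group
    rwa [e]

namespace TypeV

variable (h : TypeV q E u) (tw : Twist q)
include h

theorem w_mem_T {g : G} (hg : g ∈ normalizer (E : Set G)) : g * q.a.z * g⁻¹ ∈ tw.T := by
  obtain ⟨hw, hw'⟩ := h.w_props hg
  have hwE := (mem_cen.mp hw).1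
  have hwP := h.le hwE
  by_cases hm : h.fork.Moved g
  · refine ⟨hwP, ?_⟩
    rw [tw.hV E u h g hg hm, tw.zeta_refl ⟨q.pr_mem hwP, (h.moved_iff hg).mp hm⟩ (h.four.props hwE).1]
  · have hh : Eqv q.b.Z q.a.z (g * q.a.z * g⁻¹) := not_not.mp hm
    have := h.centre_eq (g := 1) (one_mem _) hg (by simpa using hh)
    rw [← this]
    simpa using tw.mem_of_Za (mem_zpowers q.a.z)

theorem keep_T {n a : G} (hn : n ∈ normalizer (E : Set G)) (ha : a ∈ E) (haT : a ∈ tw.T) :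
    n * a * n⁻¹ ∈ tw.T := by
  obtain ⟨g₀, hg₀, hm₀⟩ := h.fork.exists_moved
  set w := g₀ * q.a.z * g₀⁻¹ with hw
  have hwT : w ∈ tw.T := h.w_mem_T tw hg₀
  have hwE : w ∈ E := (mem_cen.mp (h.w_props hg₀).1).1
  have hzT : q.a.z ∈ tw.T := tw.mem_of_Za (mem_zpowers _)
  have nz : n * q.a.z * n⁻¹ ∈ tw.T := h.w_mem_T tw hn
  have nw : n * w * n⁻¹ ∈ tw.T := by
    have := h.w_mem_T tw (mul_mem hn hg₀)
    rwa [show n * g₀ * q.a.z * (n * g₀)⁻¹ = n * w * n⁻¹ by rw [hw]; group] at this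
  -- two generators
  suffices a ∈ zpowers q.a.z ⊔ zpowers w from
    (show zpowers q.a.z ⊔ zpowers w ≤ tw.T.comap (MulAut.conj n).toMonoidHom from
      sup_le (zpowers_le.mpr nz) (zpowers_le.mpr nw)) this
  rcases h.four.range a ha with hz | hz
  · have : a = q.pr a := tw.ext_T haT (tw.mem_of_Za hz) (q.pr_of_mem (q.a.X_le (q.a.Z_le hz))).symm
    rw [this]; exact mem_sup_left hz
  · have hwr : u⁻¹ * q.pr w ∈ q.a.Z :=
      (h.four.range w hwE).resolve_left fun hh => (h.moved_iff hg₀).mp hm₀ (q.a.Z_le hh)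
    have hd : (q.pr w)⁻¹ * q.pr a ∈ q.a.Z := by
      have := mul_mem (inv_mem hwr) hz
      rwa [mul_inv_rev, inv_inv, mul_assoc, mul_inv_cancel_left] at this
    have : a = w * ((q.pr w)⁻¹ * q.pr a) := by
      refine tw.ext_T haT (mul_mem hwT (tw.mem_of_Za hd)) ?_
      rw [q.pr_mul hwT.1 (tw.mem_of_Za hd).1, q.pr_of_mem (q.a.X_le (q.a.Z_le hd))]
      group
    rw [this]; exact mul_mem (mem_sup_right (mem_zpowers w)) (mem_sup_left hd)

end TypeV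

namespace TypeQ

variable (h : TypeQ q E u) (tw : Twist q)
include h

theorem w_mem_T {g : G} (hg : g ∈ normalizer (E : Set G)) : g * q.a.c * g⁻¹ ∈ tw.T := by
  obtain ⟨hw, hw'⟩ := h.w_props hg
  have hwE : g * q.a.c * g⁻¹ ∈ E := hw.1
  have hwP := h.le hwE
  refine ⟨hwP, ?_⟩
  by_cases hm : h.fork.Moved g
  · have hX := (h.moved_iff hg).mp hm
    rw [tw.hQ E u h g hg hm, tw.zeta_quat ⟨q.pr_mem hwP, hX⟩ ((h.eight.off_sq h.le hwE hX).trans h.sq)]
  · have hh : Eqv (cen E) q.a.c (g * q.a.c * g⁻¹) := not_not.mp hm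
    have h1 := h.centre_eq (g₀ := 1) (one_mem _) hg (by simpa using hh)
    have hX : q.pr (g * q.a.c * g⁻¹) ∈ q.a.X := by
      by_contra hX
      exact (h.moved_iff hg).mpr hX hh
    have hc := h.eight.rot_range' hwE hX
    rw [← h1, one_mul, inv_one, mul_one, q.pr'_of_mem (q.a.X_le q.a.c_mem_X),
      tw.zeta_sq_part (zpowers_le.mpr q.a.c_mem_Qm hc) (zpowers_le.mpr q.a.c_mem_Dm hc)]

theorem keep_T {n a : G} (hn : n ∈ normalizer (E : Set G)) (ha : a ∈ E) (haT : a ∈ tw.T) :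
    n * a * n⁻¹ ∈ tw.T := by
  obtain ⟨g₀, hg₀, hm₀⟩ := h.fork.exists_moved
  set w := g₀ * q.a.c * g₀⁻¹ with hw
  have hwT : w ∈ tw.T := h.w_mem_T tw hg₀
  have hwE : w ∈ E := (h.w_props hg₀).1.1
  have nc : n * q.a.c * n⁻¹ ∈ tw.T := h.w_mem_T tw hn
  have nw : n * w * n⁻¹ ∈ tw.T := by
    have := h.w_mem_T tw (mul_mem hn hg₀)
    rwa [show n * g₀ * q.a.c * (n * g₀)⁻¹ = n * w * n⁻¹ by rw [hw]; group] at this
  suffices a ∈ zpowers q.a.c ⊔ zpowers w from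
    (show zpowers q.a.c ⊔ zpowers w ≤ tw.T.comap (MulAut.conj n).toMonoidHom from
      sup_le (zpowers_le.mpr nc) (zpowers_le.mpr nw)) this
  have hcT : zpowers q.a.c ≤ tw.T := zpowers_le.mpr tw.c_mem
  have hcX : zpowers q.a.c ≤ q.a.D := zpowers_le.mpr (q.a.X_le q.a.c_mem_X)
  rcases h.eight.range a ha with hz | hz
  · have : a = q.pr a := tw.ext_T haT (hcT hz) (q.pr_of_mem (hcX hz)).symm
    rw [this]; exact mem_sup_left hz
  · have hwr := h.eight.off_range hwE ((h.moved_iff hg₀).mp hm₀)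
    have hd : (q.pr w)⁻¹ * q.pr a ∈ zpowers q.a.c := by
      have := mul_mem (inv_mem hwr) hz
      rwa [mul_inv_rev, inv_inv, mul_assoc, mul_inv_cancel_left] at this
    have : a = w * ((q.pr w)⁻¹ * q.pr a) := by
      refine tw.ext_T haT (mul_mem hwT (hcT hd)) ?_
      rw [q.pr_mul hwT.1 (hcT hd).1, q.pr_of_mem (hcX hd)]
      group
    rw [this]; exact mul_mem (mem_sup_right (mem_zpowers w)) (mem_sup_left hd)

theorem cent_T' (tw' : Twist q.swap) {g : G} (hg : g ∈ normalizer (E : Set G)) :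
    ∀ b ∈ tw'.T, g * q.a.rt * g⁻¹ * b = b * (g * q.a.rt * g⁻¹) := by
  intro b hb
  have hz : q.pr b ∈ q.a.Z := tw'.T_pr' hb
  have hbE : b ∈ E := h.mem_iff.mpr ⟨hb.1, Or.inl (q.a.Z_le_c hz)⟩
  have hin : g⁻¹ * b * g ∈ invCC E := by
    have := h.inv_CC.conj g⁻¹ (inv_mem hg) b ((h.mem_CC hbE).mpr hz)
    rwa [inv_inv] at this
  have hinE : g⁻¹ * b * g ∈ E := hin.1
  have := h.eight.rt_fix h.le hinE (q.a.Z_le ((h.mem_CC hinE).mp hin))
  calc g * q.a.rt * g⁻¹ * b = g * (q.a.rt * (g⁻¹ * b * g)) * g⁻¹ := by group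
    _ = b * (g * q.a.rt * g⁻¹) := by rw [this]; group

end TypeQ

namespace TypeV

variable (h : TypeV q E u) (tw : Twist q)
include h

/-- The conjugate transvection centralises the other complement. -/
theorem cent_T' (hres : Cfsg.pResidual 2 G = ⊤) (tw' : Twist q.swap) {g : G} (hg : g ∈ normalizer (E : Set G))
    (hm : h.fork.Moved g) : ∀ b ∈ tw'.T, g * q.a.c * g⁻¹ * b = b * (g * q.a.c * g⁻¹) := by
  obtain ⟨E₁, v₁, h₁⟩ := exists_typeV q.swap hres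
  obtain ⟨E₂, v₂, h₂⟩ := exists_typeQ q.swap hres
  obtain ⟨g₁, hg₁, m₁⟩ := h₁.fork.exists_moved
  obtain ⟨g₂, hg₂, m₂⟩ := h₂.fork.exists_moved
  set k := g * q.a.c * g⁻¹ with hk
  set w₁ := g₁ * q.b.z * g₁⁻¹ with hw₁
  set w₂ := g₂ * q.b.c * g₂⁻¹ with hw₂
  have hc₁ : k * w₁ = w₁ * k := cross_refl h h₁ hg hg₁ hm m₁
  have hc₂ : k * w₂ = w₂ * k := cross_quat h h₂ hg hg₂ hm m₂
  have hT₁ : w₁ ∈ tw'.T := h₁.w_mem_T tw' hg₁
  have hP₁ : w₁ ∈ (P : Subgroup G) := hT₁.1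
  have hE₁ : w₁ ∈ E₁ := (mem_cen.mp (h₁.w_props hg₁).1).1
  have hw₁off : q.b.Off (q.swap.pr w₁) := ⟨q.pr'_mem hP₁, (h₁.moved_iff hg₁).mp m₁⟩
  have hw₁cls : q.swap.pr w₁ ∈ q.b.Dm ∧ q.swap.pr w₁ ∉ q.b.Qm := q.b.refl_mem hw₁off (h₁.four.props hE₁).1
  have hE₂ : w₂ ∈ E₂ := (h₂.w_props hg₂).1.1
  have hP₂ : w₂ ∈ (P : Subgroup G) := h₂.le hE₂
  have hn₂ : q.swap.pr w₂ ∉ q.b.X := (h₂.moved_iff hg₂).mp m₂
  have hw₂cls : q.swap.pr w₂ ∈ q.b.Qm ∧ q.swap.pr w₂ ∉ q.b.Dm :=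
    q.b.quat_mem ⟨q.pr'_mem hP₂, hn₂⟩ ((h₂.eight.off_sq h₂.le hE₂ hn₂).trans h₂.sq)
  have hT₂ : w₂ ∈ tw'.T := h₂.w_mem_T tw' hg₂
  -- even rotations
  have heven : ∀ b ∈ tw'.T, q.swap.pr b ∈ q.b.Dm → q.swap.pr b ∈ q.b.Qm → k * b = b * k := by
    intro b hb h1 h2
    have hp : q.pr b = 1 := (hb.2 : q.pr b = _).trans (tw'.zeta_sq_part h2 h1)
    have hb' : b = q.swap.pr b := by
      conv_lhs => rw [← q.split hb.1, hp, one_mul]
    have hX : q.swap.pr b ∈ q.b.X := by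
      by_contra hX
      rcases q.b.off_cases ⟨q.pr'_mem hb.1, hX⟩ with ⟨-, -, e⟩ | ⟨-, -, e⟩
      exacts [e h2, e h1]
    obtain ⟨i, hi⟩ := q.b.mem_Dm.mp h1
    rcases hi with hi | hi
    · have hrE : q.b.x ^ i ∈ E := h.bD (q.b.X_le (q.b.zpow_mem_X i))
      have e : b = q.b.x ^ i * q.b.x ^ i := by rw [hb', hi, ← zpow_add]; congr 1; ring
      refine (mul_inv_eq_iff_eq_mul).mp ?_
      rw [e, show k * (q.b.x ^ i * q.b.x ^ i) * k⁻¹ = k * q.b.x ^ i * k⁻¹ * (k * q.b.x ^ i * k⁻¹) by group]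
      obtain ⟨hwc, -⟩ := h.w_props hg
      rcases h.k_trans hg _ hrE with e1 | e1 <;> rw [MulAut.conj_apply] at e1 <;> rw [e1]
      set w := g * q.a.z * g⁻¹
      have hww : w * w = 1 := by
        calc w * w = g * (q.a.z * q.a.z) * g⁻¹ := by simp only [w]; group
          _ = 1 := by rw [q.a.z_mul_z]; group
      rw [show q.b.x ^ i * w * (q.b.x ^ i * w) = q.b.x ^ i * (w * q.b.x ^ i) * w by group,
        (mem_cen.mp hwc).2 _ hrE, show q.b.x ^ i * (q.b.x ^ i * w) * w = q.b.x ^ i * q.b.x ^ i * (w * w) by group,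
        hww, mul_one]
    · exact absurd (hi ▸ hX) (q.b.xy_notMem _)
  have cancel : ∀ {b c : G}, k * c = c * k → k * (c * b) = c * b * k → k * b = b * k := by
    intro b c hc hcb
    exact mul_left_cancel (a := c) (by rw [← mul_assoc, ← hc, mul_assoc, hcb, mul_assoc])
  have hDm : ∀ b ∈ tw'.T, q.swap.pr b ∈ q.b.Qm → k * b = b * k := by
    intro b hb h2
    by_cases h1 : q.swap.pr b ∈ q.b.Dm
    · exact heven b hb h1 h2
    · refine cancel hc₂ (heven _ (mul_mem hT₂ hb) ?_ ?_) <;> rw [q.swap.pr_mul hP₂ hb.1]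
      · exact q.b.mul_mem_Dm (q.pr'_mem hP₂) (q.pr'_mem hb.1) hw₂cls.2 h1
      · exact mul_mem hw₂cls.1 h2
  intro b hb
  by_cases h2 : q.swap.pr b ∈ q.b.Qm
  · exact hDm b hb h2
  · refine cancel hc₁ (hDm _ (mul_mem hT₁ hb) ?_)
    rw [q.swap.pr_mul hP₁ hb.1]
    exact q.b.mul_mem_Qm (q.pr'_mem hP₁) (q.pr'_mem hb.1) hw₁cls.2 h2

end TypeV

/-- The two complements are preserved. -/
def Preserve (T T' : Subgroup G) (a b : G) : Prop := (a ∈ T ↔ b ∈ T) ∧ (a ∈ T' ↔ b ∈ T')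

theorem strongly_closed (hres : Cfsg.pResidual 2 G = ⊤) (tw : Twist q) (tw' : Twist q.swap) :
    IsStronglyClosed tw.T (P : Subgroup G) ∧ IsStronglyClosed tw'.T (P : Subgroup G) := by
  haveI : Fact (Nat.Prime 2) := ⟨Nat.prime_two⟩
  let Rel := Preserve tw.T tw'.T
  have hsymm : ∀ {a b}, Rel a b → Rel b a := fun h => ⟨h.1.symm, h.2.symm⟩
  have htrans : ∀ {a b c}, Rel a b → Rel b c → Rel a c := fun h h' => ⟨h.1.trans h'.1, h.2.trans h'.2⟩
  have hinner : ∀ s ∈ (P : Subgroup G), ∀ a ∈ (P : Subgroup G), Rel a (s * a * s⁻¹) := by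
    intro s hs a _
    constructor <;> constructor <;> intro h
    · exact tw.conj_T hs h
    · simpa [mul_assoc] using tw.conj_T (P.inv_mem hs) h
    · exact tw'.conj_T hs h
    · simpa [mul_assoc] using tw'.conj_T (P.inv_mem hs) h
  have step : ∀ {E L₀ L₁ : Subgroup G} {x a₀ : G} (F : Fork P E L₀ L₁ x a₀),
      (∀ g ∈ normalizer (E : Set G), F.Moved g →
        Keep E tw.T (g * x * g⁻¹) ∧ Keep E tw'.T (g * x * g⁻¹)) →
      ∀ g (hg : g ∈ normalizer (E : Set G)), conjAut hg ∈ extendableAut (groupFusionSystem (P : Subgroup G)) E ∨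
        ∃ d, ∃ hd : d ∈ normalizer (E : Set G),
          conjAut hd ∈ extendableAut (groupFusionSystem (P : Subgroup G)) E ∧
          ∀ a ∈ E, Rel a ((g * d⁻¹) * a * (g * d⁻¹)⁻¹) := by
    intro E L₀ L₁ x a₀ F hk g hg
    rcases F.extend_or hg with h1 | ⟨hm, hd, he⟩
    · exact Or.inl h1
    refine Or.inr ⟨_, hd, he, fun a ha => ?_⟩
    obtain ⟨k1, k2⟩ := hk g hg hm
    set k := g * x * g⁻¹ with hk'
    have hkN : k ∈ normalizer (E : Set G) := F.conjN hg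
    set b := k⁻¹ * a * k with hb
    have hbE : b ∈ E := (mem_normalizer_iff''.mp hkN a).mp ha
    have e : k * b * k⁻¹ = a := by rw [hb]; group
    have r1 : Rel b a := by
      refine ⟨?_, ?_⟩
      · have := k1 b hbE; rwa [e] at this
      · have := k2 b hbE; rwa [e] at this
    have r2 := hinner x⁻¹ (P.inv_mem F.xN.1) b (F.ess.1.1 hbE)
    have e2 : g * (k * x * g)⁻¹ * a * (g * (k * x * g)⁻¹)⁻¹ = x⁻¹ * b * x⁻¹⁻¹ := by rw [hb]; group
    rw [e2]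
    exact htrans (hsymm r1) r2
  have key : ∀ a ∈ (P : Subgroup G), ∀ g : G, g * a * g⁻¹ ∈ (P : Subgroup G) → Rel a (g * a * g⁻¹) := by
    intro a ha g hga
    refine rel_of_alperin Rel hsymm htrans hinner (fun g hg a ha => rel_normalizer (Rel := Rel) htrans hinner
      (fun g hg ho a ha => by rw [odd_central q hg ho ha]; exact ⟨Iff.rfl, Iff.rfl⟩) hg ha)
      (fun E hE => ?_) ha hga
    rcases classify (q := q) hE with ⟨u, h | h⟩ | ⟨u, h | h⟩
    · exact step h.fork fun g hg hm => ⟨Keep.of_le (fun n hn a ha => h.keep_T tw hn ha) (h.fork.conjN hg),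
        Keep.of_cent (h.cent_T' hres tw' hg hm)⟩
    · exact step h.fork fun g hg _ => ⟨Keep.of_le (fun n hn a ha => h.keep_T tw hn ha) (h.fork.conjN hg),
        Keep.of_cent (h.cent_T' tw' hg)⟩
    · exact step h.fork fun g hg hm => ⟨Keep.of_cent (h.cent_T' (q := q.swap) hres tw hg hm),
        Keep.of_le (fun n hn a ha => h.keep_T tw' hn ha) (h.fork.conjN hg)⟩
    · exact step h.fork fun g hg _ => ⟨Keep.of_cent (h.cent_T' (q := q.swap) tw hg),
        Keep.of_le (fun n hn a ha => h.keep_T tw' hn ha) (h.fork.conjN hg)⟩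
  exact ⟨⟨tw.T_le, fun a ha g hga => (key a (tw.T_le ha) g hga).1.mp ha⟩,
    ⟨tw'.T_le, fun a ha g hga => (key a (tw'.T_le ha) g hga).2.mp ha⟩⟩

end CfsgLib.SDSquare
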