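import Cfsg.Agent.Lib.SDSquare.Squares

/-!
A conjugate transvection of one factor centralises the twisted complement of the other.
-/

set_option autoImplicit false
set_option linter.unusedSectionVars false

namespace CfsgLib.SDSquare

open Cfsg Cfsg.FusionSystem Subgroup CfsgLib.AfterFT.DihedralSquare

universe u
variable {G : Type u} [Group G] [Finite G] {P : Sylow 2 G}

/-- Three transvections along a path contradict squares centralising. -/
theorem no_chain {N A : Subgroup G} (hA : NoSwap N A) {x k l z u w : G} (hx : x ∈ N) (hk : k ∈ N) (hl : l ∈ N)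
    (hz : z ∈ A) (hu : u ∈ A) (hw : w ∈ A) (hz2 : z * z = 1) (hw2 : w * w = 1) (hu2 : u * u = 1)
    (hc : ∀ a ∈ A, ∀ b ∈ A, a * b = b * a)
    (hxz : MulAut.conj x z = z) (hxu : MulAut.conj x u = u) (hxw : MulAut.conj x w = w * z)
    (hkw : MulAut.conj k w = w) (hkz : MulAut.conj k z = z * w) (hku : MulAut.conj k u = u * w)
    (hlz : MulAut.conj l z = z) (hlu : MulAut.conj l u = u) (hlw : MulAut.conj l w = w * u) : z = u := by
  set p := x * k * l with hp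
  have cp : ∀ c, MulAut.conj p c = MulAut.conj x (MulAut.conj k (MulAut.conj l c)) := fun c => by
    simp only [hp, map_mul, MulAut.mul_apply]
  have czw : z * (w * z) = w := by rw [hc w hw z hz, ← mul_assoc, hz2, one_mul]
  have h1 : MulAut.conj p z = w := by rw [cp, hlz, hkz, map_mul, hxz, hxw, czw]
  have h2 : MulAut.conj p w = u := by
    rw [cp, hlw, map_mul, hkw, hku, hc u hu w hw, ← mul_assoc, hw2, one_mul, hxu]
  have h3 : MulAut.conj p u = u * (w * z) := by rw [cp, hlu, hku, map_mul, hxu, hxw]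
  have h4 : MulAut.conj p (u * (w * z)) = z := by
    rw [map_mul (MulAut.conj p), map_mul (MulAut.conj p), h3, h2, h1, hc u hu w hw]
    calc u * (w * z) * (w * u) = u * (w * (z * w)) * u := by group
      _ = u * (w * (w * z)) * u := by rw [hc z hz w hw]
      _ = u * z * u := by rw [← mul_assoc w w, hw2, one_mul]
      _ = z * (u * u) := by rw [hc u hu z hz, mul_assoc]
      _ = z := by rw [hu2, mul_one]
  refine hA p (mul_mem (mul_mem hx hk) hl) z hz u hu ?_ ?_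
  · rw [map_mul, MulAut.mul_apply, h1, h2]
  · rw [map_mul, MulAut.mul_apply, h3, h4]

variable {q : Square (P : Subgroup G)} {E E' : Subgroup G} {u v g g' : G}

theorem k_mem_normalizer_inf (h : TypeV q E u) (hg : g ∈ normalizer (E : Set G))
    (hw : g * q.a.z * g⁻¹ ∈ E') : g * q.a.c * g⁻¹ ∈ normalizer ((E ⊓ E' : Subgroup G) : Set G) := by
  refine mem_normalizer_fintype fun a ha => ?_
  rcases h.k_trans hg a ha.1 with e | e <;> rw [MulAut.conj_apply] at e <;> rw [e]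
  · exact ha
  · exact mul_mem ha ⟨(mem_cen.mp (h.w_props hg).1).1, hw⟩

/-- The reflection generator of the other complement is fixed. -/
theorem cross_refl (h : TypeV q E u) (h' : TypeV q.swap E' v) (hg : g ∈ normalizer (E : Set G))
    (hg' : g' ∈ normalizer (E' : Set G)) (hm : h.fork.Moved g) (hm' : h'.fork.Moved g') :
    g * q.a.c * g⁻¹ * (g' * q.b.z * g'⁻¹) = g' * q.b.z * g'⁻¹ * (g * q.a.c * g⁻¹) := by
  have hES := h.le
  set w := g * q.a.z * g⁻¹ with hw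
  set w' := g' * q.b.z * g'⁻¹ with hw'
  set k := g * q.a.c * g⁻¹ with hk
  set l := g' * q.b.c * g'⁻¹ with hl
  obtain ⟨hwc, hwb⟩ := h.w_props hg
  obtain ⟨hwc', hwa'⟩ := h'.w_props hg'
  have hwE : w ∈ E := (mem_cen.mp hwc).1
  have hwE' : w' ∈ E' := (mem_cen.mp hwc').1
  have mem' : ∀ a ∈ E, q.swap.pr a ∈ q.b.Z → a ∈ E' := fun a ha hz => h'.mem_iff.mpr ⟨hES ha, Or.inl hz⟩
  have mem : ∀ a ∈ E', q.pr a ∈ q.a.Z → a ∈ E := fun a ha hz => h.mem_iff.mpr ⟨h'.le ha, Or.inl hz⟩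
  set A := E ⊓ E' with hA
  have hAP : A ≤ (P : Subgroup G) := inf_le_left.trans hES
  have hA2 : ∀ a ∈ A, a * a = 1 := by
    rintro a ⟨ha, ha'⟩
    have e2 : q.swap.pr a * q.swap.pr a = 1 := (h'.four.props ha').1
    rw [← q.split (P.mul_mem (hES ha) (hES ha)), q.pr_sq (hES ha), (h.four.props ha).1, q.swap.pr_sq (hES ha), e2,
      one_mul]
  have hAc : ∀ a ∈ A, ∀ b ∈ A, a * b = b * a := fun a ha b hb => by
    have e : ∀ c ∈ A, c⁻¹ = c := fun c hc => inv_eq_of_mul_eq_one_left (hA2 c hc)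
    have := e _ (A.mul_mem ha hb)
    rw [mul_inv_rev, e a ha, e b hb] at this
    exact this.symm
  have hNS := noSwap_elementary q hAP hA2
  have hwA : w ∈ A := ⟨hwE, mem' w hwE hwb⟩
  have hwA' : w' ∈ A := ⟨mem w' hwE' hwa', hwE'⟩
  have hza : q.a.z ∈ A := ⟨za_memE q h.ess, mem' _ (za_memE q h.ess)
    (by rw [q.pr'_of_mem (q.a.X_le q.a.z_mem_X)]; exact one_mem _)⟩
  have hzb : q.b.z ∈ A := ⟨za_memE q.swap h.ess, za_memE q.swap h'.ess⟩
  have hkN : k ∈ normalizer (A : Set G) := k_mem_normalizer_inf h hg hwA.2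
  have hlN : l ∈ normalizer (A : Set G) := by
    have := k_mem_normalizer_inf (q := q.swap) (E' := E) h' hg' hwA'.1
    rwa [inf_comm] at this
  have hxN : q.a.c ∈ normalizer (A : Set G) := by
    have := k_mem_normalizer_inf (g := 1) h (one_mem _) (E' := E') (by rw [one_mul, inv_one, mul_one]; exact hza.2)
    rwa [one_mul, inv_one, mul_one] at this
  have hkT : IsTrans A k w := fun a ha => h.k_trans hg a ha.1
  have hlT : IsTrans A l w' := fun a ha => h'.k_trans hg' a ha.2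
  have hkw : MulAut.conj k w = w := by
    rw [MulAut.conj_apply, hk, hw]
    have := c_fix_za q
    rw [MulAut.conj_apply] at this
    calc g * q.a.c * g⁻¹ * (g * q.a.z * g⁻¹) * (g * q.a.c * g⁻¹)⁻¹ = g * (q.a.c * q.a.z * q.a.c⁻¹) * g⁻¹ := by group
      _ = g * q.a.z * g⁻¹ := by rw [this]
  have hlw' : MulAut.conj l w' = w' := by
    rw [MulAut.conj_apply, hl, hw']
    have := c_fix_za q.swap
    rw [MulAut.conj_apply] at this
    simp only [Square.swap_a] at this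
    calc g' * q.b.c * g'⁻¹ * (g' * q.b.z * g'⁻¹) * (g' * q.b.c * g'⁻¹)⁻¹ =
        g' * (q.b.c * q.b.z * q.b.c⁻¹) * g'⁻¹ := by group
      _ = g' * q.b.z * g'⁻¹ := by rw [this]
  have hwne : w ≠ 1 := fun e => q.a.z_ne_one (conj_eq_one_iff.mp e)
  have hw'ne : w' ≠ 1 := fun e => q.b.z_ne_one (conj_eq_one_iff.mp e)
  have hprw : q.pr w ∉ q.a.X := (h.moved_iff hg).mp hm
  have hxw : MulAut.conj q.a.c w = w * q.a.z := by
    refine (h.four.c_trans h.ess w hwE).resolve_left fun e => ?_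
    rw [MulAut.conj_apply, mul_inv_eq_iff_eq_mul] at e
    have := q.pr_commute (q.aD_le (q.a.X_le q.a.c_mem_X)) (hES hwE) e
    rw [q.pr_of_mem (q.a.X_le q.a.c_mem_X)] at this
    exact hprw (q.a.c_comm_mem (q.pr_mem (hES hwE)) this)
  have hkz : MulAut.conj k q.a.z = q.a.z * w := by
    refine (hkT q.a.z hza).resolve_left fun e => ?_
    refine q.a.z_ne_one (both_or_none hNS hkN hxN hwA hza (hA2 w hwA) q.a.z_mul_z hAc
      (fun a ha => h.four.c_trans h.ess a ha.1) hkw (c_fix_za q) ?_ hxw e)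
    · refine ⟨g * u * g⁻¹, ⟨(mem_normalizer_iff.mp hg u).mp h.four.mem, ?_⟩, ?_⟩
      · have hc := inv_cen.conj g hg u h.u_cen
        exact mem' _ (mem_cen.mp hc).1 ((h.mem_cen_iff (mem_cen.mp hc).1).mp hc)
      · have := h.four.c_u h.ess
        rw [MulAut.conj_apply] at this ⊢
        calc g * q.a.c * g⁻¹ * (g * u * g⁻¹) * (g * q.a.c * g⁻¹)⁻¹ = g * (q.a.c * u * q.a.c⁻¹) * g⁻¹ := by group
          _ = g * u * g⁻¹ * (g * q.a.z * g⁻¹) := by rw [this]; group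
  have hlz : MulAut.conj l q.a.z = q.a.z := by
    rcases h'.k_trans hg' q.a.z hza.2 with e | e
    · exact e
    · exfalso
      -- `z` is a square in `E'`
      have hcE : q.a.c ∈ E' := h'.bD (q.a.X_le q.a.c_mem_X)
      rcases h'.k_trans hg' q.a.c hcE with e' | e' <;> simp only [Square.swap_a] at e e' <;>
        have hsq := congrArg (fun c => c * c) e' <;> simp only [← map_mul, q.a.c_mul_c] at hsq <;> rw [← hl, ← hw'] at e <;>
        rw [hl] at e <;> rw [hsq] at e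
      · exact hw'ne (left_eq_mul.mp e)
      · have hc : w' * q.a.c = q.a.c * w' := (mem_cen.mp hwc').2 q.a.c hcE
        rw [show q.a.c * w' * (q.a.c * w') = q.a.c * (w' * q.a.c) * w' by group, hc,
          show q.a.c * (q.a.c * w') * w' = q.a.c * q.a.c * (w' * w') by group, hA2 w' hwA', mul_one, q.a.c_mul_c] at e
        exact hw'ne (left_eq_mul.mp e)
  have hxw' : MulAut.conj q.a.c w' = w' := by
    rcases q.a.mem_Z.mp hwa' with e | e <;>
    · rw [MulAut.conj_apply, mul_inv_eq_iff_eq_mul]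
      refine (q.commute_iff_pr (q.a.X_le q.a.c_mem_X) (h'.le hwE')).mpr ?_
      exact (q.a.Z_comm (q.a.X_le q.a.c_mem_X) hwa').symm
  by_contra hne
  have hkw' : MulAut.conj k w' = w' * w := (hkT w' hwA').resolve_left fun e => hne (by
    rw [MulAut.conj_apply, mul_inv_eq_iff_eq_mul] at e
    exact e)
  rcases hlT w hwA with e | e
  · refine hwne (both_or_none hNS hlN hkN hwA' hwA ?_ (hA2 w hwA) hAc hkT hlw' hkw ?_ hkw' e)
    · exact hA2 w' hwA'
    · refine ⟨g' * v * g'⁻¹, ⟨mem _ ((mem_normalizer_iff.mp hg' v).mp h'.four.mem) ?_, (mem_normalizer_iff.mp hg' v).mp h'.four.mem⟩, ?_⟩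
      · have hc := inv_cen.conj g' hg' v h'.u_cen
        exact (h'.mem_cen_iff (mem_cen.mp hc).1).mp hc
      · have := h'.four.c_u h'.ess
        simp only [Square.swap_a, MulAut.conj_apply] at this ⊢
        calc g' * q.b.c * g'⁻¹ * (g' * v * g'⁻¹) * (g' * q.b.c * g'⁻¹)⁻¹ = g' * (q.b.c * v * q.b.c⁻¹) * g'⁻¹ := by group
          _ = g' * v * g'⁻¹ * (g' * q.b.z * g'⁻¹) := by rw [this]; group
  · have := no_chain hNS hxN hkN hlN hza hwA' hwA q.a.z_mul_z (hA2 w hwA) (hA2 w' hwA') hAc (c_fix_za q) hxw' hxw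
      hkw hkz hkw' hlz hlw' e
    -- `z = w'` is absurd
    have hpr := (h'.moved_iff hg').mp hm'
    simp only [Square.swap_a] at hpr
    rw [← hw', ← this, q.pr'_of_mem (q.a.X_le q.a.z_mem_X)] at hpr
    exact hpr (one_mem _)

/-- The quaternion generator of the other complement is fixed. -/
theorem cross_quat (h : TypeV q E u) (h' : TypeQ q.swap E' v) (hg : g ∈ normalizer (E : Set G))
    (hg' : g' ∈ normalizer (E' : Set G)) (hm : h.fork.Moved g) (hm' : h'.fork.Moved g') :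
    g * q.a.c * g⁻¹ * (g' * q.b.c * g'⁻¹) = g' * q.b.c * g'⁻¹ * (g * q.a.c * g⁻¹) := by
  haveI : Fact (Nat.Prime 2) := ⟨Nat.prime_two⟩
  have hES := h.le
  set w := g * q.a.z * g⁻¹ with hw
  set ρ := g' * q.b.c * g'⁻¹ with hρ
  set k := g * q.a.c * g⁻¹ with hk
  set l := g' * q.b.rt * g'⁻¹ with hl
  obtain ⟨hwc, hwb⟩ := h.w_props hg
  obtain ⟨hρC, hρa⟩ := h'.w_props hg'
  have hwE : w ∈ E := (mem_cen.mp hwc).1
  have hρE' : ρ ∈ E' := hρC.1
  have hwE' : w ∈ E' := h'.mem_iff.mpr ⟨hES hwE, Or.inl (q.b.Z_le_c hwb)⟩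
  have hρE : ρ ∈ E := h.mem_iff.mpr ⟨h'.le hρE', Or.inl hρa⟩
  have hcb := q.b.X_le q.b.c_mem_X
  have hcbE : q.b.c ∈ E := h.bD hcb
  have hcbE' : q.b.c ∈ E' := h'.eight.c_mem
  set F := E ⊓ E' with hF
  have hkF : k ∈ normalizer (F : Set G) := k_mem_normalizer_inf h hg hwE'
  have hlN : l ∈ normalizer (E' : Set G) := h'.fork.conjN hg'
  have hlcomm : ∀ e ∈ E', l * e * l⁻¹ * e⁻¹ ∈ zpowers ρ := fun e he => h'.k_comm hg' he
  have hlF : l ∈ normalizer (F : Set G) := by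
    refine mem_normalizer_fintype fun a ha => ⟨?_, (mem_normalizer_iff.mp hlN a).mp ha.2⟩
    have := mul_mem (zpowers_le.mpr hρE (hlcomm a ha.2)) ha.1
    simpa [mul_assoc] using this
  -- `k` fixes squares, `l` fixes `w`
  have hkw : k * w * k⁻¹ = w := by
    have := c_fix_za q
    rw [MulAut.conj_apply] at this
    calc k * w * k⁻¹ = g * (q.a.c * q.a.z * q.a.c⁻¹) * g⁻¹ := by rw [hk, hw]; group
      _ = w := by rw [this, hw]
  have hw2 : w * w = 1 := by
    calc w * w = g * (q.a.z * q.a.z) * g⁻¹ := by rw [hw]; group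
      _ = 1 := by rw [q.a.z_mul_z]; group
  have hksq : ∀ e ∈ E, k * (e * e) * k⁻¹ = e * e := by
    intro e he
    rw [show k * (e * e) * k⁻¹ = k * e * k⁻¹ * (k * e * k⁻¹) by group]
    rcases h.k_trans hg e he with e1 | e1 <;> rw [MulAut.conj_apply] at e1 <;> rw [e1]
    rw [show e * w * (e * w) = e * (w * e) * w by group, (mem_cen.mp hwc).2 e he,
      show e * (e * w) * w = e * e * (w * w) by group, hw2, mul_one]
  have hrtE : q.b.rt ∈ E := h.bD (q.b.X_le q.b.rt_mem_X)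
  have hkc : k * q.b.c * k⁻¹ = q.b.c := by rw [← q.b.rt_mul_rt]; exact hksq _ hrtE
  have hkzb : k * q.b.z * k⁻¹ = q.b.z := by rw [← q.b.c_mul_c]; exact hksq _ hcbE
  have hlρ : l * ρ * l⁻¹ = ρ := by
    calc l * ρ * l⁻¹ = g' * (q.b.rt * q.b.c * q.b.rt⁻¹) * g'⁻¹ := by rw [hl, hρ]; group
      _ = ρ := by rw [q.b.rot_comm q.b.rt_mem_X q.b.c_mem_X, mul_inv_cancel_right, hρ]
  have hρ2 : ρ * ρ = q.b.z := by
    have := h'.za_fix hg'
    simp only [Square.swap_a] at this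
    rw [hρ, ← this, ← q.b.c_mul_c]; group
  have hlzb : l * q.b.z * l⁻¹ = q.b.z := by
    calc l * q.b.z * l⁻¹ = l * ρ * l⁻¹ * (l * ρ * l⁻¹) := by rw [← hρ2]; group
      _ = q.b.z := by rw [hlρ, hρ2]
  -- `l` fixes every element with central second projection
  have hlfix : ∀ e ∈ E', q.swap.pr e ∈ q.b.Z → l * e * l⁻¹ = e := by
    intro e he hz
    have hin : g'⁻¹ * e * g' ∈ invCC E' := by
      have := h'.inv_CC.conj g'⁻¹ (inv_mem hg') e ((h'.mem_CC he).mpr hz)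
      rwa [inv_inv] at this
    have hinE : g'⁻¹ * e * g' ∈ E' := hin.1
    have := h'.eight.rt_fix h'.le hinE (q.b.Z_le ((h'.mem_CC hinE).mp hin))
    simp only [Square.swap_a] at this
    calc l * e * l⁻¹ = g' * (q.b.rt * (g'⁻¹ * e * g') * q.b.rt⁻¹) * g'⁻¹ := by rw [hl]; group
      _ = e := by rw [this]; group
  by_contra hne
  have hkρ : k * ρ * k⁻¹ = ρ * w := by
    rcases h.k_trans hg ρ hρE with e | e <;> rw [MulAut.conj_apply] at e
    · exact absurd (mul_inv_eq_iff_eq_mul.mp e) hne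
    · exact e
  -- the image of `c` under `l`
  obtain ⟨n, hn⟩ := mem_zpowers_iff.mp (hlcomm q.b.c hcbE')
  obtain ⟨j, hj⟩ : ∃ j, n = 2 * j + 1 := by
    rcases Int.even_or_odd' n with ⟨j, rfl | rfl⟩
    · exfalso
      have hρn : ρ ^ (2 * j) ∈ cen E' := by
        rw [zpow_mul, zpow_two, hρ2]
        exact zpow_mem (h'.za_cen) j
      have hmv := h'.fork.moves hg' h'.u_mem_C.2
        (fun hc => h'.fork.a_notMem (by simpa [Eqv] using hc)) (fun hc => hm' (h'.fork.symm hc))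
      rw [hn] at hρn
      have e1 : Eqv (cen E') q.b.c (l * q.b.c * l⁻¹) := by
        have := inv_cen.conj q.b.c⁻¹ (inv_mem (le_normalizer hcbE')) _ hρn
        unfold Eqv
        simpa [mul_assoc] using this
      simp only [Square.swap_a] at hmv
      have e2 := h'.fork.tr e1 (h'.fork.symm hmv)
      refine h'.fork.w_ne hg' ?_
      show (1 : G)⁻¹ * (g' * q.b.c * g'⁻¹) ∈ cen E'
      unfold Eqv at e2
      simpa [hρ, mul_assoc] using e2
    · exact ⟨j, rfl⟩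
  set σ := ρ ^ n with hσ
  have hσρ : σ ∈ E ∧ σ ∈ E' := ⟨zpow_mem hρE n, zpow_mem hρE' n⟩
  have hlc : l * q.b.c * l⁻¹ = σ * q.b.c := (mul_inv_eq_iff_eq_mul.mp hn.symm)
  have hwρ : Commute w ρ := (mem_cen.mp hwc).2 ρ hρE
  have hkσ : k * σ * k⁻¹ = σ * w := by
    rw [hσ, ← conj_zpow, hkρ, hwρ.symm.mul_zpow, hj, zpow_add w, zpow_mul w, zpow_two, hw2, one_zpow, one_mul, zpow_one]
  have hlσ : l * σ * l⁻¹ = σ := by rw [hσ, ← conj_zpow, hlρ]
  have hlw : l * w * l⁻¹ = w := hlfix w hwE' hwb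
  set p := k * l with hp
  have pc : ∀ e, p * e * p⁻¹ = k * (l * e * l⁻¹) * k⁻¹ := fun e => by rw [hp]; group
  have hpc : p * q.b.c * p⁻¹ = σ * w * q.b.c := by
    rw [pc, hlc, show k * (σ * q.b.c) * k⁻¹ = k * σ * k⁻¹ * (k * q.b.c * k⁻¹) by group, hkσ, hkc]
  have hpσ : p * σ * p⁻¹ = σ * w := by rw [pc, hlσ, hkσ]
  have hpw : p * w * p⁻¹ = w := by rw [pc, hlw, hkw]
  have hpz : p * q.b.z * p⁻¹ = q.b.z := by rw [pc, hlzb, hkzb]
  have hσ2 : σ * σ = q.b.z := by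
    rw [hσ, ← zpow_add, show n + n = 2 * n by ring, zpow_mul, zpow_two, hρ2, hj, zpow_add, zpow_mul, zpow_two,
      q.b.z_mul_z, one_zpow, one_mul, zpow_one]
  set δ := q.b.z * w with hδ
  have hδc : q.b.z * w = w * q.b.z := q.swap.za_comm (hES hwE)
  have hm2 : p * p * q.b.c * (p * p)⁻¹ = δ * q.b.c := by
    have hσw : w * σ = σ * w := (mem_cen.mp hwc).2 σ hσρ.1
    calc p * p * q.b.c * (p * p)⁻¹ = p * (p * q.b.c * p⁻¹) * p⁻¹ := by group
      _ = p * (σ * w * q.b.c) * p⁻¹ := by rw [← hpc]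
      _ = p * σ * p⁻¹ * (p * w * p⁻¹) * (p * q.b.c * p⁻¹) := by group
      _ = σ * (w * w) * σ * w * q.b.c := by rw [hpσ, hpw, hpc]; group
      _ = δ * q.b.c := by rw [hw2, mul_one, hσ2, hδ]
  have hmδ : p * p * δ * (p * p)⁻¹ = δ := by
    rw [show p * p * δ * (p * p)⁻¹ = p * ((p * q.b.z * p⁻¹) * (p * w * p⁻¹)) * p⁻¹ by rw [hδ]; group, hpz, hpw,
      show p * (q.b.z * w) * p⁻¹ = p * q.b.z * p⁻¹ * (p * w * p⁻¹) by group, hpz, hpw, hδ]
  have hδ2 : δ * δ = 1 := by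
    calc δ * δ = q.b.z * (w * q.b.z) * w := by rw [hδ]; simp only [mul_assoc]
      _ = q.b.z * (q.b.z * w) * w := by rw [← hδc]
      _ = q.b.z * q.b.z * (w * w) := by simp only [mul_assoc]
      _ = 1 := by rw [q.b.z_mul_z, hw2, one_mul]
  have hiter : ∀ i : ℕ, (p * p) ^ i * q.b.c * ((p * p) ^ i)⁻¹ = δ ^ i * q.b.c := by
    intro i
    induction i with
    | zero => simp
    | succ i ih =>
      have hcd : p * p * δ ^ i * (p * p)⁻¹ = δ ^ i := by rw [← conj_pow, hmδ]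
      rw [pow_succ', mul_inv_rev, show p * p * (p * p) ^ i * q.b.c * (((p * p) ^ i)⁻¹ * (p * p)⁻¹) =
        p * p * ((p * p) ^ i * q.b.c * ((p * p) ^ i)⁻¹) * (p * p)⁻¹ by simp only [mul_assoc],
        ih, show p * p * (δ ^ i * q.b.c) * (p * p)⁻¹ = p * p * δ ^ i * (p * p)⁻¹ * (p * p * q.b.c * (p * p)⁻¹) by group,
        hcd, hm2, pow_succ]
      simp only [mul_assoc]
  have hpF : p ∈ normalizer (F : Set G) := mul_mem hkF hlF
  obtain ⟨t, o, ho, ht⟩ := Nat.exists_eq_two_pow_mul_odd (orderOf_pos p).ne'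
  have hp2 : IsPGroup 2 (zpowers (p ^ o)) := IsPGroup.of_card (n := t) (by
    rw [Nat.card_zpowers, orderOf_pow_of_dvd ho.pos.ne' (ht ▸ dvd_mul_left o _), ht, Nat.mul_div_cancel _ ho.pos])
  have hFP : F ≤ (P : Subgroup G) := inf_le_left.trans hES
  obtain ⟨h₀, hB, hsyl⟩ := exists_conj_isSylowIn P hFP
  set B : Subgroup G := F.map (MulAut.conj h₀ : G ≃* G).toMonoidHom with hB'
  have hn0 : h₀ * p ^ o * h₀⁻¹ ∈ normalizer (B : Set G) := by
    rw [hB', ← Subgroup.map_normalizer_eq_of_bijective F (MulEquiv.bijective (MulAut.conj h₀))]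
    exact ⟨p ^ o, pow_mem hpF o, rfl⟩
  have hp2' : IsPGroup 2 (zpowers (h₀ * p ^ o * h₀⁻¹)) := by
    have := hp2.map (MulAut.conj h₀ : G ≃* G).toMonoidHom
    rwa [MonoidHom.map_zpowers] at this
  obtain ⟨n₀, hn₀, hnT⟩ := hsyl.exists_conj_le hp2' (zpowers_le.mpr hn0)
  have hs := hnT _ (mem_zpowers _)
  set m := n₀ * h₀ with hm0
  set s := n₀ * (h₀ * p ^ o * h₀⁻¹) * n₀⁻¹ with hs0
  have hin : ∀ f ∈ F, m * f * m⁻¹ ∈ B := fun f hf => by
    have := (mem_normalizer_iff.mp hn₀ _).mp (show MulAut.conj h₀ f ∈ B from ⟨f, hf, rfl⟩)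
    simpa [hm0, mul_assoc] using this
  have hout : ∀ b ∈ B, ∃ f ∈ F, b = m * f * m⁻¹ := by
    intro b hb
    obtain ⟨f, hf, hfe⟩ : n₀⁻¹ * b * n₀ ∈ B := (mem_normalizer_iff''.mp hn₀ b).mp hb
    refine ⟨f, hf, ?_⟩
    change h₀ * f * h₀⁻¹ = n₀⁻¹ * b * n₀ at hfe
    calc b = n₀ * (n₀⁻¹ * b * n₀) * n₀⁻¹ := by group
      _ = m * f * m⁻¹ := by rw [← hfe, hm0]; group
  have sqF : ∀ f ∈ F, q.pr (f * f) = 1 ∧ q.swap.pr f * q.swap.pr f ∈ q.b.Z := fun f hf =>
    ⟨by rw [q.pr_sq (hFP hf)]; exact (h.four.props hf.1).1, h'.eight.sq_Z h'.le hf.2⟩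
  have hcen : ∀ a : G, (∀ e ∈ E, a * e = e * a) → ∀ b ∈ B, m * a * m⁻¹ * b = b * (m * a * m⁻¹) := by
    intro a ha b hb
    obtain ⟨f, hf, rfl⟩ := hout b hb
    calc m * a * m⁻¹ * (m * f * m⁻¹) = m * (a * f) * m⁻¹ := by group
      _ = m * f * m⁻¹ * (m * a * m⁻¹) := by rw [ha f hf.1]; group
  have hzaF : q.a.z ∈ F := ⟨za_memE q h.ess, h'.bD (q.a.X_le q.a.z_mem_X)⟩
  have hzbF : q.b.z ∈ F := ⟨za_memE q.swap h.ess, za_memE q.swap h'.ess⟩
  have hwF : w ∈ F := ⟨hwE, hwE'⟩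
  have inj : ∀ {a b : G}, m * a * m⁻¹ = m * b * m⁻¹ → a = b := fun e => (MulAut.conj m).injective e
  have one' : ∀ {a : G}, m * a * m⁻¹ = 1 → a = 1 := fun e => conj_eq_one_iff.mp e
  have sqc : ∀ {a : G}, a * a = 1 → m * a * m⁻¹ * (m * a * m⁻¹) = 1 := fun {a} e => by
    rw [show m * a * m⁻¹ * (m * a * m⁻¹) = m * (a * a) * m⁻¹ by group, e]; group
  have hprw : q.pr w ∉ q.a.X := (h.moved_iff hg).mp hm
  have hwne1 : w ≠ 1 := fun e => hprw (by rw [e, q.pr_one]; exact one_mem _)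
  have hwza : q.a.z ≠ w := fun e => hprw (by rw [← e, q.pr_of_mem (q.a.X_le q.a.z_mem_X)]; exact q.a.z_mem_X)
  have hwzb : w ≠ q.b.z := fun e => hprw (by rw [e, q.pr_of_mem_b (q.b.X_le q.b.z_mem_X)]; exact one_mem _)
  have hwind : q.a.z * w ≠ q.b.z := fun e => hprw (by
    have e' : w = q.a.z * q.b.z := by rw [← e, ← mul_assoc, q.a.z_mul_z, one_mul]
    rw [e', q.pr_eq (q.a.X_le q.a.z_mem_X) (q.b.X_le q.b.z_mem_X)]; exact q.a.z_mem_X)
  obtain ⟨f, hf, hfe⟩ := sq_almost_trivial q hB (fun b hb => by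
      obtain ⟨f, hf, rfl⟩ := hout b hb
      have e1 : f * f * (f * f) = 1 := by
        obtain ⟨e1, e2⟩ := sqF f hf
        have hff : f * f = q.swap.pr f * q.swap.pr f := by
          conv_lhs => rw [← q.split (P.mul_mem (hFP hf) (hFP hf)), e1, one_mul, q.swap.pr_sq (hFP hf)]
        rw [hff, q.b.Z_sq e2]
      calc m * f * m⁻¹ * (m * f * m⁻¹) * (m * f * m⁻¹ * (m * f * m⁻¹)) = m * (f * f * (f * f)) * m⁻¹ := by group
        _ = 1 := by rw [e1]; group)
    ⟨_, hin q.b.c ⟨hcbE, hcbE'⟩, fun e => q.b.z_ne_one (one' (by rw [← q.b.c_mul_c, ← e]; group))⟩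
    (hin _ hzaF) (hin _ hwF) (hin _ hzbF) (sqc q.a.z_mul_z) (sqc hw2) (sqc q.b.z_mul_z)
    (fun e => q.a.z_ne_one (one' e)) (fun e => hwne1 (one' e)) (fun e => q.b.z_ne_one (one' e))
    (fun e => hwza (inj e)) (fun e => q.z_ne (inj e)) (fun e => hwzb (inj e))
    (fun e => hwind (inj (by rw [← e]; group)))
    (hcen _ fun e he => q.za_comm (hES he)) (hcen _ (mem_cen.mp hwc).2) (hcen _ fun e he => q.swap.za_comm (hES he))
    hs (hin q.b.c ⟨hcbE, hcbE'⟩)
  obtain ⟨f', hf', rfl⟩ := hout f hf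
  -- compare first projections
  have hδo : δ ^ o = δ := by
    obtain ⟨i, rfl⟩ := ho
    rw [pow_succ, pow_mul, pow_two, hδ2, one_pow, one_mul]
  have key : δ = f' * f' := by
    refine inj ?_
    rw [show m * (f' * f') * m⁻¹ = m * f' * m⁻¹ * (m * f' * m⁻¹) by group, ← hfe]
    have hh := hiter o
    rw [hδo, (Commute.refl p).mul_pow] at hh
    rw [show s = m * p ^ o * m⁻¹ by rw [hs0, hm0]; simp only [mul_inv_rev, mul_assoc],
      show m * p ^ o * m⁻¹ * (m * p ^ o * m⁻¹) * (m * q.b.c * m⁻¹) * (m * p ^ o * m⁻¹ * (m * p ^ o * m⁻¹))⁻¹ *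
        (m * q.b.c * m⁻¹)⁻¹ = m * (p ^ o * p ^ o * q.b.c * (p ^ o * p ^ o)⁻¹ * q.b.c⁻¹) * m⁻¹ by
          simp only [mul_inv_rev, inv_inv, mul_assoc, inv_mul_cancel_left], hh, mul_inv_cancel_right]
  refine hprw ?_
  have h1 := congrArg q.pr key
  rw [(sqF f' hf').1, hδ, q.pr_mul (q.zb_mem) (hES hwE), q.pr_of_mem_b (q.b.X_le q.b.z_mem_X), one_mul] at h1
  rw [h1]; exact one_mem _

end CfsgLib.SDSquare
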