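import Cfsg.Agent.Lib.SDSquare.Kill

/-!
Elements of odd order normalising the Sylow subgroup centralise it.
-/

set_option autoImplicit false
set_option linter.unusedSectionVars false

namespace CfsgLib.SDSquare

open Cfsg Cfsg.FusionSystem Subgroup CfsgLib.AfterFT.DihedralSquare

universe u
variable {G : Type u} [Group G]

namespace SDGen

variable (d : SDGen G)

theorem x_sq_sq_ne : d.x * d.x * (d.x * d.x) ≠ 1 := by
  intro h
  have h4 : d.x ^ (4 : ℤ) = 1 := by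
    rw [show (4 : ℤ) = 1 + 1 + (1 + 1) by norm_num, zpow_add, zpow_add, zpow_one]; exact h
  rw [d.zpow_eq_one] at h4
  have := Int.le_of_dvd (by norm_num) h4
  have := d.M_pos
  omega

theorem off_inverts_sq {u p : G} (hu : d.Off u) (hp : p ∈ d.D) : u * (p * p) * u⁻¹ = (p * p)⁻¹ := by
  by_cases hX : p ∈ d.X
  · obtain ⟨i, rfl⟩ := hX
    rw [d.off_conj hu (mul_mem (d.zpow_mem_X i) (d.zpow_mem_X i))]
    show (d.x ^ i * d.x ^ i) ^ (4 * (d.M : ℤ) - 1) = (d.x ^ i * d.x ^ i)⁻¹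
    rw [← zpow_add, ← zpow_mul, ← zpow_neg, d.zpow_eq]
    exact ⟨-i, by ring⟩
  · rcases d.mem_Z.mp (d.off_sq ⟨hp, hX⟩) with e | e <;> rw [e]
    · simp
    · rw [← d.z_comm hu.1, mul_inv_cancel_right, d.z_inv]

/-- The square of the rotation is a commutator. -/
theorem x_sq_comm : ∃ r ∈ d.X, r * d.y * r⁻¹ * d.y⁻¹ = d.x * d.x := by
  refine ⟨d.x ^ (1 - 2 * (d.M : ℤ)), d.zpow_mem_X _, ?_⟩
  rw [d.rot_off d.off_y (d.zpow_mem_X _), ← zpow_mul]
  nth_rewrite 2 [← zpow_one d.x]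
  nth_rewrite 3 [← zpow_one d.x]
  rw [← zpow_add, d.zpow_eq]
  exact ⟨1 - (d.M : ℤ), by ring⟩

end SDGen

variable [Finite G] {P : Sylow 2 G} (q : Square (P : Subgroup G))

theorem mem_sqCent_top {m : G} (hm : m ∈ (P : Subgroup G)) :
    m ∈ sqCent (P : Subgroup G) ↔ q.pr m ∈ q.a.X ∧ q.swap.pr m ∈ q.b.X := by
  constructor
  · intro h
    have key : ∀ p : Square (P : Subgroup G), p.pr m ∈ p.a.X := by
      intro p
      have hr := p.aD_le (p.a.X_le p.a.rt_mem_X)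
      have h1 := p.pr_commute hm (P.mul_mem hr hr) ((mem_sqCent.mp h).2 _ hr)
      rw [p.a.rt_mul_rt, p.pr_of_mem (p.a.X_le p.a.c_mem_X)] at h1
      exact p.a.c_comm_mem (p.pr_mem hm) h1.symm
    exact ⟨key q, key q.swap⟩
  · rintro ⟨h1, h2⟩
    refine mem_sqCent.mpr ⟨hm, fun e he => q.commute_of hm (P.mul_mem he he) ?_ ?_⟩
    · rw [q.pr_sq he]; exact q.a.rot_comm h1 (q.a.sq_mem_X (q.pr_mem he))
    · rw [q.swap.pr_sq he]; exact q.b.rot_comm h2 (q.b.sq_mem_X (q.pr'_mem he))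

theorem inverts_iff {s : G} (hs : s ∈ (P : Subgroup G)) :
    (∀ e ∈ (P : Subgroup G), s * (e * e) * s⁻¹ = (e * e)⁻¹) ↔ q.pr s ∉ q.a.X ∧ q.swap.pr s ∉ q.b.X := by
  constructor
  · intro h
    have key : ∀ p : Square (P : Subgroup G), p.pr s ∉ p.a.X := by
      intro p hX
      have hx := p.aD_le (p.a.X_le (mem_zpowers p.a.x))
      have h1 := congrArg p.pr (h _ hx)
      rw [p.pr_conj hs (P.mul_mem hx hx), p.pr_inv (P.mul_mem hx hx),
        p.pr_of_mem (mul_mem (p.a.X_le (mem_zpowers p.a.x)) (p.a.X_le (mem_zpowers p.a.x))),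
        p.a.rot_comm hX (mul_mem (mem_zpowers _) (mem_zpowers _)), mul_inv_cancel_right] at h1
      exact p.a.x_sq_sq_ne (eq_inv_iff_mul_eq_one.mp h1)
    exact ⟨key q, key q.swap⟩
  · rintro ⟨h1, h2⟩ e he
    refine q.ext (P.mul_mem (P.mul_mem hs (P.mul_mem he he)) (P.inv_mem hs)) (P.inv_mem (P.mul_mem he he)) ?_ ?_
    · rw [q.pr_conj hs (P.mul_mem he he), q.pr_inv (P.mul_mem he he), q.pr_sq he]
      exact q.a.off_inverts_sq ⟨q.pr_mem hs, h1⟩ (q.pr_mem he)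
    · rw [q.swap.pr_conj hs (P.mul_mem he he), q.swap.pr_inv (P.mul_mem he he), q.swap.pr_sq he]
      exact q.b.off_inverts_sq ⟨q.pr'_mem hs, h2⟩ (q.pr'_mem he)

/-- A normalising element preserves or exchanges the two intermediate subgroups. -/
theorem keep_or_swap {n : G} (hn : n ∈ normalizer ((P : Subgroup G) : Set G)) :
    (∀ a ∈ (P : Subgroup G), q.pr a ∈ q.a.X → q.pr (n * a * n⁻¹) ∈ q.a.X) ∨
    ((∀ a ∈ (P : Subgroup G), q.pr a ∈ q.a.X → q.swap.pr (n * a * n⁻¹) ∈ q.b.X) ∧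
      ∀ a ∈ (P : Subgroup G), q.swap.pr a ∈ q.b.X → q.pr (n * a * n⁻¹) ∈ q.a.X) := by
  have hnP : ∀ {a}, a ∈ (P : Subgroup G) → n * a * n⁻¹ ∈ (P : Subgroup G) := fun ha => (mem_normalizer_iff.mp hn _).mp ha
  have hC : ∀ a ∈ (P : Subgroup G), q.pr a ∈ q.a.X → q.swap.pr a ∈ q.b.X →
      q.pr (n * a * n⁻¹) ∈ q.a.X ∧ q.swap.pr (n * a * n⁻¹) ∈ q.b.X := fun a ha h1 h2 =>
    (mem_sqCent_top q (hnP ha)).mp (inv_sqCent.conj n hn a ((mem_sqCent_top q ha).mpr ⟨h1, h2⟩))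
  have hB : ∀ a ∈ (P : Subgroup G),
      (q.pr (n * a * n⁻¹) ∉ q.a.X ∧ q.swap.pr (n * a * n⁻¹) ∉ q.b.X) → q.pr a ∉ q.a.X ∧ q.swap.pr a ∉ q.b.X := by
    intro a ha h
    refine (inverts_iff q ha).mp fun e he => ?_
    have h1 := (inverts_iff q (hnP ha)).mpr h _ (hnP he)
    exact (MulAut.conj n).injective (by simpa [mul_assoc] using h1)
  set a₀ := q.b.y with ha₀
  set b₀ := q.a.y with hb₀
  have ha₀P : a₀ ∈ (P : Subgroup G) := q.bD_le q.b.off_y.1
  have hb₀P : b₀ ∈ (P : Subgroup G) := q.aD_le q.a.off_y.1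
  have pa : q.pr a₀ = 1 ∧ q.swap.pr a₀ = q.b.y := ⟨q.pr_of_mem_b q.b.off_y.1, q.pr'_of_mem_b q.b.off_y.1⟩
  have pb : q.pr b₀ = q.a.y ∧ q.swap.pr b₀ = 1 := ⟨q.pr_of_mem q.a.off_y.1, q.pr'_of_mem q.a.off_y.1⟩
  -- one element decides
  have spread : ∀ (p₁ p₂ : Square (P : Subgroup G)), p₁ = q ∨ p₁ = q.swap → p₂ = q ∨ p₂ = q.swap → ∀ c ∈ (P : Subgroup G),
      p₁.pr c ∈ p₁.a.X → p₁.swap.pr c ∉ p₁.b.X → p₂.pr (n * c * n⁻¹) ∈ p₂.a.X →
      ∀ a ∈ (P : Subgroup G), p₁.pr a ∈ p₁.a.X → p₂.pr (n * a * n⁻¹) ∈ p₂.a.X := by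
    intro p₁ p₂ h₁ h₂ c hc hc1 hc2 hc3 a ha ha1
    have hC' : ∀ m ∈ (P : Subgroup G), p₁.pr m ∈ p₁.a.X → p₁.swap.pr m ∈ p₁.b.X → p₂.pr (n * m * n⁻¹) ∈ p₂.a.X := by
      intro m hm m1 m2
      have : q.pr m ∈ q.a.X ∧ q.swap.pr m ∈ q.b.X := by
        rcases h₁ with rfl | rfl
        exacts [⟨m1, m2⟩, ⟨m2, m1⟩]
      have := hC m hm this.1 this.2
      rcases h₂ with rfl | rfl
      exacts [this.1, this.2]
    by_cases ha2 : p₁.swap.pr a ∈ p₁.b.X
    · exact hC' a ha ha1 ha2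
    · have hm : a * c ∈ (P : Subgroup G) := P.mul_mem ha hc
      have h3 := hC' _ hm (by rw [p₁.pr_mul ha hc]; exact mul_mem ha1 hc1) (by
        rw [p₁.swap.pr_mul ha hc]
        exact p₁.b.off_mul_off ⟨p₁.pr'_mem ha, ha2⟩ ⟨p₁.pr'_mem hc, hc2⟩)
      rw [show n * (a * c) * n⁻¹ = n * a * n⁻¹ * (n * c * n⁻¹) by group, p₂.pr_mul (hnP ha) (hnP hc)] at h3
      exact (Subgroup.mul_mem_cancel_right _ hc3).mp h3
  by_cases h0 : q.pr (n * a₀ * n⁻¹) ∈ q.a.X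
  · exact Or.inl (spread q q (Or.inl rfl) (Or.inl rfl) a₀ ha₀P (by rw [pa.1]; exact one_mem _)
      (by rw [pa.2]; exact q.b.off_y.2) h0)
  · refine Or.inr ⟨spread q q.swap (Or.inl rfl) (Or.inr rfl) a₀ ha₀P (by rw [pa.1]; exact one_mem _)
      (by rw [pa.2]; exact q.b.off_y.2) ?_, spread q.swap q (Or.inr rfl) (Or.inl rfl) b₀ hb₀P
      (by rw [pb.2]; exact one_mem _) (by show q.swap.swap.pr b₀ ∉ q.a.X; rw [show q.swap.swap = q from rfl, pb.1]
                                          exact q.a.off_y.2) ?_⟩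
    · by_contra h1
      exact (hB a₀ ha₀P ⟨h0, h1⟩).1 (by rw [pa.1]; exact one_mem _)
    · -- the product of the two is the inverting class
      have h1 : q.swap.pr (n * a₀ * n⁻¹) ∈ q.b.X := by
        by_contra h1
        exact (hB a₀ ha₀P ⟨h0, h1⟩).1 (by rw [pa.1]; exact one_mem _)
      by_contra h2
      have hab : b₀ * a₀ ∈ (P : Subgroup G) := P.mul_mem hb₀P ha₀P
      have hinv := (inverts_iff q hab).mpr ⟨by rw [q.pr_mul hb₀P ha₀P, pb.1, pa.1, mul_one]; exact q.a.off_y.2,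
        by rw [q.swap.pr_mul hb₀P ha₀P, pb.2, pa.2, one_mul]; exact q.b.off_y.2⟩
      have hinv' : ∀ e ∈ (P : Subgroup G),
          n * (b₀ * a₀) * n⁻¹ * (e * e) * (n * (b₀ * a₀) * n⁻¹)⁻¹ = (e * e)⁻¹ := by
        intro e he
        have := congrArg (MulAut.conj n) (hinv _ ((mem_normalizer_iff''.mp hn e).mp he))
        simpa [mul_assoc] using this
      have h3 := ((inverts_iff q (hnP hab)).mp hinv').1
      rw [show n * (b₀ * a₀) * n⁻¹ = n * b₀ * n⁻¹ * (n * a₀ * n⁻¹) by group, q.pr_mul (hnP hb₀P) (hnP ha₀P)] at h3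
      exact h3 (q.a.off_mul_off ⟨q.pr_mem (hnP hb₀P), h2⟩ ⟨q.pr_mem (hnP ha₀P), h0⟩)

/-- Odd elements keep the intermediate subgroups. -/
theorem odd_keep {g : G} (hg : g ∈ normalizer ((P : Subgroup G) : Set G)) (ho : Odd (orderOf g)) {a : G}
    (ha : a ∈ (P : Subgroup G)) (hX : q.pr a ∈ q.a.X) : q.pr (g * a * g⁻¹) ∈ q.a.X := by
  obtain ⟨m, hm⟩ := ho
  have e : g = (g * g) ^ (m + 1) := by
    rw [← pow_two, ← pow_mul, show 2 * (m + 1) = orderOf g + 1 by omega, pow_succ, pow_orderOf_eq_one, one_mul]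
  have h2 : ∀ b ∈ (P : Subgroup G), q.pr b ∈ q.a.X → q.pr (g * g * b * (g * g)⁻¹) ∈ q.a.X := by
    intro b hb hbX
    have hgb : g * b * g⁻¹ ∈ (P : Subgroup G) := (mem_normalizer_iff.mp hg b).mp hb
    rw [show g * g * b * (g * g)⁻¹ = g * (g * b * g⁻¹) * g⁻¹ by group]
    rcases keep_or_swap q hg with h | ⟨h, h'⟩
    · exact h _ hgb (h b hb hbX)
    · exact h' _ hgb (h b hb hbX)
  have h3 : ∀ k : ℕ, q.pr ((g * g) ^ k * a * ((g * g) ^ k)⁻¹) ∈ q.a.X := by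
    intro k
    induction k with
    | zero => simpa using hX
    | succ k ih =>
      rw [pow_succ', show g * g * (g * g) ^ k * a * (g * g * (g * g) ^ k)⁻¹ =
        g * g * ((g * g) ^ k * a * ((g * g) ^ k)⁻¹) * (g * g)⁻¹ by simp only [mul_inv_rev, mul_assoc]]
      exact h2 _ ((mem_normalizer_iff.mp (pow_mem (mul_mem hg hg) k) a).mp ha) ih
  rw [e]
  exact h3 _

theorem odd_frattini {g : G} (hg : g ∈ normalizer ((P : Subgroup G) : Set G)) (ho : Odd (orderOf g)) :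
    q.b.x⁻¹ * (g * q.b.x * g⁻¹) ∈ (frattini (P : Subgroup G)).map (P : Subgroup G).subtype := by
  have hbx := q.b.X_le (mem_zpowers q.b.x)
  have hxP := q.bD_le hbx
  have hkP : g * q.b.x * g⁻¹ ∈ (P : Subgroup G) := (mem_normalizer_iff.mp hg _).mp hxP
  set k := g * q.b.x * g⁻¹ with hk
  have hkX : q.swap.pr k ∈ q.b.X := odd_keep q.swap hg ho hxP (by
    show q.swap.pr q.b.x ∈ q.b.X
    rw [q.pr'_of_mem_b hbx]; exact mem_zpowers _)
  obtain ⟨r, hr, hcomm⟩ := q.b.x_sq_comm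
  have hrP := q.bD_le (q.b.X_le hr)
  have hyP := q.bD_le q.b.off_y.1
  have hrg : q.pr (g * r * g⁻¹) ∈ q.a.X := odd_keep q hg ho hrP (by rw [q.pr_of_mem_b (q.b.X_le hr)]; exact one_mem _)
  have hyg : q.pr (g * q.b.y * g⁻¹) ∈ q.a.X := odd_keep q hg ho hyP (by rw [q.pr_of_mem_b q.b.off_y.1]; exact one_mem _)
  have hkz : q.pr k ∈ q.a.Z := by
    refine q.a.eq_Z_of_sq (odd_keep q hg ho hxP (by rw [q.pr_of_mem_b hbx]; exact one_mem _)) ?_
    have hR : g * r * g⁻¹ ∈ (P : Subgroup G) := (mem_normalizer_iff.mp hg _).mp hrP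
    have hY : g * q.b.y * g⁻¹ ∈ (P : Subgroup G) := (mem_normalizer_iff.mp hg _).mp hyP
    rw [← q.pr_sq hkP, show k * k = g * (q.b.x * q.b.x) * g⁻¹ by rw [hk]; group, ← hcomm,
      show g * (r * q.b.y * r⁻¹ * q.b.y⁻¹) * g⁻¹ =
        g * r * g⁻¹ * (g * q.b.y * g⁻¹) * (g * r * g⁻¹)⁻¹ * (g * q.b.y * g⁻¹)⁻¹ by group,
      q.pr_mul (P.mul_mem (P.mul_mem hR hY) (P.inv_mem hR)) (P.inv_mem hY), q.pr_conj hR hY, q.pr_inv hY,
      q.a.rot_comm hrg hyg, mul_inv_cancel_right, mul_inv_cancel]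
  obtain ⟨j, hj⟩ := hkX
  change q.b.x ^ j = q.swap.pr k at hj
  have hs : k = q.pr k * q.b.x ^ j := by rw [hj]; exact (q.split hkP).symm
  have hpk : q.pr k ∈ q.a.D := q.pr_mem hkP
  have hcom : Commute (q.pr k) (q.b.x ^ j) := q.comm_ab hpk (q.b.X_le (q.b.zpow_mem_X j))
  rcases Int.even_or_odd' j with ⟨i, rfl | rfl⟩
  · exfalso
    have h1 : q.b.x ^ (4 * (q.b.M : ℤ)) = 1 := by
      have h2 : k ^ (4 * (q.b.M : ℤ)) = 1 := by
        rw [hs, hcom.mul_zpow, ← zpow_mul]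
        have hp4 : q.pr k ^ (4 * (q.b.M : ℤ)) = 1 := by
          rw [show 4 * (q.b.M : ℤ) = 2 * (2 * q.b.M) by ring, zpow_mul, zpow_two, q.a.Z_sq hkz, one_zpow]
        rw [hp4, one_mul, q.b.zpow_eq_one]
        exact ⟨i, by ring⟩
      rw [hk, conj_zpow, conj_eq_one_iff] at h2
      exact h2
    exact q.b.z_ne_one h1
  · obtain ⟨s, hsP, hss⟩ : ∃ s ∈ (P : Subgroup G), q.b.x⁻¹ * k = s * s := by
      have hxi : q.b.x ^ i ∈ q.b.D := q.b.X_le (q.b.zpow_mem_X i)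
      have e1 : q.b.x⁻¹ * k = q.pr k * (q.b.x ^ i * q.b.x ^ i) := by
        rw [hs, q.pr_mul (q.aD_le hpk) (q.bD_le (q.b.X_le (q.b.zpow_mem_X _))), q.pr_of_mem hpk,
          q.pr_of_mem_b (q.b.X_le (q.b.zpow_mem_X _)), mul_one, ← mul_assoc,
          ← q.comm_ab hpk (inv_mem hbx), mul_assoc, ← zpow_add]
        congr 1
        group
      rcases q.a.mem_Z.mp hkz with e | e <;> rw [e] at e1
      · exact ⟨q.b.x ^ i, q.bD_le hxi, by rw [e1, one_mul]⟩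
      · refine ⟨q.a.c * q.b.x ^ i, P.mul_mem (q.aD_le (q.a.X_le q.a.c_mem_X)) (q.bD_le hxi), ?_⟩
        rw [e1, ← q.a.c_mul_c]
        calc q.a.c * q.a.c * (q.b.x ^ i * q.b.x ^ i) = q.a.c * (q.a.c * q.b.x ^ i) * q.b.x ^ i := by group
          _ = q.a.c * (q.b.x ^ i * q.a.c) * q.b.x ^ i := by rw [q.comm_ab (q.a.X_le q.a.c_mem_X) hxi]
          _ = q.a.c * q.b.x ^ i * (q.a.c * q.b.x ^ i) := by group
    rw [hss]
    exact sq_mem_frattini le_rfl hsP

/-- **Odd elements of the normalizer centralise the Sylow subgroup.** -/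
theorem odd_central (q : Square (P : Subgroup G)) {g : G} (hg : g ∈ normalizer ((P : Subgroup G) : Set G)) (ho : Odd (orderOf g)) {a : G}
    (ha : a ∈ (P : Subgroup G)) : g * a * g⁻¹ = a := by
  haveI : Fact (Nat.Prime 2) := ⟨Nat.prime_two⟩
  set Φ := frattini (P : Subgroup G)
  haveI : Φ.Normal := inferInstance
  have hzp : ∀ i : ℤ, Odd (orderOf (g ^ i)) := fun i => ho.of_dvd_nat (orderOf_dvd_of_pow_eq_one (by
    rw [← zpow_natCast, ← zpow_mul, mul_comm, zpow_mul, zpow_natCast, pow_orderOf_eq_one, one_zpow]))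
  let M : Subgroup ↥(P : Subgroup G) := (sqCent (P : Subgroup G)).subgroupOf (P : Subgroup G)
  have hα : IsPGroup 2 (zpowers (conjAut hg)) := by
    refine isPGroup_two_step P.2 _ M ?_ ?_ <;> intro α hα <;> obtain ⟨i, rfl⟩ := mem_zpowers_iff.mp hα <;>
      have hgi := zpow_mem hg i <;>
      have hconj : ∀ e : ↥(P : Subgroup G), (((conjAut hg ^ i) e : ↥(P : Subgroup G)) : G) = g ^ i * e * (g ^ i)⁻¹ :=
        fun e => by
          have h0 : conjAut hg ^ i = conjAut hgi := (map_zpow (P : Subgroup G).normalizerMonoidHom ⟨g, hg⟩ i).symm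
          rw [h0, conjAut_apply]
    · intro e
      have heP := (mem_normalizer_iff.mp hgi (e : G)).mp e.2
      show ((e⁻¹ * (conjAut hg ^ i) e : ↥(P : Subgroup G)) : G) ∈ sqCent (P : Subgroup G)
      rw [Subgroup.coe_mul, Subgroup.coe_inv, hconj]
      refine (mem_sqCent_top q (P.mul_mem (P.inv_mem e.2) heP)).mpr ?_
      have key : ∀ p : Square (P : Subgroup G), p.pr ((e : G)⁻¹ * (g ^ i * e * (g ^ i)⁻¹)) ∈ p.a.X := by
        intro p
        rw [p.pr_mul (P.inv_mem e.2) heP, p.pr_inv e.2]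
        by_cases hX : p.pr (e : G) ∈ p.a.X
        · exact mul_mem (inv_mem hX) (odd_keep p hgi (hzp i) e.2 hX)
        · have hn : p.pr (g ^ i * e * (g ^ i)⁻¹) ∉ p.a.X := fun h' => hX (by
            have := odd_keep p (inv_mem hgi) (by rw [orderOf_inv]; exact hzp i) heP h'
            simpa [mul_assoc] using this)
          exact p.a.off_mul_off ⟨inv_mem (p.pr_mem e.2), fun h' => hX (inv_mem_iff.mp h')⟩ ⟨p.pr_mem heP, hn⟩
      exact ⟨key q, key q.swap⟩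
    · intro m hm
      let K : Subgroup ↥(P : Subgroup G) :=
        { carrier := {m | m⁻¹ * (conjAut hg ^ i) m ∈ Φ}
          one_mem' := by simp
          mul_mem' := fun {u v} hu hv => by
            have := Φ.mul_mem ((inferInstance : Φ.Normal).conj_mem _ hu v⁻¹) hv
            simpa [mul_assoc] using this
          inv_mem' := fun {u} hu => by
            have := Φ.inv_mem ((inferInstance : Φ.Normal).conj_mem _ hu u)
            simpa [mul_assoc] using this }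
      have hxK : ∀ p : Square (P : Subgroup G),
          (⟨p.b.x, p.bD_le (p.b.X_le (mem_zpowers _))⟩ : ↥(P : Subgroup G)) ∈ K := by
        intro p
        obtain ⟨f, hf, hfe⟩ := odd_frattini p hgi (hzp i)
        have e : (⟨p.b.x, p.bD_le (p.b.X_le (mem_zpowers _))⟩ : ↥(P : Subgroup G))⁻¹ * (conjAut hg ^ i)
            ⟨p.b.x, p.bD_le (p.b.X_le (mem_zpowers _))⟩ = f := by
          refine Subtype.ext ?_
          rw [Subgroup.coe_mul, Subgroup.coe_inv, hconj]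
          exact hfe.symm
        show _ ∈ Φ
        rw [e]; exact hf
      obtain ⟨h1, h2⟩ := (mem_sqCent_top q m.2).mp hm
      obtain ⟨i₁, hi₁⟩ := h1
      obtain ⟨i₂, hi₂⟩ := h2
      change q.a.x ^ i₁ = q.pr m at hi₁
      change q.b.x ^ i₂ = q.swap.pr m at hi₂
      have hmm : m = (⟨q.a.x, q.aD_le (q.a.X_le (mem_zpowers _))⟩ : ↥(P : Subgroup G)) ^ i₁ *
          (⟨q.b.x, q.bD_le (q.b.X_le (mem_zpowers _))⟩ : ↥(P : Subgroup G)) ^ i₂ := Subtype.ext (by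
        rw [Subgroup.coe_mul, Subgroup.coe_zpow, Subgroup.coe_zpow, hi₁, hi₂, q.split m.2])
      show m ∈ K
      rw [hmm]
      exact mul_mem (zpow_mem (hxK q.swap) i₁) (zpow_mem (hxK q) i₂)
  obtain ⟨n, hn⟩ := hα ⟨conjAut hg, mem_zpowers _⟩
  have h1 : conjAut hg ^ 2 ^ n = 1 := by simpa using congrArg Subtype.val hn
  have h2 : conjAut hg ^ orderOf g = 1 := by
    rw [conjAut, ← map_pow, show (⟨g, hg⟩ : normalizer ((P : Subgroup G) : Set G)) ^ orderOf g = 1 from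
      Subtype.ext (by simp [pow_orderOf_eq_one]), map_one]
  have h3 : conjAut hg = 1 := by
    have hc : (2 ^ n).Coprime (orderOf g) := (Nat.coprime_two_left.mpr ho).pow_left n
    have := (pow_gcd_eq_one (a := conjAut hg) (m := 2 ^ n) (n := orderOf g)).mpr ⟨h1, h2⟩
    rwa [Nat.coprime_iff_gcd_eq_one.mp hc, pow_one] at this
  exact congrArg (fun f : MulAut ↥(P : Subgroup G) => ((f ⟨a, ha⟩ : ↥(P : Subgroup G)) : G)) h3

end CfsgLib.SDSquare
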