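import Cfsg.Agent.Lib.SDSquare.KillPair

/-!
The two types of essential subgroups, and their invariant subgroups.
-/

set_option autoImplicit false
set_option linter.unusedSectionVars false

namespace CfsgLib.SDSquare

open Cfsg Cfsg.FusionSystem Subgroup CfsgLib.AfterFT.DihedralSquare

universe u
variable {G : Type u} [Group G] [Finite G] {P : Sylow 2 G} {E : Subgroup G}

/-- `E = V × D'` with `V` a four group in the first factor. -/
structure TypeV (q : Square (P : Subgroup G)) (E : Subgroup G) (u : G) : Prop where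
  ess : (groupFusionSystem (P : Subgroup G)).IsEssential 2 E
  four : Four q E u
  bD : q.b.D ≤ E

/-- `E = Q × D'` with `Q` quaternion in the first factor. -/
structure TypeQ (q : Square (P : Subgroup G)) (E : Subgroup G) (u : G) : Prop where
  ess : (groupFusionSystem (P : Subgroup G)).IsEssential 2 E
  eight : Eight q E u
  mem : u ∈ E
  sq : u * u = q.a.z
  bD : q.b.D ≤ E

/-- The elements of `E` whose second projection lies in `H`. -/
def part (q : Square (P : Subgroup G)) (H : Subgroup G) : Subgroup G where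
  carrier := {g | g ∈ (P : Subgroup G) ∧ q.pr g ∈ H}
  one_mem' := ⟨one_mem _, by rw [q.pr_one]; exact one_mem _⟩
  mul_mem' := by
    rintro a b ⟨ha, ha'⟩ ⟨hb, hb'⟩
    exact ⟨mul_mem ha hb, by rw [q.pr_mul ha hb]; exact mul_mem ha' hb'⟩
  inv_mem' := by
    rintro a ⟨ha, ha'⟩
    exact ⟨inv_mem ha, by rw [q.pr_inv ha]; exact inv_mem ha'⟩

variable {q : Square (P : Subgroup G)}

/-- **Classification of the essential subgroups.** -/
theorem classify (hE : (groupFusionSystem (P : Subgroup G)).IsEssential 2 E) :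
    (∃ u, TypeV q E u ∨ TypeQ q E u) ∨ ∃ u, TypeV q.swap E u ∨ TypeQ q.swap E u := by
  haveI : Fact (Nat.Prime 2) := ⟨Nat.prime_two⟩
  have hES := hE.1.1
  have side : ∀ p : Square (P : Subgroup G), ¬ p.a.D ≤ E → p.b.D ≤ E → ∃ u, TypeV p E u ∨ TypeQ p E u := by
    intro p ha hb
    rcases four_or_eight p hE ha with ⟨u, h⟩ | ⟨u, h⟩
    · exact ⟨u, Or.inl ⟨hE, h, hb⟩⟩
    · have huE : u ∈ E := h.u_mem_of hES fun e he => hb (p.pr'_mem (hES he))
      rcases p.a.off_cases h.off with ⟨hu, -⟩ | ⟨hu, -⟩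
      · refine absurd (h.false_refl hE hu huE fun i hi j hj hi2 hj2 => ?_) id
        have hz : ∀ m ∈ sqCent E, m * m = 1 → p.swap.pr m ∈ p.b.Z := by
          intro m hm hm2
          obtain ⟨hmE, hmc⟩ := mem_sqCent.mp hm
          have hrt : p.b.rt ∈ E := hb (p.b.X_le p.b.rt_mem_X)
          have h1 := p.swap.pr_commute (hES hmE) (P.mul_mem (hES hrt) (hES hrt)) (hmc _ hrt)
          rw [p.b.rt_mul_rt, p.pr'_of_mem_b (p.b.X_le p.b.c_mem_X)] at h1
          refine p.b.eq_Z_of_sq (p.b.c_comm_mem (p.pr'_mem (hES hmE)) h1.symm) ?_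
          rw [← p.swap.pr_sq (hES hmE), hm2, p.swap.pr_one]
        rw [p.swap.pr_mul (hES (mem_sqCent.mp hi).1) (hES (mem_sqCent.mp hj).1)]
        exact p.b.Z_sq (mul_mem (hz i hi hi2) (hz j hj hj2))
      · exact ⟨u, Or.inr ⟨hE, h, huE, hu, hb⟩⟩
  by_cases ha : q.a.D ≤ E
  · by_cases hb : q.b.D ≤ E
    · exact absurd (q.prod.2.2.2.2.ge.trans (sup_le ha hb)) (not_le_of_gt (hE.lt P.2 (groupFusionSystem_isSaturated P)))
    · exact Or.inr (side q.swap hb ha)
  · by_cases hb : q.b.D ≤ E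
    · exact Or.inl (side q ha hb)
    · exfalso
      rcases four_or_eight q hE ha with ⟨u, h⟩ | ⟨u, h⟩ <;>
        rcases four_or_eight q.swap hE hb with ⟨v, h'⟩ | ⟨v, h'⟩
      · exact false_four_four q hE h h'
      · exact false_four_eight hE h h'
      · exact false_four_eight (q := q.swap) hE h' h
      · exact false_eight_eight hE h h'

/-- Involutions form an invariant set. -/
theorem inv_closure_invol : Inv E (closure {e | e ∈ E ∧ e * e = 1}) := by
  refine Inv.closure_set (fun e he => he.1) ?_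
  rintro g hg e ⟨he, he2⟩
  exact ⟨(mem_normalizer_iff.mp hg e).mp he,
    by rw [show g * e * g⁻¹ * (g * e * g⁻¹) = g * (e * e) * g⁻¹ by group, he2]; group⟩

/-- A centralizer in `E` of an invariant subgroup is invariant. -/
theorem inv_cent {L : Subgroup G} (hL : Inv E L) : Inv E (E ⊓ centralizer (L : Set G)) := by
  refine Inv.of_iff inf_le_left (fun m => ∀ l ∈ L, l * m = m * l)
    (fun m hm => ⟨fun h => mem_centralizer_iff.mp h.2, fun h => ⟨hm, mem_centralizer_iff.mpr h⟩⟩)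
    fun g hg m _ h l hl => ?_
  have hl' := hL.conj g⁻¹ (inv_mem hg) l hl
  have h1 := congrArg (MulAut.conj g) (h _ hl')
  simp only [MulAut.conj_apply] at h1
  calc l * (g * m * g⁻¹) = g * (g⁻¹ * l * g⁻¹⁻¹ * m) * g⁻¹ := by group
    _ = g * (m * (g⁻¹ * l * g⁻¹⁻¹)) * g⁻¹ := h1
    _ = g * m * g⁻¹ * l := by group

namespace TypeV

variable {u : G} (h : TypeV q E u)
include h

theorem le : E ≤ P := h.ess.1.1

theorem Zb_le : q.b.Z ≤ E := (q.b.Z_le.trans q.b.X_le).trans h.bD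

theorem mem_cen_iff {e : G} (he : e ∈ E) : e ∈ cen E ↔ q.swap.pr e ∈ q.b.Z := by
  have hES := h.le
  constructor
  · intro hc
    obtain ⟨-, hc⟩ := mem_cen.mp hc
    have hcb := q.b.X_le q.b.c_mem_X
    have h1 := q.swap.pr_commute (hES he) (q.bD_le hcb) (hc _ (h.bD hcb))
    rw [q.pr'_of_mem_b hcb] at h1
    have h2 := q.swap.pr_commute (hES he) (q.bD_le q.b.off_y.1) (hc _ (h.bD q.b.off_y.1))
    rw [q.pr'_of_mem_b q.b.off_y.1] at h2
    exact q.b.off_comm_rot q.b.off_y (q.b.c_comm_mem (q.pr'_mem (hES he)) h1.symm) h2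
  · intro hz
    exact mem_cen.mpr ⟨he, fun f hf => q.commute_of (hES he) (hES hf) (h.four.pr_comm he hf hES)
      (q.b.Z_comm (q.pr'_mem (hES hf)) hz)⟩

theorem inv_Zb : Inv E q.b.Z := by
  refine ⟨h.Zb_le, fun g hg l hl => ?_⟩
  rcases q.b.mem_Z.mp hl with rfl | rfl
  · simp
  · have hcE := h.bD (q.b.X_le q.b.c_mem_X)
    have hgc := (mem_normalizer_iff.mp hg _).mp hcE
    have hzE : q.b.z ∈ E := h.Zb_le (mem_zpowers _)
    have hcen : q.b.z ∈ cen E := mem_cen.mpr ⟨hzE, fun f hf => q.swap.za_comm (h.le hf)⟩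
    have hm := inv_cen.conj g hg _ hcen
    have hmP := h.le (mem_cen.mp hm).1
    rw [← q.split hmP]
    refine mul_mem ?_ ((h.mem_cen_iff (mem_cen.mp hm).1).mp hm)
    rw [show g * q.b.z * g⁻¹ = g * q.b.c * g⁻¹ * (g * q.b.c * g⁻¹) by rw [← q.b.c_mul_c]; group,
      q.pr_sq (h.le hgc), (h.four.props hgc).1]
    exact one_mem _

theorem class_Dm {g e : G} (hg : g ∈ normalizer (E : Set G)) (he : e ∈ E) (hm : q.swap.pr e ∈ q.b.Dm) :
    q.swap.pr (g * e * g⁻¹) ∈ q.b.Dm := by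
  have hES := h.le
  have h1 : closure {e | e ∈ E ∧ e * e = 1} ≤ part q.swap q.b.Dm := by
    refine (closure_le _).mpr ?_
    rintro f ⟨hf, hf2⟩
    refine ⟨hES hf, ?_⟩
    have e1 : q.swap.pr f * q.swap.pr f = 1 := by rw [← q.swap.pr_sq (hES hf), hf2, q.swap.pr_one]
    by_cases hX : q.swap.pr f ∈ q.b.X
    · exact zpowers_le.mpr q.b.c_mem_Dm (q.b.Z_le_c (q.b.eq_Z_of_sq hX e1))
    · exact (q.b.refl_mem ⟨q.pr'_mem (hES hf), hX⟩ e1).1
  have h2 : e ∈ closure {e | e ∈ E ∧ e * e = 1} := by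
    rw [← q.split (hES he)]
    refine mul_mem (subset_closure ⟨h.four.pr_mem h.ess he, (h.four.props he).1⟩) ?_
    exact q.b.Dm_le_of (H := closure {e | e ∈ E ∧ e * e = 1})
      (fun w hw hw2 => subset_closure (show w ∈ {e | e ∈ E ∧ e * e = 1} from ⟨h.bD hw.1, hw2⟩)) hm
  exact (h1 (inv_closure_invol.conj g hg e h2)).2

theorem class_Qm {g e : G} (hg : g ∈ normalizer (E : Set G)) (he : e ∈ E) (hm : q.swap.pr e ∈ q.b.Qm) :
    q.swap.pr (g * e * g⁻¹) ∈ q.b.Qm := by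
  have hES := h.le
  let T : Set G := {f | f ∈ E ∧ f * f ≠ 1 ∧ f * f * (f * f) = 1}
  have hT : Inv E (closure T) := by
    refine Inv.closure_set (fun f hf => hf.1) ?_
    rintro n hn f ⟨hf, hf1, hf2⟩
    refine ⟨(mem_normalizer_iff.mp hn f).mp hf, fun e' => hf1 ?_, ?_⟩
    · rw [show f * f = n⁻¹ * (n * f * n⁻¹ * (n * f * n⁻¹)) * n by group, e']; group
    · rw [show n * f * n⁻¹ * (n * f * n⁻¹) * (n * f * n⁻¹ * (n * f * n⁻¹)) = n * (f * f * (f * f)) * n⁻¹ by group,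
        hf2]; group
  have h1 : closure T ≤ part q.swap q.b.Qm := by
    refine (closure_le _).mpr ?_
    rintro f ⟨hf, hf1, hf2⟩
    refine ⟨hES hf, ?_⟩
    have e0 : f * f = q.swap.pr f * q.swap.pr f := by
      conv_lhs => rw [← q.split (P.mul_mem (hES hf) (hES hf)), q.pr_sq (hES hf), (h.four.props hf).1, one_mul,
        q.swap.pr_sq (hES hf)]
    rw [e0] at hf1 hf2
    by_cases hX : q.swap.pr f ∈ q.b.X
    · exact zpowers_le.mpr q.b.c_mem_Qm
        (q.b.mem_zpowers_c hX (q.b.eq_Z_of_sq (mul_mem hX hX) hf2))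
    · rcases q.b.off_cases ⟨q.pr'_mem (hES hf), hX⟩ with ⟨e', -⟩ | ⟨-, e', -⟩
      exacts [absurd e' hf1, e']
  have hw : ∀ w, q.b.Off w → w * w = q.b.z → w ∈ T := fun w hw hw2 =>
    ⟨h.bD hw.1, by rw [hw2]; exact q.b.z_ne_one, by rw [hw2]; exact q.b.z_mul_z⟩
  have hw0 := q.b.off_xy 1
  have hw0sq : q.b.x ^ (1 : ℤ) * q.b.y * (q.b.x ^ (1 : ℤ) * q.b.y) = q.b.z := by
    rw [q.b.xy_xy, SDGen.z, q.b.zpow_eq]; exact ⟨0, by ring⟩
  have h2 : e ∈ closure T := by
    rw [← q.split (hES he)]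
    refine mul_mem ?_ (q.b.Qm_le_of (fun w a b => subset_closure (hw w a b)) hm)
    set w := q.b.x ^ (1 : ℤ) * q.b.y
    have hp := h.four.pr_mem h.ess he
    have hpD := q.pr_mem (hES he)
    have hpw : q.pr e * w ∈ T := by
      have hsq : q.pr e * w * (q.pr e * w) = q.b.z := by
        calc q.pr e * w * (q.pr e * w) = q.pr e * (w * q.pr e) * w := by group
          _ = q.pr e * q.pr e * (w * w) := by rw [← q.comm_ab hpD hw0.1]; group
          _ = q.b.z := by rw [(h.four.props he).1, hw0sq, one_mul]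
      exact ⟨mul_mem hp (h.bD hw0.1), by rw [hsq]; exact q.b.z_ne_one, by rw [hsq]; exact q.b.z_mul_z⟩
    have := mul_mem (subset_closure hpw) (inv_mem (subset_closure (hw w hw0 hw0sq)))
    rwa [mul_inv_cancel_right] at this
  exact (h1 (hT.conj g hg e h2)).2

end TypeV

/-- The subgroup `Q × Z'` of an essential subgroup of quaternion type. -/
def invC (E : Subgroup G) : Subgroup G :=
  E ⊓ centralizer ((closure {e | e ∈ E ∧ e * e = 1} : Subgroup G) : Set G)

/-- The subgroup `Z × D'` of an essential subgroup of quaternion type. -/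
def invCC (E : Subgroup G) : Subgroup G := E ⊓ centralizer (invC E : Set G)

namespace TypeQ

variable {u : G} (h : TypeQ q E u)
include h

theorem le : E ≤ P := h.ess.1.1

theorem inv_C : Inv E (invC E) := inv_cent inv_closure_invol

theorem invol_pr {f : G} (hf : f ∈ E) (hf2 : f * f = 1) : q.pr f ∈ q.a.Z := by
  have e1 : q.pr f * q.pr f = 1 := by rw [← q.pr_sq (h.le hf), hf2, q.pr_one]
  by_cases hX : q.pr f ∈ q.a.X
  · exact q.a.eq_Z_of_sq hX e1
  · exact absurd ((h.sq.symm.trans (h.eight.off_sq h.le hf hX).symm).trans e1) q.a.z_ne_one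

theorem mem_C {e : G} (he : e ∈ E) : e ∈ invC E ↔ q.swap.pr e ∈ q.b.Z := by
  have hES := h.le
  constructor
  · intro hc
    have key : ∀ w ∈ closure {e | e ∈ E ∧ e * e = 1}, q.swap.pr w * q.swap.pr e = q.swap.pr e * q.swap.pr w := by
      intro w hw
      exact q.swap.pr_commute (hES (inv_closure_invol.le hw)) (hES he) (mem_centralizer_iff.mp hc.2 w hw)
    have hDm : q.b.Dm ≤ closure {e | e ∈ E ∧ e * e = 1} :=
      q.b.Dm_le_of fun w hw hw2 => subset_closure ⟨h.bD hw.1, hw2⟩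
    have h1 := key _ (hDm q.b.c_mem_Dm)
    rw [q.pr'_of_mem_b (q.b.X_le q.b.c_mem_X)] at h1
    have h2 := key _ (hDm (q.b.refl_mem q.b.off_y q.b.y_sq).1)
    rw [q.pr'_of_mem_b q.b.off_y.1] at h2
    exact q.b.off_comm_rot q.b.off_y (q.b.c_comm_mem (q.pr'_mem (hES he)) h1) h2.symm
  · intro hz
    refine ⟨he, mem_centralizer_iff.mpr fun w hw => ?_⟩
    suffices closure {e | e ∈ E ∧ e * e = 1} ≤ centralizer {e} from mem_centralizer_singleton_iff.mp (this hw)
    refine (closure_le _).mpr fun f hf => mem_centralizer_singleton_iff.mpr ?_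
    exact q.commute_of (hES hf.1) (hES he) (q.a.Z_comm (q.pr_mem (hES he)) (h.invol_pr hf.1 hf.2))
      (q.b.Z_comm (q.pr'_mem (hES hf.1)) hz).symm

theorem inv_CC : Inv E (invCC E) := inv_cent h.inv_C

theorem u_mem_C : u ∈ invC E ∧ q.a.c ∈ invC E :=
  ⟨(h.mem_C h.mem).mpr (by rw [q.pr'_of_mem h.eight.off.1]; exact one_mem _),
    (h.mem_C h.eight.c_mem).mpr (by rw [q.pr'_of_mem (q.a.X_le q.a.c_mem_X)]; exact one_mem _)⟩

theorem mem_CC {e : G} (he : e ∈ E) : e ∈ invCC E ↔ q.pr e ∈ q.a.Z := by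
  have hES := h.le
  constructor
  · intro hc
    have key : ∀ w ∈ invC E, w * e = e * w := mem_centralizer_iff.mp hc.2
    have h1 := q.pr_commute (hES h.eight.c_mem) (hES he) (key _ h.u_mem_C.2)
    rw [q.pr_of_mem (q.a.X_le q.a.c_mem_X)] at h1
    have h2 := q.pr_commute (hES he) (hES h.mem) (key _ h.u_mem_C.1).symm
    rw [q.pr_of_mem h.eight.off.1] at h2
    exact q.a.off_comm_rot h.eight.off (q.a.c_comm_mem (q.pr_mem (hES he)) h1) h2
  · intro hz
    refine ⟨he, mem_centralizer_iff.mpr fun w hw => ?_⟩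
    have hwE : w ∈ E := hw.1
    exact (q.commute_of (hES he) (hES hwE) (q.a.Z_comm (q.pr_mem (hES hwE)) hz)
      (q.b.Z_comm (q.pr'_mem (hES he)) ((h.mem_C hwE).mp hw)).symm).symm

theorem mem_cen_iff {e : G} (he : e ∈ E) : e ∈ cen E ↔ q.pr e ∈ q.a.Z ∧ q.swap.pr e ∈ q.b.Z := by
  constructor
  · intro hc
    refine ⟨h.eight.cen_pr h.le h.mem hc, (h.mem_C he).mp ⟨he, mem_centralizer_iff.mpr fun w hw => ?_⟩⟩
    exact ((mem_cen.mp hc).2 w (inv_closure_invol.le hw)).symm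
  · rintro ⟨h1, h2⟩
    exact mem_cen.mpr ⟨he, fun f hf => q.commute_of (h.le he) (h.le hf) (q.a.Z_comm (q.pr_mem (h.le hf)) h1)
      (q.b.Z_comm (q.pr'_mem (h.le hf)) h2)⟩

theorem pr_mem_C {e : G} (he : e ∈ E) : q.pr e ∈ invC E :=
  (h.mem_C (h.eight.pr_mem h.le h.mem he)).mpr (by rw [q.pr'_of_mem (q.pr_mem (h.le he))]; exact one_mem _)

theorem class_Dm {g e : G} (hg : g ∈ normalizer (E : Set G)) (he : e ∈ E) (hm : q.swap.pr e ∈ q.b.Dm) :
    q.swap.pr (g * e * g⁻¹) ∈ q.b.Dm := by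
  have hES := h.le
  set J := closure {e | e ∈ E ∧ e * e = 1} ⊔ invC E with hJ
  have hinv : ∀ x ∈ J, g * x * g⁻¹ ∈ J := by
    have : J ≤ J.comap (MulAut.conj g).toMonoidHom :=
      sup_le (fun x hx => mem_sup_left (inv_closure_invol.conj g hg x hx))
        fun x hx => mem_sup_right (h.inv_C.conj g hg x hx)
    exact fun x hx => this hx
  have h1 : J ≤ part q.swap q.b.Dm := by
    refine sup_le ((closure_le _).mpr ?_) fun f hf => ⟨hES hf.1, zpowers_le.mpr q.b.c_mem_Dm (q.b.Z_le_c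
      ((h.mem_C hf.1).mp hf))⟩
    rintro f ⟨hf, hf2⟩
    refine ⟨hES hf, ?_⟩
    have e1 : q.swap.pr f * q.swap.pr f = 1 := by rw [← q.swap.pr_sq (hES hf), hf2, q.swap.pr_one]
    by_cases hX : q.swap.pr f ∈ q.b.X
    · exact zpowers_le.mpr q.b.c_mem_Dm (q.b.Z_le_c (q.b.eq_Z_of_sq hX e1))
    · exact (q.b.refl_mem ⟨q.pr'_mem (hES hf), hX⟩ e1).1
  refine (h1 (hinv e ?_)).2
  rw [← q.split (hES he)]
  exact mul_mem (mem_sup_right (h.pr_mem_C he))
    (mem_sup_left (q.b.Dm_le_of (H := closure {e | e ∈ E ∧ e * e = 1})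
      (fun w hw hw2 => subset_closure (show w ∈ {e | e ∈ E ∧ e * e = 1} from ⟨h.bD hw.1, hw2⟩)) hm))

theorem class_Qm {g e : G} (hg : g ∈ normalizer (E : Set G)) (he : e ∈ E) (hm : q.swap.pr e ∈ q.b.Qm) :
    q.swap.pr (g * e * g⁻¹) ∈ q.b.Qm := by
  have hES := h.le
  let T : Set G := {f | f ∈ invCC E ∧ f * f ≠ 1 ∧ f * f * (f * f) = 1}
  have hT : Inv E (closure T) := by
    refine Inv.closure_set (fun f hf => hf.1.1) ?_
    rintro n hn f ⟨hf, hf1, hf2⟩
    refine ⟨h.inv_CC.conj n hn f hf, fun e' => hf1 ?_, ?_⟩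
    · rw [show f * f = n⁻¹ * (n * f * n⁻¹ * (n * f * n⁻¹)) * n by group, e']; group
    · rw [show n * f * n⁻¹ * (n * f * n⁻¹) * (n * f * n⁻¹ * (n * f * n⁻¹)) = n * (f * f * (f * f)) * n⁻¹ by group,
        hf2]; group
  set J := closure T ⊔ invC E with hJ
  have hinv : ∀ x ∈ J, g * x * g⁻¹ ∈ J := by
    have : J ≤ J.comap (MulAut.conj g).toMonoidHom :=
      sup_le (fun x hx => mem_sup_left (hT.conj g hg x hx)) fun x hx => mem_sup_right (h.inv_C.conj g hg x hx)
    exact fun x hx => this hx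
  have h1 : J ≤ part q.swap q.b.Qm := by
    refine sup_le ((closure_le _).mpr ?_) fun f hf => ⟨hES hf.1, zpowers_le.mpr q.b.c_mem_Qm (q.b.Z_le_c
      ((h.mem_C hf.1).mp hf))⟩
    rintro f ⟨hf, hf1, hf2⟩
    have hfE : f ∈ E := hf.1
    refine ⟨hES hfE, ?_⟩
    have e0 : f * f = q.swap.pr f * q.swap.pr f := by
      conv_lhs => rw [← q.split (P.mul_mem (hES hfE) (hES hfE)), q.pr_sq (hES hfE),
        q.a.Z_sq ((h.mem_CC hfE).mp hf), one_mul, q.swap.pr_sq (hES hfE)]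
    rw [e0] at hf1 hf2
    by_cases hX : q.swap.pr f ∈ q.b.X
    · exact zpowers_le.mpr q.b.c_mem_Qm (q.b.mem_zpowers_c hX (q.b.eq_Z_of_sq (mul_mem hX hX) hf2))
    · rcases q.b.off_cases ⟨q.pr'_mem (hES hfE), hX⟩ with ⟨e', -⟩ | ⟨-, e', -⟩
      exacts [absurd e' hf1, e']
  refine (h1 (hinv e ?_)).2
  rw [← q.split (hES he)]
  refine mul_mem (mem_sup_right (h.pr_mem_C he)) (mem_sup_left (q.b.Qm_le_of (fun w hw hw2 => subset_closure ?_) hm))
  exact ⟨(h.mem_CC (h.bD hw.1)).mpr (by rw [q.pr_of_mem_b hw.1]; exact one_mem _),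
    by rw [hw2]; exact q.b.z_ne_one, by rw [hw2]; exact q.b.z_mul_z⟩

end TypeQ

end CfsgLib.SDSquare
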