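import Cfsg.Agent.Lib.SDSquare.Shapes

/-!
An essential subgroup contains one of the two factors, and its other projection is a four group or a quaternion group.
-/

set_option autoImplicit false
set_option linter.unusedSectionVars false

namespace CfsgLib.SDSquare

open Cfsg Cfsg.FusionSystem Subgroup CfsgLib.AfterFT.DihedralSquare

universe u
variable {G : Type u} [Group G]

namespace SDGen

variable (d : SDGen G)

theorem c_mem_Dm : d.c ∈ d.Dm := d.mem_Dm.mpr ⟨d.M, Or.inl rfl⟩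

theorem c_mem_Qm : d.c ∈ d.Qm := ⟨d.M, Or.inl rfl⟩

/-- A root of the rotation of order four. -/
def rt : G := d.x ^ (d.M : ℤ)

theorem rt_mem_X : d.rt ∈ d.X := d.zpow_mem_X _

theorem rt_mul_rt : d.rt * d.rt = d.c := by rw [rt, c, ← zpow_add]; congr 1; ring

theorem rt_notMem : d.rt ∉ zpowers d.c := by
  rintro ⟨k, hk⟩
  change d.c ^ k = d.rt at hk
  rw [rt, c, ← zpow_mul, d.zpow_eq] at hk
  obtain ⟨m, hm⟩ := hk
  have hM : (d.M : ℤ) ≠ 0 := by have := d.M_pos; omega
  have h2 : (d.M : ℤ) * (1 - 2 * k) = (d.M : ℤ) * (8 * m) := by linear_combination hm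
  have := mul_left_cancel₀ hM h2
  omega

theorem Z_le_c : d.Z ≤ zpowers d.c :=
  zpowers_le.mpr ⟨2, show d.c ^ (2 : ℤ) = d.z by rw [zpow_two, d.c_mul_c]⟩

theorem Z_comm {g ζ : G} (hg : g ∈ d.D) (hζ : ζ ∈ d.Z) : ζ * g = g * ζ := by
  rcases d.mem_Z.mp hζ with h | h <;> rw [h]
  · simp
  · exact d.z_comm hg

theorem Z_sq {ζ : G} (hζ : ζ ∈ d.Z) : ζ * ζ = 1 := by
  rcases d.mem_Z.mp hζ with h | h <;> rw [h]
  exacts [one_mul 1, d.z_mul_z]

theorem rot_comm_self {r : G} (hr : r ∈ d.X) {e : G} (he : e ∈ d.X) : r * e * r⁻¹ * e⁻¹ = 1 := by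
  rw [d.rot_comm hr he, mul_inv_cancel_right, mul_inv_cancel]

theorem sq_mem_Z_of_c {r : G} (hr : r ∈ zpowers d.c) : r * r ∈ d.Z := by
  obtain ⟨k, rfl⟩ := hr
  show d.c ^ k * d.c ^ k ∈ d.Z
  rw [← (Commute.refl d.c).mul_zpow, d.c_mul_c]
  exact zpow_mem (mem_zpowers _) k

end SDGen

variable [Finite G] {P : Sylow 2 G} {E : Subgroup G} (q : Square (P : Subgroup G))

namespace Four

variable {q} {u : G} (h : Four q E u)
include h

theorem props {e : G} (he : e ∈ E) :
    q.pr e * q.pr e = 1 ∧ u * q.pr e = q.pr e * u ∧ q.pr e ∈ E ⊔ q.a.Z := by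
  rcases h.range e he with hz | hz
  · exact ⟨q.a.Z_sq hz, (q.a.Z_comm h.off.1 hz).symm, mem_sup_right hz⟩
  · have e' : q.pr e = u * (u⁻¹ * q.pr e) := by group
    have hc := q.a.Z_comm h.off.1 hz
    refine ⟨?_, ?_, e' ▸ mul_mem (mem_sup_left h.mem) (mem_sup_right hz)⟩
    · rw [e']
      calc u * (u⁻¹ * q.pr e) * (u * (u⁻¹ * q.pr e)) = u * ((u⁻¹ * q.pr e) * u) * (u⁻¹ * q.pr e) := by group
        _ = u * u * ((u⁻¹ * q.pr e) * (u⁻¹ * q.pr e)) := by rw [hc]; group
        _ = 1 := by rw [h.sq, q.a.Z_sq hz, one_mul]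
    · rw [e', mul_assoc u (u⁻¹ * q.pr e) u, hc]

theorem pr_comm {e f : G} (he : e ∈ E) (hf : f ∈ E) (hES : E ≤ P) : q.pr e * q.pr f = q.pr f * q.pr e := by
  have := (h.props (mul_mem he hf)).1
  rw [q.pr_mul (hES he) (hES hf)] at this
  have i : ∀ {g}, g ∈ E → (q.pr g)⁻¹ = q.pr g := fun hg => inv_eq_of_mul_eq_one_left (h.props hg).1
  have := inv_eq_of_mul_eq_one_left this
  rwa [mul_inv_rev, i he, i hf, eq_comm] at this

variable (hE : (groupFusionSystem (P : Subgroup G)).IsEssential 2 E)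
include hE

theorem pr_mem {e : G} (he : e ∈ E) : q.pr e ∈ E :=
  (sup_le le_rfl (Za_leE q hE)) (h.props he).2.2

theorem pr'_mem {e : G} (he : e ∈ E) : q.swap.pr e ∈ E := by
  have := mul_mem (inv_mem (h.pr_mem hE he)) he
  nth_rewrite 2 [← q.split (hE.1.1 he)] at this
  rwa [inv_mul_cancel_left] at this

theorem c_comm {e : G} (he : e ∈ E) : q.a.c * e * q.a.c⁻¹ * e⁻¹ ∈ q.a.Z := by
  rw [q.comm_pr (q.a.X_le q.a.c_mem_X) (hE.1.1 he)]
  by_cases hX : q.pr e ∈ q.a.X
  · rw [q.a.rot_comm_self q.a.c_mem_X hX]; exact one_mem _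
  · rw [q.a.c_conj ⟨q.pr_mem (hE.1.1 he), hX⟩]; exact mem_zpowers _

theorem c_norm : q.a.c ∈ normalizerIn (P : Subgroup G) E :=
  normIn_of q hE.1.1 (q.a.X_le q.a.c_mem_X) fun e he => by
    rw [← q.comm_pr (q.a.X_le q.a.c_mem_X) (hE.1.1 he)]; exact Za_leE q hE (h.c_comm hE he)

theorem c_notMem : q.a.c ∉ E := fun hc => by
  rcases h.range _ hc with hz | hz <;> rw [q.pr_of_mem (q.a.X_le q.a.c_mem_X)] at hz
  · exact q.a.c_notMem_Z hz
  · exact h.off.2 (by
      have := q.a.X.mul_mem q.a.c_mem_X (inv_mem (q.a.Z_le hz))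
      rwa [mul_inv_rev, inv_inv, mul_inv_cancel_left] at this)

theorem c_trans : IsTrans E q.a.c q.a.z := fun e he => by
  rcases q.a.mem_Z.mp (h.c_comm hE he) with e' | e'
  · left; rw [MulAut.conj_apply, ← mul_inv_eq_one]; exact e'
  · right; rw [MulAut.conj_apply, mul_inv_eq_iff_eq_mul.mp e', q.za_comm (hE.1.1 he)]

theorem c_u : MulAut.conj q.a.c u = u * q.a.z := by
  rw [MulAut.conj_apply, mul_inv_eq_iff_eq_mul.mp (q.a.c_conj h.off), q.a.z_comm h.off.1]

end Four

theorem c_fix_za : MulAut.conj q.a.c q.a.z = q.a.z := by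
  rw [MulAut.conj_apply, ← q.za_comm (q.aD_le (q.a.X_le q.a.c_mem_X)), mul_inv_cancel_right]

theorem c_fix_zb : MulAut.conj q.a.c q.b.z = q.b.z := by
  rw [MulAut.conj_apply, q.comm_ab (q.a.X_le q.a.c_mem_X) (q.b.X_le q.b.z_mem_X), mul_inv_cancel_right]

variable (hE : (groupFusionSystem (P : Subgroup G)).IsEssential 2 E)
include hE

/-- Both projections four groups. -/
theorem false_four_four {u v : G} (h : Four q E u) (h' : Four q.swap E v) : False := by
  have hES := hE.1.1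
  have hab : ∀ a ∈ E, ∀ b ∈ E, a * b = b * a := fun a ha b hb =>
    q.commute_of (hES ha) (hES hb) (h.pr_comm ha hb hES) (h'.pr_comm ha hb hES)
  have hsyl := (isFullyNormalized_groupFusionSystem_iff P hES).mp hE.2.1
  have hNS : NoSwap (normalizer (E : Set G)) E := by
    refine noSwap_of_sylow hsyl (fun n hn a ha => (mem_normalizer_iff.mp hn a).mp ha) fun s hs a ha => ?_
    have hsS := hs.1
    have one : ∀ (p : Square (P : Subgroup G)) (w : G), Four p E w → p.pr (s * s) * p.pr a = p.pr a * p.pr (s * s) := by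
      intro p w hw
      rw [p.pr_sq hsS]
      refine p.a.Z_comm (p.pr_mem (hES ha)) (p.a.sq_normalizing_four (p.pr_mem hsS) hw.off ?_)
      have hwS := hES hw.mem
      have hwE : s * w * s⁻¹ ∈ E := (mem_normalizer_iff.mp hs.2 w).mp hw.mem
      have hpr : p.pr (s * w * s⁻¹) = p.pr s * w * (p.pr s)⁻¹ := by
        rw [p.pr_conj hsS hwS, p.pr_of_mem hw.off.1]
      rcases hw.range _ hwE with hz | hz <;> rw [hpr] at hz
      · exfalso
        refine hw.off.2 ?_
        have := p.a.conj_mem_X (inv_mem (p.pr_mem hsS)) (p.a.Z_le hz)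
        simpa [mul_assoc] using this
      · have := p.a.Z_comm hw.off.1 hz
        rw [show p.pr s * w * (p.pr s)⁻¹ * w⁻¹ = w * (w⁻¹ * (p.pr s * w * (p.pr s)⁻¹)) * w⁻¹ by group, ← this,
          mul_inv_cancel_right]
        exact hz
    exact q.commute_of (P.mul_mem hsS hsS) (hES ha) (one q u h) (one q.swap v h')
  have hx := h.c_norm hE
  have hy := h'.c_norm hE
  refine false_of_pairs hE hx (h.c_notMem hE) fun g hg => ?_
  set k := g * q.a.c * g⁻¹ with hk'
  have hk : k ∈ normalizer (E : Set G) := mul_mem (mul_mem hg hx.2) (inv_mem hg)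
  set w := MulAut.conj g q.a.z with hw
  have hwE : w ∈ E := (mem_normalizer_iff.mp hg _).mp (za_memE q hE)
  have hw2 : w * w = 1 := by rw [hw, ← map_mul, q.a.z_mul_z, map_one]
  have hw1 : w ≠ 1 := fun e => q.a.z_ne_one ((MulEquiv.map_eq_one_iff _).mp e)
  have hk_apply : ∀ a, MulAut.conj k (MulAut.conj g a) = MulAut.conj g (MulAut.conj q.a.c a) := fun a => by
    simp only [hk', map_mul, MulAut.mul_apply]
    rw [map_inv, MulAut.inv_apply_self]
  have hkT : IsTrans E k w := by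
    intro a ha
    have ha' : MulAut.conj g⁻¹ a ∈ E := (mem_normalizer_iff.mp (inv_mem hg) a).mp ha
    have e2 : MulAut.conj g (MulAut.conj g⁻¹ a) = a := by
      rw [map_inv, MulAut.apply_inv_self]
    have e3 := hk_apply (MulAut.conj g⁻¹ a)
    rw [e2] at e3
    rcases h.c_trans hE _ ha' with e | e <;> rw [e3, e]
    · exact Or.inl e2
    · exact Or.inr (by rw [map_mul, e2])
  have hkw : MulAut.conj k w = w := by rw [hw, hk_apply, c_fix_za q]
  have hka : ∃ a ∈ E, MulAut.conj k a = a * w := ⟨MulAut.conj g u, (mem_normalizer_iff.mp hg u).mp h.mem, by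
    rw [hk_apply, h.c_u hE, map_mul]⟩
  have finish : ∀ (p : Square (P : Subgroup G)) (t : G), Four p E t → MulAut.conj k p.a.z = p.a.z →
      MulAut.conj p.a.c w = w → ∃ y, ∃ hy : y ∈ normalizerIn (P : Subgroup G) E, y ∉ E ∧
        IsPGroup 2 ↥(zpowers (conjAut hk) ⊔ zpowers (conjAut hy.2)) := by
    intro p t ht hkz hcw
    refine ⟨p.a.c, ht.c_norm hE, ht.c_notMem hE, ?_⟩
    have hcomm : ∀ a ∈ E, k * p.a.c * a * (k * p.a.c)⁻¹ = p.a.c * k * a * (p.a.c * k)⁻¹ := by
      intro a ha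
      have := trans_commute hab hwE (za_memE p hE) hkT (ht.c_trans hE) hkz hcw ha
      simpa [mul_assoc] using this
    refine isPGroup_pair hES Inv.top Inv.top hk (ht.c_norm hE).2
      (isPGroup_conjAut hx.1 hk) ?_ (fun a ha => ?_) (fun a ha => ?_) hcomm
    · have h1 := isPGroup_conjAut (E := E) (g := 1) (ht.c_norm hE).1 (by simpa using (ht.c_norm hE).2)
      convert h1 using 3 <;> simp
    all_goals rw [hcomm a ha, mul_inv_cancel]; exact one_mem _
  rcases hkT q.b.z (za_memE q.swap hE) with hku | hku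
  · refine finish q.swap v h' hku ((h'.c_trans hE w hwE).resolve_right fun hyw => ?_)
    exact q.b.z_ne_one (both_or_none hNS hk hy.2 hwE (za_memE q.swap hE) hw2 q.b.z_mul_z hab
      (h'.c_trans hE) hkw (c_fix_za q.swap) hka hyw hku)
  · rcases hkT q.a.z (za_memE q hE) with hkz | hkz
    · refine finish q u h hkz ((h.c_trans hE w hwE).resolve_right fun hxw => ?_)
      exact q.a.z_ne_one (both_or_none hNS hk hx.2 hwE (za_memE q hE) hw2 q.a.z_mul_z hab
        (h.c_trans hE) hkw (c_fix_za q) hka hxw hkz)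
    · exfalso
      have hyw : MulAut.conj q.b.c w = w * q.b.z := (h'.c_trans hE w hwE).resolve_left fun e => hw1
        (both_or_none hNS hy.2 hk (za_memE q.swap hE) hwE q.b.z_mul_z hw2 hab hkT (c_fix_za q.swap) hkw
          ⟨v, h'.mem, h'.c_u hE⟩ hku e)
      have hxw : MulAut.conj q.a.c w = w * q.a.z := (h.c_trans hE w hwE).resolve_left fun e => hw1
        (both_or_none hNS hx.2 hk (za_memE q hE) hwE q.a.z_mul_z hw2 hab hkT (c_fix_za q) hkw
          ⟨u, h.mem, h.c_u hE⟩ hkz e)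
      exact q.z_ne (no_triangle hNS hx.2 hy.2 hk (za_memE q hE) (za_memE q.swap hE) hwE q.a.z_mul_z q.b.z_mul_z
        hw2 hab (c_fix_za q) (c_fix_zb q) (c_fix_zb q.swap) (c_fix_za q.swap) hkw hkz hku hxw hyw)

end CfsgLib.SDSquare
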