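import Cfsg.Agent.Lib.SDSquare.Movers
import Cfsg.Agent.Lib.SDSquare.Odd
import Cfsg.Agent.Lib.AfterFT.DihedralSquare.Fusion
import Cfsg.Agent.Lib.AfterFT.DihedralSquare.SylowAut
import Cfsg.Agent.Lib.AfterFT.DihedralSquare.Movers

/-!
Both types occur in each factor, and the movers define a twisted complement.
-/

set_option autoImplicit false
set_option linter.unusedSectionVars false

namespace CfsgLib.SDSquare

open Cfsg Cfsg.FusionSystem Subgroup CfsgLib.AfterFT.DihedralSquare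
open scoped commutatorElement

universe u
variable {G : Type u} [Group G] [Finite G] {P : Sylow 2 G} (q : Square (P : Subgroup G))

theorem extendable_one {E : Subgroup G} :
    conjAut (E := E) (g := (1 : G)) (one_mem _) ∈ extendableAut (groupFusionSystem (P : Subgroup G)) E := by
  rw [conjAut, show (⟨1, one_mem _⟩ : normalizer (E : Set G)) = 1 from rfl, map_one]
  exact one_mem _

/-- A subgroup containing all fusion commutators contains the Sylow subgroup. -/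
theorem le_of_fusion (hres : Cfsg.pResidual 2 G = ⊤) (M : Subgroup G)
    (hinner : ∀ s ∈ (P : Subgroup G), ∀ a ∈ (P : Subgroup G), a⁻¹ * (s * a * s⁻¹) ∈ M)
    (hess : ∀ E : Subgroup G, (groupFusionSystem (P : Subgroup G)).IsEssential 2 E →
      ∀ g ∈ normalizer (E : Set G), ∀ a ∈ E, a⁻¹ * (g * a * g⁻¹) ∈ M) (q : Square (P : Subgroup G)) :
    (P : Subgroup G) ≤ M := by
  haveI : Fact (Nat.Prime 2) := ⟨Nat.prime_two⟩
  let Rel : G → G → Prop := fun a b => a⁻¹ * b ∈ M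
  have hsymm : ∀ {a b}, Rel a b → Rel b a := fun {a b} h => by
    have := inv_mem h
    rwa [mul_inv_rev, inv_inv] at this
  have htrans : ∀ {a b c}, Rel a b → Rel b c → Rel a c := fun {a b c} h h' => by
    have := mul_mem h h'
    rwa [mul_assoc, mul_inv_cancel_left] at this
  have key : ∀ a ∈ (P : Subgroup G), ∀ g : G, g * a * g⁻¹ ∈ (P : Subgroup G) → Rel a (g * a * g⁻¹) := by
    intro a ha g hga
    refine rel_of_alperin Rel hsymm htrans hinner (fun g hg a ha => rel_normalizer (Rel := Rel) htrans hinner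
      (fun g hg ho a ha => by show a⁻¹ * (g * a * g⁻¹) ∈ M; rw [odd_central q hg ho ha, inv_mul_cancel]; exact one_mem _)
      hg ha) (fun E hE g hg => Or.inr ⟨1, one_mem _, extendable_one, fun a ha => ?_⟩) ha hga
    rw [inv_one, mul_one]
    exact hess E hE g hg a ha
  have hfoc := CfsgLib.Transfer.focalSubgroup_eq_of_pResidual_eq_top P hres
  rw [Subgroup.focalSubgroup_def] at hfoc
  rw [← hfoc, closure_le]
  rintro y ⟨hy, x, hx, u, rfl⟩
  have e : ⁅x, u⁆ = x * (u * x⁻¹ * u⁻¹) := by rw [commutatorElement_def]; group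
  have hu : u * x⁻¹ * u⁻¹ ∈ (P : Subgroup G) := by
    have := mul_mem (inv_mem hx) hy
    rwa [e, inv_mul_cancel_left] at this
  have h := key x⁻¹ (inv_mem hx) u hu
  change (x⁻¹)⁻¹ * (u * x⁻¹ * u⁻¹) ∈ M at h
  rw [inv_inv, ← e] at h
  exact h

theorem inner_part {H : Subgroup G} (hH : ∀ r ∈ q.a.X, r * r ∈ H) {s a : G} (hs : s ∈ (P : Subgroup G))
    (ha : a ∈ (P : Subgroup G)) : a⁻¹ * (s * a * s⁻¹) ∈ part q H := by
  refine ⟨P.mul_mem (P.inv_mem ha) (P.mul_mem (P.mul_mem hs ha) (P.inv_mem hs)), ?_⟩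
  rw [q.pr_mul (P.inv_mem ha) (P.mul_mem (P.mul_mem hs ha) (P.inv_mem hs)), q.pr_inv ha, q.pr_conj hs ha]
  obtain ⟨r, hr, e⟩ := q.a.comm_sq (inv_mem (q.pr_mem ha)) (q.pr_mem hs)
  rw [show (q.pr a)⁻¹ * (q.pr s * q.pr a * (q.pr s)⁻¹) = (q.pr a)⁻¹ * q.pr s * (q.pr a)⁻¹⁻¹ * (q.pr s)⁻¹ by group, e]
  exact hH r hr

theorem exists_typeV (hres : Cfsg.pResidual 2 G = ⊤) : ∃ E u, TypeV q E u := by
  by_contra hcon
  push Not at hcon
  have hle := le_of_fusion hres (part q q.a.Qm)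
    (fun s hs a ha => inner_part q (fun r hr => q.a.sq_mem_Qm (q.a.X_le hr)) hs ha) ?_ q
  · have h1 := (hle (q.aD_le q.a.off_y.1)).2
    rw [q.pr_of_mem q.a.off_y.1] at h1
    exact (q.a.refl_mem q.a.off_y q.a.y_sq).2 h1
  · intro E hE g hg a ha
    have hES := hE.1.1
    have hga : g * a * g⁻¹ ∈ E := (mem_normalizer_iff.mp hg a).mp ha
    refine ⟨P.mul_mem (P.inv_mem (hES ha)) (hES hga), ?_⟩
    rw [q.pr_mul (P.inv_mem (hES ha)) (hES hga), q.pr_inv (hES ha)]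
    rcases classify (q := q) hE with ⟨u, h | h⟩ | ⟨u, h⟩
    · exact absurd h (hcon E u)
    · have hin : ∀ e ∈ E, q.pr e ∈ q.a.Qm := by
        intro e he
        have hc : zpowers q.a.c ≤ q.a.Qm := zpowers_le.mpr q.a.c_mem_Qm
        rcases h.eight.range e he with hr | hr
        · exact hc hr
        · have := mul_mem (q.a.quat_mem h.eight.off h.sq).1 (hc hr)
          rwa [mul_inv_cancel_left] at this
      exact mul_mem (inv_mem (hin a ha)) (hin _ hga)
    · have hcls : ∀ n ∈ normalizer (E : Set G), ∀ e ∈ E, q.pr e ∈ q.a.Qm → q.pr (n * e * n⁻¹) ∈ q.a.Qm := by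
        intro n hn e he hm
        rcases h with h | h <;> exact h.class_Qm hn he hm
      by_cases hm : q.pr a ∈ q.a.Qm
      · exact mul_mem (inv_mem hm) (hcls g hg a ha hm)
      · refine q.a.mul_mem_Qm (inv_mem (q.pr_mem (hES ha))) (q.pr_mem (hES hga)) (fun h' => hm (inv_mem_iff.mp h'))
          fun h' => hm ?_
        have := hcls g⁻¹ (inv_mem hg) _ hga h'
        simpa [mul_assoc] using this

theorem exists_typeQ (hres : Cfsg.pResidual 2 G = ⊤) : ∃ E u, TypeQ q E u := by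
  by_contra hcon
  push Not at hcon
  have hle := le_of_fusion hres (part q q.a.Dm)
    (fun s hs a ha => inner_part q (fun r hr => q.a.sq_mem_Dm (q.a.X_le hr)) hs ha) ?_ q
  · have h0 := q.a.off_xy 1
    have h1 := (hle (q.aD_le h0.1)).2
    rw [q.pr_of_mem h0.1] at h1
    refine (q.a.quat_mem h0 ?_).2 h1
    rw [q.a.xy_xy, SDGen.z, q.a.zpow_eq]
    exact ⟨0, by ring⟩
  · intro E hE g hg a ha
    have hES := hE.1.1
    have hga : g * a * g⁻¹ ∈ E := (mem_normalizer_iff.mp hg a).mp ha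
    refine ⟨P.mul_mem (P.inv_mem (hES ha)) (hES hga), ?_⟩
    rw [q.pr_mul (P.inv_mem (hES ha)) (hES hga), q.pr_inv (hES ha)]
    rcases classify (q := q) hE with ⟨u, h | h⟩ | ⟨u, h⟩
    · have hin : ∀ e ∈ E, q.pr e ∈ q.a.Dm := by
        intro e he
        have hZ : q.a.Z ≤ q.a.Dm := q.a.Z_le_c.trans (zpowers_le.mpr q.a.c_mem_Dm)
        rcases h.four.range e he with hr | hr
        · exact hZ hr
        · have := mul_mem (q.a.refl_mem h.four.off h.four.sq).1 (hZ hr)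
          rwa [mul_inv_cancel_left] at this
      exact mul_mem (inv_mem (hin a ha)) (hin _ hga)
    · exact absurd h (hcon E u)
    · have hcls : ∀ n ∈ normalizer (E : Set G), ∀ e ∈ E, q.pr e ∈ q.a.Dm → q.pr (n * e * n⁻¹) ∈ q.a.Dm := by
        intro n hn e he hm
        rcases h with h | h <;> exact h.class_Dm hn he hm
      by_cases hm : q.pr a ∈ q.a.Dm
      · exact mul_mem (inv_mem hm) (hcls g hg a ha hm)
      · refine q.a.mul_mem_Dm (inv_mem (q.pr_mem (hES ha))) (q.pr_mem (hES hga)) (fun h' => hm (inv_mem_iff.mp h'))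
          fun h' => hm ?_
        have := hcls g⁻¹ (inv_mem hg) _ hga h'
        simpa [mul_assoc] using this

/-- The two twisting elements of a factor. -/
structure Twist where
  /-- The twist of the reflections. -/
  eV : G
  /-- The twist of the quaternion elements. -/
  eQ : G
  eV_mem : eV ∈ q.b.Z
  eQ_mem : eQ ∈ q.b.Z
  hV : ∀ E u (h : TypeV q E u), ∀ g ∈ normalizer (E : Set G), h.fork.Moved g →
    q.swap.pr (g * q.a.z * g⁻¹) = eV
  hQ : ∀ E u (h : TypeQ q E u), ∀ g ∈ normalizer (E : Set G), h.fork.Moved g →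
    q.swap.pr (g * q.a.c * g⁻¹) = eQ

theorem exists_twist (hres : Cfsg.pResidual 2 G = ⊤) : Nonempty (Twist q) := by
  obtain ⟨E₁, u₁, h₁⟩ := exists_typeV q hres
  obtain ⟨E₂, u₂, h₂⟩ := exists_typeQ q hres
  obtain ⟨g₁, hg₁, m₁⟩ := h₁.fork.exists_moved
  obtain ⟨g₂, hg₂, m₂⟩ := h₂.fork.exists_moved
  exact ⟨⟨_, _, (h₁.w_props hg₁).2, (h₂.w_props hg₂).2, fun E u h g hg m => h.twist_unique h₁ hg hg₁ m m₁,
    fun E u h g hg m => h.twist_unique h₂ hg hg₂ m m₂⟩⟩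

open Classical in
/-- An element depending on a class modulo a subgroup of index two. -/
noncomputable def chi (H : Subgroup G) (e p : G) : G := if p ∈ H then 1 else e

theorem chi_mem {H : Subgroup G} {e p : G} {K : Subgroup G} (he : e ∈ K) : chi H e p ∈ K := by
  unfold chi; split
  exacts [one_mem _, he]

theorem chi_mul {H : Subgroup G} {e a b : G} (he : e * e = 1)
    (hmul : a ∉ H → b ∉ H → a * b ∈ H) : chi H e (a * b) = chi H e a * chi H e b := by
  unfold chi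
  by_cases ha : a ∈ H <;> by_cases hb : b ∈ H
  · rw [if_pos ha, if_pos hb, if_pos (mul_mem ha hb), one_mul]
  · rw [if_pos ha, if_neg hb, if_neg (fun h => hb ((mul_mem_cancel_left ha).mp h)), one_mul]
  · rw [if_neg ha, if_pos hb, if_neg (fun h => ha ((mul_mem_cancel_right hb).mp h)), mul_one]
  · rw [if_neg ha, if_neg hb, if_pos (hmul ha hb), he]

namespace Twist

variable {q} (tw : Twist q)

/-- The twist homomorphism. -/
noncomputable def zeta (p : G) : G := chi q.a.Qm tw.eV p * chi q.a.Dm tw.eQ p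

theorem zeta_mem (p : G) : tw.zeta p ∈ q.b.Z := mul_mem (chi_mem tw.eV_mem) (chi_mem tw.eQ_mem)

theorem zeta_mul {a b : G} (ha : a ∈ q.a.D) (hb : b ∈ q.a.D) : tw.zeta (a * b) = tw.zeta a * tw.zeta b := by
  unfold zeta
  rw [chi_mul (q.b.Z_sq tw.eV_mem) (q.a.mul_mem_Qm ha hb), chi_mul (q.b.Z_sq tw.eQ_mem) (q.a.mul_mem_Dm ha hb)]
  have hc := q.b.rot_comm (q.b.Z_le (chi_mem (H := q.a.Qm) (p := b) tw.eV_mem))
    (q.b.Z_le (chi_mem (H := q.a.Dm) (p := a) tw.eQ_mem))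
  rw [mul_assoc (chi q.a.Qm tw.eV a), ← mul_assoc (chi q.a.Qm tw.eV b), hc]
  group

theorem zeta_one : tw.zeta 1 = 1 := by
  unfold zeta chi
  rw [if_pos (one_mem _), if_pos (one_mem _), one_mul]

theorem zeta_sq_part {p : G} (h1 : p ∈ q.a.Qm) (h2 : p ∈ q.a.Dm) : tw.zeta p = 1 := by
  unfold zeta chi
  rw [if_pos h1, if_pos h2, one_mul]

theorem zeta_Z {p : G} (hp : p ∈ q.a.Z) : tw.zeta p = 1 :=
  tw.zeta_sq_part (zpowers_le.mpr q.a.c_mem_Qm (q.a.Z_le_c hp)) (zpowers_le.mpr q.a.c_mem_Dm (q.a.Z_le_c hp))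

theorem zeta_refl {p : G} (hp : q.a.Off p) (h : p * p = 1) : tw.zeta p = tw.eV := by
  unfold zeta chi
  rw [if_neg (q.a.refl_mem hp h).2, if_pos (q.a.refl_mem hp h).1, mul_one]

theorem zeta_quat {p : G} (hp : q.a.Off p) (h : p * p = q.a.z) : tw.zeta p = tw.eQ := by
  unfold zeta chi
  rw [if_pos (q.a.quat_mem hp h).1, if_neg (q.a.quat_mem hp h).2, one_mul]

theorem zeta_inv {p : G} (hp : p ∈ q.a.D) : tw.zeta p⁻¹ = (tw.zeta p)⁻¹ :=
  eq_inv_of_mul_eq_one_left (by rw [← tw.zeta_mul (inv_mem hp) hp, inv_mul_cancel, tw.zeta_one])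

/-- The twisted complement. -/
noncomputable def T : Subgroup G where
  carrier := {s | s ∈ (P : Subgroup G) ∧ q.swap.pr s = tw.zeta (q.pr s)}
  one_mem' := ⟨one_mem _, by rw [q.pr_one, q.swap.pr_one, tw.zeta_one]⟩
  mul_mem' := by
    rintro a b ⟨ha, ha'⟩ ⟨hb, hb'⟩
    exact ⟨mul_mem ha hb, by rw [q.swap.pr_mul ha hb, q.pr_mul ha hb, tw.zeta_mul (q.pr_mem ha) (q.pr_mem hb), ha', hb']⟩
  inv_mem' := by
    rintro a ⟨ha, ha'⟩
    exact ⟨inv_mem ha, by rw [q.swap.pr_inv ha, q.pr_inv ha, tw.zeta_inv (q.pr_mem ha), ha']⟩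

theorem T_le : tw.T ≤ (P : Subgroup G) := fun _ h => h.1

theorem T_pr' {a : G} (ha : a ∈ tw.T) : q.swap.pr a ∈ q.b.Z := by rw [ha.2]; exact tw.zeta_mem _

theorem conj_T {s a : G} (hs : s ∈ (P : Subgroup G)) (ha : a ∈ tw.T) : s * a * s⁻¹ ∈ tw.T := by
  refine ⟨P.mul_mem (P.mul_mem hs ha.1) (P.inv_mem hs), ?_⟩
  have hd := q.pr_mem hs
  rw [q.swap.pr_conj hs ha.1, q.pr_conj hs ha.1, ← q.b.Z_comm (q.pr'_mem hs) (tw.T_pr' ha), mul_inv_cancel_right, ha.2,
    tw.zeta_mul (mul_mem hd (q.pr_mem ha.1)) (inv_mem hd), tw.zeta_mul hd (q.pr_mem ha.1), tw.zeta_inv hd,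
    q.b.rot_comm (q.b.Z_le (tw.zeta_mem _)) (q.b.Z_le (tw.zeta_mem _)), mul_inv_cancel_right]

/-- The twisted complement is isomorphic to the factor. -/
noncomputable def equiv : tw.T ≃* q.a.D :=
  MulEquiv.ofBijective
    (MonoidHom.mk' (fun a : tw.T => (⟨q.pr a, q.pr_mem a.2.1⟩ : q.a.D))
      fun a b => Subtype.ext (q.pr_mul a.2.1 b.2.1))
    ⟨fun a b e => by
      have e' : q.pr (a : G) = q.pr (b : G) := congrArg Subtype.val e
      exact Subtype.ext (q.ext a.2.1 b.2.1 e' (by rw [a.2.2, b.2.2, e'])),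
     fun d => by
      have hz := q.b.X_le (q.b.Z_le (tw.zeta_mem d))
      refine ⟨⟨(d : G) * tw.zeta d, P.mul_mem (q.aD_le d.2) (q.bD_le hz), ?_⟩, Subtype.ext ?_⟩
      · rw [q.pr_eq_swap d.2 hz, q.pr_eq d.2 hz]
      · exact q.pr_eq d.2 hz⟩

/-- The two twisted complements decompose `P`. -/
theorem product (tw' : Twist q.swap) : IsInternalDirectProduct tw.T tw'.T (P : Subgroup G) := by
  refine ⟨tw.T_le, tw'.T_le, fun a ha b hb => ?_, ?_, ?_⟩
  · exact q.commute_of ha.1 hb.1 (q.a.Z_comm (q.pr_mem ha.1) (tw'.T_pr' hb)).symm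
      (q.b.Z_comm (q.pr'_mem hb.1) (tw.T_pr' ha))
  · rw [eq_bot_iff]
    rintro s ⟨h1, h2⟩
    rw [mem_bot]
    have e2 : q.pr s = 1 := (h2.2 : q.pr s = tw'.zeta (q.swap.pr s)).trans (tw'.zeta_Z (tw.T_pr' h1))
    refine q.ext h1.1 P.one_mem (by rw [e2, q.pr_one]) ?_
    rw [h1.2, e2, tw.zeta_one, q.swap.pr_one]
  · refine le_antisymm (sup_le tw.T_le tw'.T_le) fun s hs => ?_
    set p := q.pr s
    set p' := q.swap.pr s
    have hp := q.pr_mem hs
    have hp' := q.pr'_mem hs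
    have hz := q.b.X_le (q.b.Z_le (tw.zeta_mem p))
    set b' := p' * (tw.zeta p)⁻¹
    have hb'D : b' ∈ q.b.D := mul_mem hp' (inv_mem hz)
    have hz' : tw'.zeta b' ∈ q.a.Z := tw'.zeta_mem b'
    have hza := q.a.X_le (q.a.Z_le hz')
    have hb : tw'.zeta b' * b' ∈ tw'.T := by
      refine ⟨P.mul_mem (q.aD_le hza) (q.bD_le hb'D), ?_⟩
      show q.pr (tw'.zeta b' * b') = tw'.zeta (q.swap.pr (tw'.zeta b' * b'))
      rw [q.pr_eq hza hb'D, q.pr_eq_swap hza hb'D]
    have hpD : p * (tw'.zeta b')⁻¹ ∈ q.a.D := mul_mem hp (inv_mem hza)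
    have ha : p * (tw'.zeta b')⁻¹ * tw.zeta p ∈ tw.T := by
      refine ⟨P.mul_mem (q.aD_le hpD) (q.bD_le hz), ?_⟩
      rw [q.pr_eq hpD hz, q.pr_eq_swap hpD hz, tw.zeta_mul hp (inv_mem hza), tw.zeta_inv hza, tw.zeta_Z hz',
        inv_one, mul_one]
    have e : s = p * (tw'.zeta b')⁻¹ * tw.zeta p * (tw'.zeta b' * b') := by
      rw [mul_assoc (p * (tw'.zeta b')⁻¹), ← mul_assoc (tw.zeta p), ← q.comm_ab hza hz]
      simp only [b', p, p']
      rw [show q.pr s * (tw'.zeta (q.swap.pr s * (tw.zeta (q.pr s))⁻¹))⁻¹ *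
          (tw'.zeta (q.swap.pr s * (tw.zeta (q.pr s))⁻¹) * tw.zeta (q.pr s) * (q.swap.pr s * (tw.zeta (q.pr s))⁻¹)) =
          q.pr s * (tw.zeta (q.pr s) * q.swap.pr s * (tw.zeta (q.pr s))⁻¹) by group,
        q.b.Z_comm hp' (tw.zeta_mem _), mul_inv_cancel_right, q.split hs]
    rw [e]
    exact mul_mem (mem_sup_left ha) (mem_sup_right hb)

end Twist

end CfsgLib.SDSquare
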