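import Cfsg.Agent.Lib.AfterFT.DihedralSquare.SylowAut
import Cfsg.Agent.Lib.AfterFT.DihedralSquare.Movers
import Cfsg.Agent.Lib.AfterFT.PairClosed.Product
import Cfsg.Agent.Lib.Basic
import Cfsg.Agent.S0205

/-!
The smallest normal subgroup of odd index of a fusion-simple group and its direct factors.
-/

set_option autoImplicit false
set_option linter.unusedSectionVars false

namespace CfsgLib.SDSquare

open Cfsg Subgroup
open scoped commutatorElement

universe u
variable {G : Type u} [Group G] [Finite G]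

/-- There is a smallest normal subgroup of odd index. -/
theorem exists_minimal_odd_normal (hO : oddCore G = ⊥) (P : Sylow 2 G) :
    ∃ N : Subgroup G, N.Normal ∧ Odd N.index ∧ (P : Subgroup G) ≤ N ∧ oddCore ↥N = ⊥ ∧
      ∀ M : Subgroup ↥N, M.Normal → Odd M.index → M = ⊤ := by
  haveI : Fact (Nat.Prime 2) := ⟨Nat.prime_two⟩
  have hle : ∀ K : Subgroup G, K.Normal → Odd K.index → (P : Subgroup G) ≤ K := by
    intro K hK ho a ha
    obtain ⟨k, hk⟩ := P.2.exists_card_eq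
    have h1 : (QuotientGroup.mk' K a) ^ (2 ^ k) = 1 := by
      rw [← map_pow, ← hk, show a ^ Nat.card (P : Subgroup G) = 1 from
        congrArg Subtype.val (pow_card_eq_one' (G := (P : Subgroup G)) (x := ⟨a, ha⟩)), map_one]
    have h2 : (QuotientGroup.mk' K a) ^ K.index = 1 := by rw [Subgroup.index_eq_card]; exact pow_card_eq_one'
    have h3 := Nat.dvd_gcd (orderOf_dvd_of_pow_eq_one h1) (orderOf_dvd_of_pow_eq_one h2)
    rw [((Nat.coprime_two_left.mpr ho).pow_left k).gcd_eq_one, Nat.dvd_one, orderOf_eq_one_iff] at h3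
    exact (QuotientGroup.eq_one_iff a).mp h3
  obtain ⟨N, ⟨hN, hNo⟩, hmin⟩ := (Set.toFinite {K : Subgroup G | K.Normal ∧ Odd K.index}).exists_minimal
    ⟨⊤, inferInstance, by rw [index_top]; exact odd_one⟩
  haveI := hN
  refine ⟨N, hN, hNo, hle N hN hNo, ?_, fun M hM hMo => ?_⟩
  · have h4 : (oddCore ↥N).map N.subtype = ⊥ := le_bot_iff.mp (hO ▸ CfsgLib.le_oddCore
      (by rw [card_map_of_injective N.subtype_injective]; exact CfsgLib.odd_card_oddCore))
    exact (map_eq_bot_iff_of_injective _ N.subtype_injective).mp h4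
  · -- the normal core in `G` still has odd index
    set Q := (M.map N.subtype).normalCore with hQ
    have hMG : Odd (M.map N.subtype).index := by
      rw [← relIndex_mul_index (map_subtype_le M), relIndex, subgroupOf,
        comap_map_eq_self_of_injective N.subtype_injective]
      exact hMo.mul hNo
    have hQo : Odd Q.index := by
      by_contra h
      rw [Nat.not_odd_iff_even, even_iff_two_dvd] at h
      have hQN : Q ≤ N := (M.map N.subtype).normalCore_le.trans (map_subtype_le M)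
      -- the image of `P` in the quotient is trivial
      refine P.not_dvd_index (h.trans (index_dvd_of_le fun a ha => ?_))
      intro g
      have hn : ((MulAut.conjNormal g : MulAut N) ⟨a, hle N hN hNo ha⟩ : G) = g * a * g⁻¹ := MulAut.conjNormal_apply g _
      obtain ⟨k, hk⟩ := P.2.exists_card_eq
      set y : N := (MulAut.conjNormal g : MulAut N) ⟨a, hle N hN hNo ha⟩
      have ha1 : (⟨a, hle N hN hNo ha⟩ : N) ^ (2 ^ k) = 1 := by
        rw [← hk]
        exact Subtype.ext (congrArg Subtype.val (pow_card_eq_one' (G := (P : Subgroup G)) (x := ⟨a, ha⟩)) :)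
      have h1 : (QuotientGroup.mk' M y) ^ (2 ^ k) = 1 := by
        rw [← map_pow, show y ^ (2 ^ k) = 1 by rw [← map_pow, ha1, map_one], map_one]
      have h2 : (QuotientGroup.mk' M y) ^ M.index = 1 := by rw [Subgroup.index_eq_card]; exact pow_card_eq_one'
      have h3 := Nat.dvd_gcd (orderOf_dvd_of_pow_eq_one h1) (orderOf_dvd_of_pow_eq_one h2)
      rw [((Nat.coprime_two_left.mpr hMo).pow_left k).gcd_eq_one, Nat.dvd_one, orderOf_eq_one_iff] at h3
      exact ⟨y, (QuotientGroup.eq_one_iff y).mp h3, hn⟩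
    have hQN : Q ≤ N := (M.map N.subtype).normalCore_le.trans (map_subtype_le M)
    have hNQ : N ≤ Q := hmin ⟨inferInstance, hQo⟩ hQN
    refine eq_top_iff.mpr fun n _ => ?_
    obtain ⟨m, hm, e⟩ := (M.map N.subtype).normalCore_le (hNQ n.2)
    rwa [show m = n from Subtype.ext e] at hm

/-- If odd elements of the normalizer centralise the Sylow subgroup modulo `L`, a normal subgroup containing both
has no subgroup of index two containing `L`. -/
theorem no_index_two_over (P : Sylow 2 G) (hres : Cfsg.pResidual 2 G = ⊤)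
    (L : Subgroup G)
    (hodd : ∀ g ∈ normalizer ((P : Subgroup G) : Set G), Odd (orderOf g) → ∀ a ∈ (P : Subgroup G), a⁻¹ * (g * a * g⁻¹) ∈ L)
    (N : Subgroup G) [N.Normal] (hPN : (P : Subgroup G) ≤ N) (K : Subgroup ↥N) (hLN : L ≤ N)
    (hLK : L.subgroupOf N ≤ K) : K.index ≠ 2 := by
  haveI : Fact (Nat.Prime 2) := ⟨Nat.prime_two⟩
  intro hK
  set K₀ := closure {x : G | (∃ n ∈ N, n * n = x) ∨ x ∈ L} with hK₀
  have hsq : ∀ n ∈ N, n * n ∈ K₀ := fun n hn => subset_closure (Or.inl ⟨n, hn, rfl⟩)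
  have hcom : ∀ x ∈ N, ∀ y ∈ N, x * y * x⁻¹ * y⁻¹ ∈ K₀ := fun x hx y hy => by
    rw [show x * y * x⁻¹ * y⁻¹ = x * y * (x * y) * (y⁻¹ * x⁻¹ * y * (y⁻¹ * x⁻¹ * y)) * (y⁻¹ * y⁻¹) by group]
    exact mul_mem (mul_mem (hsq _ (mul_mem hx hy)) (hsq _ (mul_mem (mul_mem (inv_mem hy) (inv_mem hx)) hy)))
      (hsq _ (inv_mem hy))
  let Rel : G → G → Prop := fun a b => a⁻¹ * b ∈ K₀
  have htrans : ∀ {a b c}, Rel a b → Rel b c → Rel a c := fun {a b c} h h' => by
    have := mul_mem h h'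
    rwa [mul_assoc, mul_inv_cancel_left] at this
  have hinner : ∀ s ∈ (P : Subgroup G), ∀ a ∈ (P : Subgroup G), Rel a (s * a * s⁻¹) := fun s hs a ha => by
    show a⁻¹ * (s * a * s⁻¹) ∈ K₀
    have := hcom a⁻¹ (inv_mem (hPN ha)) s (hPN hs)
    rw [inv_inv] at this
    rwa [← mul_assoc, ← mul_assoc]
  have key : ∀ a ∈ (P : Subgroup G), ∀ g : G, g * a * g⁻¹ ∈ (P : Subgroup G) → Rel a (g * a * g⁻¹) := by
    intro a ha g _
    have hfr := Sylow.normalizer_sup_eq_top (P.subtype hPN)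
    rw [Sylow.coe_subtype, map_subgroupOf_eq_of_le hPN, sup_comm] at hfr
    have hg : g ∈ (↑(N ⊔ normalizer ((P : Subgroup G) : Set G)) : Set G) := by rw [hfr]; trivial
    rw [normal_mul] at hg
    obtain ⟨n, hn, m, hm, rfl⟩ := hg
    have h1 : Rel a (m * a * m⁻¹) := CfsgLib.AfterFT.DihedralSquare.rel_normalizer (Rel := Rel) htrans hinner
      (fun g hg ho a ha => subset_closure (Or.inr (hodd g hg ho a ha)))
      hm ha
    refine htrans h1 ?_
    show (m * a * m⁻¹)⁻¹ * (n * m * a * (n * m)⁻¹) ∈ K₀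
    have := hcom (m * a * m⁻¹)⁻¹ (inv_mem (Normal.conj_mem inferInstance a (hPN ha) m)) n hn
    rw [inv_inv] at this
    convert this using 1
    group
  have hle : (P : Subgroup G) ≤ K₀ := by
    have hfoc := CfsgLib.Transfer.focalSubgroup_eq_of_pResidual_eq_top P hres
    rw [Subgroup.focalSubgroup_def] at hfoc
    rw [← hfoc, closure_le]
    rintro y ⟨hy, x, hx, v, rfl⟩
    have e : ⁅x, v⁆ = x * (v * x⁻¹ * v⁻¹) := by rw [commutatorElement_def]; group
    have hv : v * x⁻¹ * v⁻¹ ∈ (P : Subgroup G) := by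
      have := mul_mem (inv_mem hx) hy
      rwa [e, inv_mul_cancel_left] at this
    have h := key x⁻¹ (inv_mem hx) v hv
    change (x⁻¹)⁻¹ * (v * x⁻¹ * v⁻¹) ∈ K₀ at h
    rw [inv_inv, ← e] at h
    exact h
  have hK₀K : K₀ ≤ K.map N.subtype := by
    rw [hK₀, closure_le]
    rintro x (⟨n, hn, rfl⟩ | hx)
    · exact ⟨⟨n, hn⟩ * ⟨n, hn⟩, mul_self_mem_of_index_two hK _, rfl⟩
    · exact ⟨⟨x, hLN hx⟩, hLK hx, rfl⟩
  have hPK : ((P.subtype hPN : Sylow 2 N) : Subgroup N) ≤ K := by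
    intro a ha
    obtain ⟨b, hb, e⟩ := hK₀K (hle ha)
    rwa [show b = a from Subtype.ext e] at hb
  have hd := index_dvd_of_le hPK
  rw [hK] at hd
  exact (P.subtype hPN).not_dvd_index hd

/-- If odd elements of the normalizer centralise the Sylow subgroup, a normal subgroup containing it has no
subgroup of index two. -/
theorem no_index_two (P : Sylow 2 G) (hres : Cfsg.pResidual 2 G = ⊤)
    (hodd : ∀ g ∈ normalizer ((P : Subgroup G) : Set G), Odd (orderOf g) → ∀ a ∈ (P : Subgroup G), g * a * g⁻¹ = a)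
    (N : Subgroup G) [N.Normal] (hPN : (P : Subgroup G) ≤ N) (K : Subgroup ↥N) : K.index ≠ 2 :=
  no_index_two_over P hres ⊥ (fun g hg ho a ha => by rw [hodd g hg ho a ha, inv_mul_cancel]; exact one_mem _) N hPN K
    bot_le (by rw [bot_subgroupOf]; exact bot_le)

/-- Restriction of strongly closed direct factors to a subgroup containing the Sylow subgroup. -/
theorem restrict_pair (P : Sylow 2 G) (N : Subgroup G) (hPN : (P : Subgroup G) ≤ N) {T₁ T₂ : Subgroup G}
    (h : IsInternalDirectProduct T₁ T₂ (P : Subgroup G)) (h₁ : IsStronglyClosed T₁ (P : Subgroup G))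
    (h₂ : IsStronglyClosed T₂ (P : Subgroup G)) :
    IsInternalDirectProduct (T₁.subgroupOf N) (T₂.subgroupOf N) ((P.subtype hPN : Sylow 2 N) : Subgroup N) ∧
      IsStronglyClosed (T₁.subgroupOf N) ((P.subtype hPN : Sylow 2 N) : Subgroup N) ∧
      IsStronglyClosed (T₂.subgroupOf N) ((P.subtype hPN : Sylow 2 N) : Subgroup N) := by
  refine ⟨⟨fun a ha => h.1 ha, fun a ha => h.2.1 ha, fun a ha b hb => Subtype.ext (h.2.2.1 _ ha _ hb), ?_, ?_⟩,
    ⟨fun a ha => h.1 ha, fun a ha g hg => h₁.2 _ ha g hg⟩, ⟨fun a ha => h.2.1 ha, fun a ha g hg => h₂.2 _ ha g hg⟩⟩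
  · rw [eq_bot_iff]
    rintro a ⟨ha, hb⟩
    have hab : (a : G) ∈ T₁ ⊓ T₂ := ⟨ha, hb⟩
    rw [h.2.2.2.1, mem_bot] at hab
    exact mem_bot.mpr (Subtype.ext hab)
  · show T₁.subgroupOf N ⊔ T₂.subgroupOf N = (P : Subgroup G).subgroupOf N
    rw [← subgroupOf_sup (h.1.trans hPN) (h.2.1.trans hPN), h.2.2.2.2]

/-- A direct factor inherits a trivial odd core and the absence of subgroups of index two. -/
theorem factor_props {N₁ N₂ : Subgroup G} [N₁.Normal] (h : IsInternalDirectProduct N₁ N₂ (⊤ : Subgroup G))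
    (hO : oddCore G = ⊥) (h2 : ∀ K : Subgroup G, K.index ≠ 2) :
    oddCore ↥N₁ = ⊥ ∧ ∀ K : Subgroup ↥N₁, K.index ≠ 2 := by
  refine ⟨?_, fun K hK => ?_⟩
  · have h4 : (oddCore ↥N₁).map N₁.subtype = ⊥ := le_bot_iff.mp (hO ▸ CfsgLib.le_oddCore
      (by rw [card_map_of_injective N₁.subtype_injective]; exact CfsgLib.odd_card_oddCore))
    exact (map_eq_bot_iff_of_injective _ N₁.subtype_injective).mp h4
  · refine h2 (K.map N₁.subtype ⊔ N₂) ?_
    have hdec : ∀ g : G, ∃ a ∈ N₁, ∃ b ∈ N₂, a * b = g := fun g => by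
      have hg : g ∈ (↑(N₁ ⊔ N₂) : Set G) := by rw [h.2.2.2.2]; trivial
      rw [normal_mul] at hg
      exact hg
    have hsup : ∀ g, g ∈ K.map N₁.subtype ⊔ N₂ → ∀ a (ha : a ∈ N₁), ∀ b ∈ N₂, a * b = g → (⟨a, ha⟩ : N₁) ∈ K := by
      intro g hg
      have hn : N₂ ≤ normalizer ((K.map N₁.subtype : Subgroup G) : Set G) := fun b hb =>
        mem_normalizer_iff.mpr fun a => by
          constructor
          · rintro ⟨k, hk, rfl⟩
            refine ⟨k, hk, ?_⟩
            show (k : G) = b * k * b⁻¹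
            rw [← h.2.2.1 _ k.2 _ hb, mul_inv_cancel_right]
          · rintro ⟨k, hk, e⟩
            refine ⟨k, hk, ?_⟩
            show (k : G) = a
            change (k : G) = b * a * b⁻¹ at e
            have : a = b⁻¹ * k * b := by rw [e]; group
            rw [this, mul_assoc, h.2.2.1 _ k.2 _ hb, inv_mul_cancel_left]
      have hg' : g ∈ (↑(K.map N₁.subtype ⊔ N₂) : Set G) := hg
      rw [coe_mul_of_right_le_normalizer_left _ _ hn] at hg'
      obtain ⟨_, ⟨k, hk, rfl⟩, b', hb', rfl⟩ := hg'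
      intro a ha b hb e
      change a * b = (k : G) * b' at e
      have h1 : (k : G)⁻¹ * a ∈ N₁ ⊓ N₂ := ⟨N₁.mul_mem (N₁.inv_mem k.2) ha, by
        have : (k : G)⁻¹ * a = b' * b⁻¹ := by
          calc (k : G)⁻¹ * a = (k : G)⁻¹ * (a * b) * b⁻¹ := by group
            _ = b' * b⁻¹ := by rw [e]; group
        rw [this]; exact N₂.mul_mem hb' (N₂.inv_mem hb)⟩
      rw [h.2.2.2.1, mem_bot, inv_mul_eq_one] at h1
      rwa [show (⟨a, ha⟩ : N₁) = k from Subtype.ext h1.symm]
    obtain ⟨t, ht⟩ := index_eq_two_iff.mp hK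
    refine index_eq_two_iff.mpr ⟨t, fun g => ?_⟩
    obtain ⟨a, ha, b, hb, rfl⟩ := hdec g
    have e : a * b * t = a * t * b := by rw [mul_assoc, ← h.2.2.1 _ t.2 _ hb, mul_assoc]
    have mem : ∀ {c} (hc : c ∈ N₁), c * b ∈ K.map N₁.subtype ⊔ N₂ ↔ (⟨c, hc⟩ : N₁) ∈ K := fun {c} hc =>
      ⟨fun h' => hsup _ h' c hc b hb rfl, fun h' => mul_mem (mem_sup_left ⟨_, h', rfl⟩) (mem_sup_right hb)⟩
    rw [e, mem (mul_mem ha t.2), mem ha]
    exact ht ⟨a, ha⟩

/-- The product decomposition of the smallest normal subgroup of odd index. -/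
theorem exists_product (hO : oddCore G = ⊥) (P : Sylow 2 G) {T₁ T₂ : Subgroup G}
    (h : IsInternalDirectProduct T₁ T₂ (P : Subgroup G)) (h₁ : IsStronglyClosed T₁ (P : Subgroup G))
    (h₂ : IsStronglyClosed T₂ (P : Subgroup G)) :
    ∃ N : Subgroup G, N.Normal ∧ Odd N.index ∧ (P : Subgroup G) ≤ N ∧ oddCore ↥N = ⊥ ∧
      (∀ M : Subgroup ↥N, M.Normal → Odd M.index → M = ⊤) ∧
      ∃ N₁ N₂ : Subgroup ↥N, N₁.Normal ∧ N₂.Normal ∧ IsInternalDirectProduct N₁ N₂ ⊤ ∧
        (∃ S₁ : Sylow 2 ↥N₁, Nonempty ((S₁ : Subgroup ↥N₁) ≃* T₁)) ∧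
        (∃ S₂ : Sylow 2 ↥N₂, Nonempty ((S₂ : Subgroup ↥N₂) ≃* T₂)) := by
  haveI : Fact (Nat.Prime 2) := ⟨Nat.prime_two⟩
  obtain ⟨N, hN, hNo, hPN, hON, hmin⟩ := exists_minimal_odd_normal hO P
  obtain ⟨hd, hc₁, hc₂⟩ := restrict_pair P N hPN h h₁ h₂
  obtain ⟨hprod, ho₁, ho₂⟩ := CfsgLib.AfterFT.PairClosed.product_decomposition
    (fun _ _ _ h => Cfsg.Agent.S0205.result h) hON hmin (P.subtype hPN) hd hc₁ hc₂
  refine ⟨N, hN, hNo, hPN, hON, hmin, _, _, normalClosure_normal, normalClosure_normal, hprod, ?_, ?_⟩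
  all_goals
    first
      | refine ⟨IsPGroup.toSylow (P := (T₁.subgroupOf N).subgroupOf _) (((P.subtype hPN).2.to_le hd.1).comap_subtype)
          (fun hd' => Nat.not_even_iff_odd.mpr ho₁ (even_iff_two_dvd.mpr hd')), ⟨?_⟩⟩
        exact (subgroupOfEquivOfLe subset_normalClosure).trans (subgroupOfEquivOfLe (h.1.trans hPN))
      | refine ⟨IsPGroup.toSylow (P := (T₂.subgroupOf N).subgroupOf _) (((P.subtype hPN).2.to_le hd.2.1).comap_subtype)
          (fun hd' => Nat.not_even_iff_odd.mpr ho₂ (even_iff_two_dvd.mpr hd')), ⟨?_⟩⟩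
        exact (subgroupOfEquivOfLe subset_normalClosure).trans (subgroupOfEquivOfLe (h.2.1.trans hPN))

end CfsgLib.SDSquare
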