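import Cfsg.Agent.Lib.SDSquare.Closed
import Cfsg.Agent.Lib.SDSquare.Minimal
import Cfsg.Agent.Lib.AfterFT.DihedralSquare.Pair
import Cfsg.Agent.Lib.Fusion.GLTwoSylow
import Cfsg.Agent.Lib.QDWreathedNoIndexTwo.Main
import Cfsg.Agent.Lib.RankTwoModel.Rows.Main

/-!
Fusion-simple groups whose Sylow `2`-subgroup is a product of two semidihedral groups, modulo the main theorem
on the rank two models.

Blueprint: `blueprint/S3168.md`.
-/

set_option autoImplicit false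
set_option linter.unusedSectionVars false

namespace CfsgLib.SDSquare

open Cfsg Subgroup CfsgLib.AfterFT.DihedralSquare

universe u
variable {G : Type u} [Group G] [Finite G]

/-- A quasi-dihedral subgroup has semidihedral generators. -/
theorem exists_sdGen {S : Subgroup G} (h : Cfsg.IsQuasiDihedral ↥S) : ∃ a : SDGen G, a.D = S := by
  obtain ⟨n, -, -, d, hM⟩ := CfsgLib.QD.exists_data h
  refine ⟨⟨(d.x : G), (d.y : G), d.M, ⟨_, hM⟩, (Subgroup.orderOf_coe d.x).trans d.hx,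
    congrArg Subtype.val (CfsgLib.QD.hyy d), ?_, ?_⟩, ?_⟩
  · have := congrArg Subtype.val d.hxy
    simpa using this
  · rintro ⟨k, hk⟩
    exact CfsgLib.QD.y_not_mem d ⟨k, Subtype.ext (by simpa using hk)⟩
  · ext g
    rw [SDGen.mem_D]
    constructor
    · rintro ⟨i, rfl | rfl⟩
      exacts [zpow_mem d.x.2 i, mul_mem (zpow_mem d.x.2 i) d.y.2]
    · intro hg
      obtain ⟨i, e | e⟩ := CfsgLib.QD.cases_elem d ⟨g, hg⟩
      exacts [⟨i, Or.inl (by simpa using congrArg Subtype.val e)⟩, ⟨i, Or.inr (by simpa using congrArg Subtype.val e)⟩]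

/-- Strongly closed semidihedral factors. -/
theorem exists_closed_pair {P : Sylow 2 G} (hres : Cfsg.pResidual 2 G = ⊤) (q : Square (P : Subgroup G)) :
    ∃ T₁ T₂ : Subgroup G, IsInternalDirectProduct T₁ T₂ (P : Subgroup G) ∧
      IsStronglyClosed T₁ (P : Subgroup G) ∧ IsStronglyClosed T₂ (P : Subgroup G) ∧
      Nonempty (T₁ ≃* q.a.D) ∧ Nonempty (T₂ ≃* q.b.D) := by
  obtain ⟨tw⟩ := exists_twist q hres
  obtain ⟨tw'⟩ := exists_twist q.swap hres
  obtain ⟨h₁, h₂⟩ := strongly_closed hres tw tw'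
  exact ⟨tw.T, tw'.T, tw.product tw', h₁, h₂, ⟨tw.equiv⟩, ⟨tw'.equiv⟩⟩

/-- A factor with quasi-dihedral Sylow subgroups is simple. -/
theorem factor_simple {H : Type u} [Group H] [Finite H] {N₁ N₂ : Subgroup H} [N₁.Normal]
    (h : IsInternalDirectProduct N₁ N₂ (⊤ : Subgroup H)) (hO : oddCore H = ⊥) (h2 : ∀ K : Subgroup H, K.index ≠ 2)
    (hmin : ∀ M : Subgroup H, M.Normal → Odd M.index → M = ⊤) (S : Sylow 2 ↥N₁)
    (hS : Cfsg.IsQuasiDihedral (S : Subgroup ↥N₁)) : IsSimpleGroup ↥N₁ := by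
  obtain ⟨hO₁, h2₁⟩ := factor_props h hO h2
  obtain ⟨L, hL, hLo, hsimple, -⟩ := CfsgLib.QDWNoTwo.exists_simple_odd_index S (Or.inl hS) h2₁ hO₁
  haveI := hsimple
  set M := L.map N₁.subtype ⊔ N₂ with hMdef
  have hdec : ∀ g : H, ∃ a ∈ N₁, ∃ b ∈ N₂, a * b = g := fun g => by
    have hg : g ∈ (↑(N₁ ⊔ N₂) : Set H) := by rw [h.2.2.2.2]; trivial
    rw [normal_mul] at hg
    exact hg
  have hle : ∀ a ∈ N₁, ∀ x ∈ M, a * x * a⁻¹ ∈ M := by
    intro a ha x hx
    refine (sup_le ?_ ?_ : M ≤ M.comap (MulAut.conj a).toMonoidHom) hx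
    · rintro _ ⟨l, hl, rfl⟩
      exact mem_sup_left ⟨⟨a, ha⟩ * l * ⟨a, ha⟩⁻¹, hL.conj_mem l hl _, rfl⟩
    · intro c hc
      show a * c * a⁻¹ ∈ M
      rw [h.2.2.1 a ha c hc, mul_inv_cancel_right]
      exact mem_sup_right hc
  have hMn : M.Normal := by
    refine normalizer_eq_top_iff.mp (eq_top_iff.mpr fun g _ => ?_)
    obtain ⟨a, ha, b, hb, rfl⟩ := hdec g
    refine mul_mem (mem_normalizer_iff.mpr fun x => ⟨hle a ha x, fun hx => ?_⟩) (le_normalizer (mem_sup_right hb))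
    simpa [mul_assoc] using hle a⁻¹ (N₁.inv_mem ha) _ hx
  have hMo : Odd M.index := by
    refine Nat.not_even_iff_odd.mp fun he => ?_
    have htop : N₁ ⊔ M = ⊤ := eq_top_iff.mpr (h.2.2.2.2.symm.le.trans (sup_le_sup_left le_sup_right _))
    have h1 : M.index ∣ L.index := by
      have : L ≤ M.subgroupOf N₁ := fun l hl => mem_sup_left ⟨l, hl, rfl⟩
      refine dvd_trans ?_ (index_dvd_of_le this)
      rw [← relIndex, ← relIndex_sup_right, htop, relIndex_top_right]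
    exact Nat.not_even_iff_odd.mpr hLo (he.trans_dvd h1)
  have hMtop := hmin M hMn hMo
  have hLtop : L = ⊤ := by
    refine eq_top_iff.mpr fun a _ => ?_
    have ha : (a : H) ∈ (↑(L.map N₁.subtype ⊔ N₂) : Set H) := by rw [← hMdef, hMtop]; trivial
    have hn : N₂ ≤ normalizer ((L.map N₁.subtype : Subgroup H) : Set H) := fun b hb =>
      mem_normalizer_iff.mpr fun x => by
        constructor
        · rintro ⟨l, hl, rfl⟩
          refine ⟨l, hl, ?_⟩
          show (l : H) = b * l * b⁻¹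
          rw [← h.2.2.1 _ l.2 _ hb, mul_inv_cancel_right]
        · rintro ⟨l, hl, e⟩
          refine ⟨l, hl, ?_⟩
          show (l : H) = x
          change (l : H) = b * x * b⁻¹ at e
          have : x = b⁻¹ * l * b := by rw [e]; group
          rw [this, mul_assoc, h.2.2.1 _ l.2 _ hb, inv_mul_cancel_left]
    rw [coe_mul_of_right_le_normalizer_left _ _ hn] at ha
    obtain ⟨_, ⟨l, hl, rfl⟩, b, hb, e⟩ := ha
    change (l : H) * b = a at e
    have hb' : b ∈ N₁ ⊓ N₂ := ⟨by rw [eq_inv_mul_of_mul_eq e]; exact N₁.mul_mem (N₁.inv_mem l.2) a.2, hb⟩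
    rw [h.2.2.2.1, mem_bot] at hb'
    rw [hb', mul_one] at e
    rwa [show a = l from Subtype.ext e.symm]
  exact (MulEquiv.isSimpleGroup_congr ((MulEquiv.subgroupCongr hLtop).trans topEquiv)).mp hsimple

/-- The three families. -/
def Row (F : Type u) [Group F] : Prop :=
  Cfsg.IsM11 F ∨
    (∃ (K : Type) (_ : Field K) (_ : Fintype K), Fintype.card K % 4 = 3 ∧
      Nonempty (F ≃* Matrix.ProjectiveSpecialLinearGroup (Fin 3) K)) ∨
    (∃ (K : Type) (_ : Field K) (_ : Fintype K) (q : ℕ), Fintype.card K = q ^ 2 ∧ q % 4 = 1 ∧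
      Nonempty (F ≃* Cfsg.PSU 3 K q))

theorem isM11_congr {A B : Type u} [Group A] [Group B] (e : A ≃* B) (h : Cfsg.IsM11 A) : Cfsg.IsM11 B := by
  obtain ⟨h1, h2⟩ := h
  exact ⟨(MulEquiv.isSimpleGroup_congr e).mp h1, by rw [← Nat.card_congr e.toEquiv]; exact h2⟩

theorem row_of (main : RankTwoModel.Rows.Main.{u}) {H : Type u} [Group H] [Finite H] [IsSimpleGroup H] (S : Sylow 2 H)
    (hS : Cfsg.IsQuasiDihedral (S : Subgroup H)) : Row H := by
  rcases CfsgLib.RankTwoModel.Rows.semidihedral main S hS with h | h | h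
  exacts [Or.inr (Or.inl h), Or.inr (Or.inr h), Or.inl h]

theorem Row.congr {A B : Type u} [Group A] [Group B] (e : A ≃* B) (h : Row A) : Row B := by
  rcases h with h | ⟨K, i₁, i₂, h4, ⟨f⟩⟩ | ⟨K, i₁, i₂, q, hc, h4, ⟨f⟩⟩
  exacts [Or.inl (isM11_congr e h), Or.inr (Or.inl ⟨K, i₁, i₂, h4, ⟨e.symm.trans f⟩⟩),
    Or.inr (Or.inr ⟨K, i₁, i₂, q, hc, h4, ⟨e.symm.trans f⟩⟩)]

/-- S3168 from the main theorem. -/
theorem s3168 (main : RankTwoModel.Rows.Main.{u})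
    (h2 : ∀ H : Subgroup G, H.index ≠ 2) (hO : Cfsg.oddCore G = ⊥)
    (S : Sylow 2 G) (S₁ S₂ : Subgroup G) (hS : Cfsg.IsInternalDirectProduct S₁ S₂ (S : Subgroup G))
    (h₁ : Cfsg.IsQuasiDihedral ↥S₁) (h₂ : Cfsg.IsQuasiDihedral ↥S₂) :
    ∃ N : Subgroup G, N.Normal ∧ Odd N.index ∧ ∃ F₁ F₂ : Subgroup G, Cfsg.IsInternalDirectProduct F₁ F₂ N ∧
      Row ↥F₁ ∧ Row ↥F₂ := by
  haveI : Fact (Nat.Prime 2) := ⟨Nat.prime_two⟩
  obtain ⟨a, ha⟩ := exists_sdGen h₁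
  obtain ⟨b, hb⟩ := exists_sdGen h₂
  let q : Square (S : Subgroup G) := ⟨a, b, by rw [ha, hb]; exact hS⟩
  have hres := pResidual_eq_top fun N _ => h2 N
  obtain ⟨T₁, T₂, hT, hc₁, hc₂, ⟨e₁⟩, ⟨e₂⟩⟩ := exists_closed_pair hres q
  obtain ⟨N, hN, hNo, hSN, hON, hmin, N₁, N₂, hN₁, hN₂, hprod, ⟨R₁, ⟨f₁⟩⟩, R₂, ⟨f₂⟩⟩ :=
    exists_product hO S hT hc₁ hc₂
  haveI := hN₁
  haveI := hN₂
  haveI := hN
  have h2N : ∀ K : Subgroup ↥N, K.index ≠ 2 :=
    no_index_two S hres (fun g hg ho a ha => odd_central q hg ho ha) N hSN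
  have hq₁ : Cfsg.IsQuasiDihedral (R₁ : Subgroup ↥N₁) := CfsgLib.GLTwoSylow.isQuasiDihedral_congr
    (f₁.trans (e₁.trans (MulEquiv.subgroupCongr ha))).symm h₁
  have hq₂ : Cfsg.IsQuasiDihedral (R₂ : Subgroup ↥N₂) := CfsgLib.GLTwoSylow.isQuasiDihedral_congr
    (f₂.trans (e₂.trans (MulEquiv.subgroupCongr hb))).symm h₂
  haveI := factor_simple hprod hON h2N hmin R₁ hq₁
  haveI := factor_simple (isInternalDirectProduct_symm hprod) hON h2N hmin R₂ hq₂
  refine ⟨N, hN, hNo, N₁.map N.subtype, N₂.map N.subtype, ?_,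
    (row_of main R₁ hq₁).congr (N₁.equivMapOfInjective _ N.subtype_injective),
    (row_of main R₂ hq₂).congr (N₂.equivMapOfInjective _ N.subtype_injective)⟩
  refine ⟨map_subtype_le _, map_subtype_le _, ?_, ?_, ?_⟩
  · rintro _ ⟨x, hx, rfl⟩ _ ⟨y, hy, rfl⟩
    show (x : G) * y = y * x
    exact congrArg Subtype.val (hprod.2.2.1 x hx y hy)
  · rw [← map_inf _ _ _ N.subtype_injective, hprod.2.2.2.1, Subgroup.map_bot]
  · rw [← Subgroup.map_sup, hprod.2.2.2.2, ← MonoidHom.range_eq_map, range_subtype]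

end CfsgLib.SDSquare
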