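import Cfsg.Agent.Lib.SDSquare.Twist
import Cfsg.Agent.Lib.AfterFT.DihedralSquare.Cross

/-!
Squares of two-elements normalising a small subgroup act on it almost trivially.
-/

set_option autoImplicit false
set_option linter.unusedSectionVars false

namespace CfsgLib.SDSquare

open Cfsg Cfsg.FusionSystem Subgroup CfsgLib.AfterFT.DihedralSquare

universe u
variable {G : Type u} [Group G] [Finite G] {P : Sylow 2 G} (q : Square (P : Subgroup G))

theorem off_pair {d : SDGen G} {t v : G} (ht : d.Off t) (hv : v ∈ d.D) (h : t * v = v * t) :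
    v ∈ d.Z ∨ t⁻¹ * v ∈ d.Z := by
  by_cases hX : v ∈ d.X
  · exact Or.inl (d.off_comm_rot ht hX h.symm)
  · exact Or.inr (d.off_comm_off ht ⟨hv, hX⟩ h)

/-- A square of a normalising element commutes with one projection of an elementary abelian group. -/
theorem sq_commute_pr {A : Subgroup G} (hA : A ≤ (P : Subgroup G)) (hA2 : ∀ a ∈ A, a * a = 1)
    (hAc : ∀ a ∈ A, ∀ b ∈ A, a * b = b * a) {s : G} (hs : s ∈ normalizerIn (P : Subgroup G) A) {a : G}
    (ha : a ∈ A) : q.pr (s * s) * q.pr a = q.pr a * q.pr (s * s) := by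
  have haS := hA ha
  have hd := q.pr_mem hs.1
  have hc : q.pr a * q.pr a = 1 := by rw [← q.pr_sq haS, hA2 a ha, q.pr_one]
  rw [q.pr_sq hs.1]
  by_cases hX : q.pr a ∈ q.a.X
  · exact (q.a.Z_comm (mul_mem hd hd) (q.a.eq_Z_of_sq hX hc)).symm
  · have ht : q.a.Off (q.pr a) := ⟨q.pr_mem haS, hX⟩
    have ha' : s * a * s⁻¹ ∈ A := (mem_normalizer_iff.mp hs.2 a).mp ha
    have hp : q.pr (s * a * s⁻¹) = q.pr s * q.pr a * (q.pr s)⁻¹ := q.pr_conj hs.1 haS
    refine q.a.Z_comm ht.1 (q.a.sq_normalizing_four hd ht ?_)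
    rcases off_pair ht (q.pr_mem (hA ha')) (q.pr_commute haS (hA ha') (hAc a ha _ ha')) with h | h <;> rw [hp] at h
    · exfalso
      refine hX ?_
      have := q.a.conj_mem_X (inv_mem hd) (q.a.Z_le h)
      simpa [mul_assoc] using this
    · rw [show q.pr s * q.pr a * (q.pr s)⁻¹ * (q.pr a)⁻¹ =
        q.pr a * ((q.pr a)⁻¹ * (q.pr s * q.pr a * (q.pr s)⁻¹)) * (q.pr a)⁻¹ by group,
        ← q.a.Z_comm ht.1 h, mul_inv_cancel_right]
      exact h

/-- Squares of normalising elements centralise elementary abelian subgroups. -/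
theorem noSwap_elementary (q : Square (P : Subgroup G)) {A : Subgroup G} (hA : A ≤ (P : Subgroup G)) (hA2 : ∀ a ∈ A, a * a = 1) :
    NoSwap (normalizer (A : Set G)) A := by
  haveI : Fact (Nat.Prime 2) := ⟨Nat.prime_two⟩
  obtain ⟨h, hB, hsyl⟩ := exists_conj_isSylowIn P hA
  set B : Subgroup G := A.map (MulAut.conj h : G ≃* G).toMonoidHom with hB'
  have hB2 : ∀ b ∈ B, b * b = 1 := by
    rintro _ ⟨a, ha, rfl⟩
    rw [← map_mul, hA2 a ha, map_one]
  have hBc : ∀ a ∈ B, ∀ b ∈ B, a * b = b * a := fun a ha b hb => by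
    have e : ∀ c ∈ B, c⁻¹ = c := fun c hc => inv_eq_of_mul_eq_one_left (hB2 c hc)
    have := e _ (B.mul_mem ha hb)
    rw [mul_inv_rev, e a ha, e b hb] at this
    exact this.symm
  have hNB : NoSwap (normalizer (B : Set G)) B :=
    noSwap_of_sylow hsyl (fun n hn a ha => (mem_normalizer_iff.mp hn a).mp ha) fun s hs a ha =>
      q.commute_of (P.mul_mem hs.1 hs.1) (hB ha) (sq_commute_pr q hB hB2 hBc hs ha)
        (sq_commute_pr q.swap hB hB2 hBc hs ha)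
  intro k hk a ha b hb h1 h2
  refine (MulAut.conj h).injective (hNB (h * k * h⁻¹) ?_ _ ⟨a, ha, rfl⟩ _ ⟨b, hb, rfl⟩ ?_ ?_)
  · rw [hB', ← Subgroup.map_normalizer_eq_of_bijective A (MulEquiv.bijective (MulAut.conj h))]
    exact ⟨k, hk, rfl⟩
  · rw [← h1]; simp [mul_assoc]
  · rw [← h2]; simp [mul_assoc]

/-- A subgroup of exponent four with three independent central involutions. -/
theorem sq_almost_trivial (q : Square (P : Subgroup G)) {B : Subgroup G} (hB : B ≤ (P : Subgroup G))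
    (h4 : ∀ r ∈ B, r * r * (r * r) = 1) (hne : ∃ r ∈ B, r * r ≠ 1) {a₁ a₂ a₃ : G} (m₁ : a₁ ∈ B) (m₂ : a₂ ∈ B)
    (m₃ : a₃ ∈ B) (s₁ : a₁ * a₁ = 1) (s₂ : a₂ * a₂ = 1) (s₃ : a₃ * a₃ = 1) (n₁ : a₁ ≠ 1) (n₂ : a₂ ≠ 1)
    (n₃ : a₃ ≠ 1) (n₁₂ : a₁ ≠ a₂) (n₁₃ : a₁ ≠ a₃) (n₂₃ : a₂ ≠ a₃) (hind : a₁ * a₂ ≠ a₃)
    (c₁ : ∀ r ∈ B, a₁ * r = r * a₁) (c₂ : ∀ r ∈ B, a₂ * r = r * a₂) (c₃ : ∀ r ∈ B, a₃ * r = r * a₃)
    {s : G} (hs : s ∈ normalizerIn (P : Subgroup G) B) {r : G} (hr : r ∈ B) :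
    ∃ f ∈ B, s * s * r * (s * s)⁻¹ * r⁻¹ = f * f := by
  -- one projection of the elementary subgroup is a four group
  have main : ∀ (p : Square (P : Subgroup G)) (a : G), a ∈ B → a * a = 1 → (∀ r ∈ B, a * r = r * a) →
      p.pr a ∉ p.a.X → ∃ f ∈ B, s * s * r * (s * s)⁻¹ * r⁻¹ = f * f := by
    intro p a ha ha2 hac hX
    have ht : p.a.Off (p.pr a) := ⟨p.pr_mem (hB ha), hX⟩
    have ht2 : p.pr a * p.pr a = 1 := by rw [← p.pr_sq (hB ha), ha2, p.pr_one]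
    have range : ∀ r ∈ B, p.pr r ∈ p.a.Z ∨ (p.pr a)⁻¹ * p.pr r ∈ p.a.Z := fun r hr =>
      off_pair ht (p.pr_mem (hB hr)) (p.pr_commute (hB ha) (hB hr) (hac r hr))
    have sq1 : ∀ r ∈ B, p.pr r * p.pr r = 1 := by
      intro r hr
      rcases range r hr with h | h
      · exact p.a.Z_sq h
      · set ζ := (p.pr a)⁻¹ * p.pr r with hζ
        have e : p.pr r = p.pr a * ζ := by rw [hζ]; group
        have hc := p.a.Z_comm ht.1 h
        rw [e]
        calc p.pr a * ζ * (p.pr a * ζ) = p.pr a * (ζ * p.pr a) * ζ := by group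
          _ = p.pr a * p.pr a * (ζ * ζ) := by rw [hc]; group
          _ = 1 := by rw [ht2, p.a.Z_sq h, one_mul]
    have hrot : ∀ r ∈ B, p.swap.pr r ∈ p.b.X → p.swap.pr r ∈ zpowers p.b.c := by
      intro r hr hrX
      refine p.b.mem_zpowers_c hrX (p.b.eq_Z_of_sq (mul_mem hrX hrX) ?_)
      rw [← p.swap.pr_sq (hB hr), ← p.swap.pr_sq (P.mul_mem (hB hr) (hB hr)), h4 r hr, p.swap.pr_one]
    have hsa : s * a * s⁻¹ ∈ B := (mem_normalizer_iff.mp hs.2 a).mp ha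
    have hd := p.pr_mem hs.1
    have hsq : p.pr s * p.pr s ∈ p.a.Z := by
      refine p.a.sq_normalizing_four hd ht ?_
      rcases range _ hsa with h | h <;> rw [p.pr_conj hs.1 (hB ha)] at h
      · exfalso
        refine hX ?_
        have := p.a.conj_mem_X (inv_mem hd) (p.a.Z_le h)
        simpa [mul_assoc] using this
      · rw [show p.pr s * p.pr a * (p.pr s)⁻¹ * (p.pr a)⁻¹ =
          p.pr a * ((p.pr a)⁻¹ * (p.pr s * p.pr a * (p.pr s)⁻¹)) * (p.pr a)⁻¹ by group,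
          ← p.a.Z_comm ht.1 h, mul_inv_cancel_right]
        exact h
    have hd' := p.pr'_mem hs.1
    have hr' := p.pr'_mem (hB hr)
    have hpart : p.swap.pr s * p.swap.pr s * p.swap.pr r * (p.swap.pr s * p.swap.pr s)⁻¹ * (p.swap.pr r)⁻¹ ∈
        p.b.Z := by
      by_cases hrX : p.swap.pr r ∈ p.b.X
      · rw [p.b.rot_comm (p.b.sq_mem_X hd') hrX, mul_inv_cancel_right, mul_inv_cancel]; exact one_mem _
      · refine p.b.sq_normalizing hd' ⟨hr', hrX⟩ ?_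
        have hsr : s * r * s⁻¹ ∈ B := (mem_normalizer_iff.mp hs.2 r).mp hr
        rw [← p.swap.pr_conj hs.1 (hB hr), ← p.swap.pr_inv (hB hr), ← p.swap.pr_mul (hB hsr) (P.inv_mem (hB hr))]
        refine hrot _ (mul_mem hsr (inv_mem hr)) ?_
        rw [p.swap.pr_mul (hB hsr) (P.inv_mem (hB hr)), p.swap.pr_conj hs.1 (hB hr), p.swap.pr_inv (hB hr)]
        exact p.b.off_mul_off ⟨mul_mem (mul_mem hd' hr') (inv_mem hd'), fun h' => hrX (by
          have := p.b.conj_mem_X (inv_mem hd') h'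
          simpa [mul_assoc] using this)⟩ ⟨inv_mem hr', fun h' => hrX (inv_mem_iff.mp h')⟩
    have hssP := P.mul_mem hs.1 hs.1
    have hm1 := P.mul_mem (P.mul_mem hssP (hB hr)) (P.inv_mem hssP)
    have hm := P.mul_mem hm1 (P.inv_mem (hB hr))
    have e1 : p.pr (s * s * r * (s * s)⁻¹ * r⁻¹) = 1 := by
      rw [p.pr_mul hm1 (P.inv_mem (hB hr)), p.pr_conj hssP (hB hr), p.pr_inv (hB hr), p.pr_sq hs.1,
        p.a.Z_comm (p.pr_mem (hB hr)) hsq, mul_inv_cancel_right, mul_inv_cancel]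
    have e2 : p.swap.pr (s * s * r * (s * s)⁻¹ * r⁻¹) ∈ p.b.Z := by
      rw [p.swap.pr_mul hm1 (P.inv_mem (hB hr)), p.swap.pr_conj hssP (hB hr), p.swap.pr_inv (hB hr), p.swap.pr_sq hs.1]
      exact hpart
    have hsp := p.split hm
    rw [e1, one_mul] at hsp
    rcases p.b.mem_Z.mp e2 with e | e <;> rw [e] at hsp
    · exact ⟨1, one_mem _, by rw [← hsp, one_mul]⟩
    · obtain ⟨r₀, hr₀, hne₀⟩ := hne
      refine ⟨r₀, hr₀, ?_⟩
      have hsp' := p.split (P.mul_mem (hB hr₀) (hB hr₀))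
      rw [p.pr_sq (hB hr₀), sq1 r₀ hr₀, one_mul, p.swap.pr_sq (hB hr₀)] at hsp'
      have hZ : p.swap.pr r₀ * p.swap.pr r₀ ∈ p.b.Z := by
        by_cases hX' : p.swap.pr r₀ ∈ p.b.X
        · exact p.b.sq_mem_Z_of_c (hrot r₀ hr₀ hX')
        · exact p.b.off_sq ⟨p.pr'_mem (hB hr₀), hX'⟩
      rcases p.b.mem_Z.mp hZ with e' | e'
      · exact absurd (hsp'.symm.trans e') hne₀
      · rw [← hsp, ← e']; exact hsp'
  by_cases h1 : q.pr a₁ ∈ q.a.X ∧ q.pr a₂ ∈ q.a.X ∧ q.pr a₃ ∈ q.a.X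
  · by_cases h2 : q.swap.pr a₁ ∈ q.b.X ∧ q.swap.pr a₂ ∈ q.b.X ∧ q.swap.pr a₃ ∈ q.b.X
    · exfalso
      have val : ∀ a ∈ B, a * a = 1 → a ≠ 1 → q.pr a ∈ q.a.X → q.swap.pr a ∈ q.b.X →
          a = q.a.z ∨ a = q.b.z ∨ a = q.a.z * q.b.z := by
        intro a ha ha2 hane hx hy
        have za := q.a.eq_Z_of_sq hx (by rw [← q.pr_sq (hB ha), ha2, q.pr_one])
        have zb := q.b.eq_Z_of_sq hy (by rw [← q.swap.pr_sq (hB ha), ha2, q.swap.pr_one])
        have hsp := q.split (hB ha)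
        rcases q.a.mem_Z.mp za with e | e <;> rcases q.b.mem_Z.mp zb with e' | e' <;> rw [e, e'] at hsp
        · exact absurd (hsp.symm.trans (one_mul 1)) hane
        · exact Or.inr (Or.inl (by rw [← hsp, one_mul]))
        · exact Or.inl (by rw [← hsp, mul_one])
        · exact Or.inr (Or.inr hsp.symm)
      have hzz := q.za_comm q.zb_mem
      have k1 : q.a.z * (q.a.z * q.b.z) = q.b.z := by rw [← mul_assoc, q.a.z_mul_z, one_mul]
      have k2 : q.b.z * (q.a.z * q.b.z) = q.a.z := by rw [hzz, ← mul_assoc, q.b.z_mul_z, one_mul]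
      have k3 : q.a.z * q.b.z * q.a.z = q.b.z := by rw [hzz, mul_assoc, q.a.z_mul_z, mul_one]
      have k4 : q.a.z * q.b.z * q.b.z = q.a.z := by rw [mul_assoc, q.b.z_mul_z, mul_one]
      rcases val a₁ m₁ s₁ n₁ h1.1 h2.1 with e | e | e <;> rcases val a₂ m₂ s₂ n₂ h1.2.1 h2.2.1 with e' | e' | e' <;>
        rcases val a₃ m₃ s₃ n₃ h1.2.2 h2.2.2 with e'' | e'' | e'' <;>
        first
          | exact n₁₂ (e.trans e'.symm)
          | exact n₁₃ (e.trans e''.symm)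
          | exact n₂₃ (e'.trans e''.symm)
          | exact hind (by simp only [e, e', e'', k1, k2, k3, k4, ← hzz])
    · simp only [not_and_or] at h2
      rcases h2 with h2 | h2 | h2
      exacts [main q.swap a₁ m₁ s₁ c₁ h2, main q.swap a₂ m₂ s₂ c₂ h2, main q.swap a₃ m₃ s₃ c₃ h2]
  · simp only [not_and_or] at h1
    rcases h1 with h1 | h1 | h1
    exacts [main q a₁ m₁ s₁ c₁ h1, main q a₂ m₂ s₂ c₂ h1, main q a₃ m₃ s₃ c₃ h1]

end CfsgLib.SDSquare
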