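import Cfsg.Agent.Lib.SDSquare.Series

/-!
An essential subgroup with a two-dimensional section on which an element of `S` is a transvection:
every automorphism extends up to one conjugate transvection.
-/

set_option autoImplicit false
set_option linter.unusedSectionVars false

namespace CfsgLib.SDSquare

open Cfsg Cfsg.FusionSystem Subgroup CfsgLib.AfterFT.DihedralSquare

universe u
variable {G : Type u} [Group G]

/-- Congruence modulo a subgroup. -/
def Eqv (L : Subgroup G) (l l' : G) : Prop := l⁻¹ * l' ∈ L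

/-- An essential subgroup `E`, a section `L₁ / L₀` and a transvection `x` of it with centre `a`. -/
structure Fork [Finite G] (P : Sylow 2 G) (E L₀ L₁ : Subgroup G) (x a : G) : Prop where
  ess : (groupFusionSystem (P : Subgroup G)).IsEssential 2 E
  inv0 : Inv E L₀
  inv1 : Inv E L₁
  le : L₀ ≤ L₁
  xN : x ∈ normalizerIn (P : Subgroup G) E
  xE : x ∉ E
  a_mem : a ∈ L₁
  a_notMem : a ∉ L₀
  a_sq : a * a ∈ L₀
  a_fix : Eqv L₀ a (x * a * x⁻¹)
  comm : ∀ l ∈ L₁, ∀ l' ∈ L₁, Eqv L₀ (l * l') (l' * l)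
  top : ∀ e ∈ E, x * e * x⁻¹ * e⁻¹ ∈ L₁
  bot : ∀ l ∈ L₀, x * l = l * x
  trans : ∀ l ∈ L₁, Eqv L₀ l (x * l * x⁻¹) ∨ Eqv L₀ (l * a) (x * l * x⁻¹)
  fixed : ∀ l ∈ L₁, Eqv L₀ l (x * l * x⁻¹) → Eqv L₀ 1 l ∨ Eqv L₀ a l

namespace Fork

variable [Finite G] {P : Sylow 2 G} {E L₀ L₁ : Subgroup G} {x a : G} (F : Fork P E L₀ L₁ x a)
include F

theorem refl (l : G) : Eqv L₀ l l := by unfold Eqv; rw [inv_mul_cancel]; exact one_mem _

theorem symm {l l' : G} (h : Eqv L₀ l l') : Eqv L₀ l' l := by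
  have := inv_mem h
  rwa [mul_inv_rev, inv_inv] at this

theorem tr {l m n : G} (h : Eqv L₀ l m) (h' : Eqv L₀ m n) : Eqv L₀ l n := by
  have := mul_mem h h'
  rwa [mul_assoc, mul_inv_cancel_left] at this

theorem conj {g l l' : G} (hg : g ∈ normalizer (E : Set G)) (h : Eqv L₀ l l') :
    Eqv L₀ (g * l * g⁻¹) (g * l' * g⁻¹) := by
  have := F.inv0.conj g hg _ h
  unfold Eqv
  simpa [mul_assoc] using this

theorem mul {l l' m m' : G} (hm : m ∈ E) (h : Eqv L₀ l l') (h' : Eqv L₀ m m') :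
    Eqv L₀ (l * m) (l' * m') := by
  have h1 := F.inv0.conj m⁻¹ (inv_mem (le_normalizer hm)) _ h
  have := mul_mem h1 h'
  unfold Eqv
  simpa [mul_assoc] using this

theorem memE {l : G} (hl : l ∈ L₁) : l ∈ E := F.inv1.le hl

theorem memP {l : G} (hl : l ∈ L₁) : l ∈ (P : Subgroup G) := F.ess.1.1 (F.memE hl)

theorem mem1_of_eqv {l l' : G} (hl : l ∈ L₁) (h : Eqv L₀ l l') : l' ∈ L₁ := by
  have := mul_mem hl (F.le h)
  rwa [mul_inv_cancel_left] at this

theorem conjN {g : G} (hg : g ∈ normalizer (E : Set G)) : g * x * g⁻¹ ∈ normalizer (E : Set G) :=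
  mul_mem (mul_mem hg F.xN.2) (inv_mem hg)

theorem w_mem {g : G} (hg : g ∈ normalizer (E : Set G)) : g * a * g⁻¹ ∈ L₁ := F.inv1.conj g hg a F.a_mem

theorem w_ne {g : G} (hg : g ∈ normalizer (E : Set G)) : ¬ Eqv L₀ 1 (g * a * g⁻¹) := fun h =>
  F.a_notMem (((F.inv0.conj_iff hg)).mp (by simpa [Eqv] using h))

theorem moves {g b : G} (hg : g ∈ normalizer (E : Set G)) (hb : b ∈ L₁) (h1 : ¬ Eqv L₀ 1 b)
    (h2 : ¬ Eqv L₀ (g * a * g⁻¹) b) :
    Eqv L₀ (b * (g * a * g⁻¹)) (g * x * g⁻¹ * b * (g * x * g⁻¹)⁻¹) := by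
  have hb' : g⁻¹ * b * g ∈ L₁ := by
    have := F.inv1.conj g⁻¹ (inv_mem hg) b hb
    rwa [inv_inv] at this
  have h := (F.trans _ hb').resolve_left fun h => by
    rcases F.fixed _ hb' h with e | e <;> have e' := F.conj hg e
    · exact h1 (by simpa [mul_assoc] using e')
    · exact h2 (by simpa [mul_assoc] using e')
  have h' := F.conj hg h
  simpa [mul_assoc] using h'

theorem fixes {g : G} (hg : g ∈ normalizer (E : Set G)) :
    Eqv L₀ (g * a * g⁻¹) (g * x * g⁻¹ * (g * a * g⁻¹) * (g * x * g⁻¹)⁻¹) := by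
  have h := F.conj hg F.a_fix
  simpa [mul_assoc] using h

theorem conj_inv {k l l' : G} (hk : k ∈ normalizer (E : Set G)) (h : Eqv L₀ l (k * l' * k⁻¹)) :
    Eqv L₀ (k⁻¹ * l * k) l' := by
  have := F.conj (inv_mem hk) h
  simpa [mul_assoc] using this

/-- Elements acting alike on the section and below differ by an inner automorphism. -/
theorem same_inner {k₁ k₂ : G} (h1 : k₁ ∈ normalizer (E : Set G)) (h2 : k₂ ∈ normalizer (E : Set G))
    (t1 : ∀ e ∈ E, k₁ * e * k₁⁻¹ * e⁻¹ ∈ L₁) (t2 : ∀ e ∈ E, k₂ * e * k₂⁻¹ * e⁻¹ ∈ L₁)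
    (b1 : ∀ l ∈ L₀, k₁ * l = l * k₁) (b2 : ∀ l ∈ L₀, k₂ * l = l * k₂)
    (hs : ∀ l ∈ L₁, Eqv L₀ (k₂ * l * k₂⁻¹) (k₁ * l * k₁⁻¹)) :
    ∃ u ∈ E, ∀ e ∈ E, k₁ * e * k₁⁻¹ = k₂ * u * e * (k₂ * u)⁻¹ := by
  have hm : k₂⁻¹ * k₁ ∈ normalizer (E : Set G) := mul_mem (inv_mem h2) h1
  have s3 : ∀ e ∈ E, k₂⁻¹ * k₁ * e * (k₂⁻¹ * k₁)⁻¹ * e⁻¹ ∈ L₁ := by
    intro e he
    have he' : k₂⁻¹ * e * k₂ ∈ E := (mem_normalizer_iff''.mp h2 e).mp he
    have a1 := F.inv1.conj k₂⁻¹ (inv_mem h2) _ (t1 e he)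
    have a2 := inv_mem (t2 _ he')
    have e1 : k₂⁻¹ * k₁ * e * (k₂⁻¹ * k₁)⁻¹ * e⁻¹ =
        k₂⁻¹ * (k₁ * e * k₁⁻¹ * e⁻¹) * k₂⁻¹⁻¹ * (k₂ * (k₂⁻¹ * e * k₂) * k₂⁻¹ * (k₂⁻¹ * e * k₂)⁻¹)⁻¹ := by group
    rw [e1]
    exact mul_mem a1 a2
  have s1 : ∀ l ∈ L₁, k₂⁻¹ * k₁ * l * (k₂⁻¹ * k₁)⁻¹ * l⁻¹ ∈ L₀ := by
    intro l hl
    have h := F.conj (inv_mem h2) (hs l hl)
    have e : Eqv L₀ l (k₂⁻¹ * k₁ * l * (k₂⁻¹ * k₁)⁻¹) := by simpa [mul_assoc] using h
    have := F.inv0.conj l (le_normalizer (F.memE hl)) _ e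
    rwa [← mul_assoc, mul_inv_cancel, one_mul] at this
  have s0 : ∀ l ∈ L₀, k₂⁻¹ * k₁ * l = l * (k₂⁻¹ * k₁) := by
    intro l hl
    calc k₂⁻¹ * k₁ * l = k₂⁻¹ * (l * k₁) := by rw [mul_assoc, b1 l hl]
      _ = k₂⁻¹ * (k₂ * l) * (k₂⁻¹ * k₁) := by rw [b2 l hl]; group
      _ = l * (k₂⁻¹ * k₁) := by group
  obtain ⟨u, hu, he⟩ := inner_of_series F.ess F.inv0 F.inv1 F.inv1 F.le le_rfl hm s3
    (fun l hl => s3 l (F.memE hl)) s1 s0
  refine ⟨u, hu, fun e h => ?_⟩
  have := congrArg (fun c => k₂ * c * k₂⁻¹) (he e h)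
  simpa [mul_assoc] using this

theorem conj_top {g : G} (hg : g ∈ normalizer (E : Set G)) :
    ∀ e ∈ E, g * x * g⁻¹ * e * (g * x * g⁻¹)⁻¹ * e⁻¹ ∈ L₁ := fun e he => by
  have := F.inv1.conj g hg _ (F.top _ ((mem_normalizer_iff''.mp hg e).mp he))
  simpa [mul_assoc] using this

theorem conj_bot {g : G} (hg : g ∈ normalizer (E : Set G)) :
    ∀ l ∈ L₀, g * x * g⁻¹ * l = l * (g * x * g⁻¹) := fun l hl => by
  have h := F.bot _ (F.inv0.conj g⁻¹ (inv_mem hg) l hl)
  have := congrArg (fun c => g * c * g⁻¹) h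
  simpa [mul_assoc] using this

/-- Conjugates of `x` with congruent centres differ by an inner automorphism. -/
theorem same_of_eqv {g₁ g₂ : G} (h1 : g₁ ∈ normalizer (E : Set G)) (h2 : g₂ ∈ normalizer (E : Set G))
    (h : Eqv L₀ (g₁ * a * g₁⁻¹) (g₂ * a * g₂⁻¹)) :
    ∃ u ∈ E, ∀ e ∈ E, g₁ * x * g₁⁻¹ * e * (g₁ * x * g₁⁻¹)⁻¹ =
      g₂ * x * g₂⁻¹ * u * e * (g₂ * x * g₂⁻¹ * u)⁻¹ := by
  refine F.same_inner (F.conjN h1) (F.conjN h2) (F.conj_top h1) (F.conj_top h2) (F.conj_bot h1) (F.conj_bot h2)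
    fun l hl => ?_
  by_cases c1 : Eqv L₀ 1 l
  · have a1 := F.conj (F.conjN h2) c1
    have a2 := F.conj (F.conjN h1) c1
    simp only [mul_one, mul_inv_cancel] at a1 a2
    exact F.tr (F.symm a1) a2
  by_cases c2 : Eqv L₀ (g₁ * a * g₁⁻¹) l
  · have d1 := F.conj (F.conjN h1) c2
    have d2 := F.conj (F.conjN h2) (F.tr (F.symm h) c2)
    exact F.tr (F.tr (F.symm d2) (F.tr (F.symm (F.fixes h2)) (F.symm h))) (F.tr (F.fixes h1) d1)
  have e1 := F.moves h1 hl c1 c2
  have e2 := F.moves h2 hl c1 fun c => c2 (F.tr h c)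
  exact F.tr (F.symm e2) (F.tr (F.mul (F.memE (F.w_mem h2)) (F.refl l) (F.symm h)) e1)

/-- An element whose conjugate of `x` acts like `x` extends. -/
theorem extendable {d : G} (hd : d ∈ normalizer (E : Set G))
    (hs : ∀ l ∈ L₁, Eqv L₀ (x * l * x⁻¹) (d * x * d⁻¹ * l * (d * x * d⁻¹)⁻¹)) :
    conjAut hd ∈ extendableAut (groupFusionSystem (P : Subgroup G)) E := by
  haveI : Fact (Nat.Prime 2) := ⟨Nat.prime_two⟩
  have hES := F.ess.1.1
  obtain ⟨u, hu, he⟩ := F.same_inner (F.conjN hd) F.xN.2 (F.conj_top hd) F.top (F.conj_bot hd) F.bot hs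
  refine mem_extendableAut_of_conj
    ((groupFusionSystem_isSaturated P).isReceptive_of_isFullyNormalized P.2 F.ess.2.1) (conjAut_mem hES hd)
    (conjAut_mem_induced F.xN) (not_mem_inn F.ess.1.centralizerIn_le_self hES F.xN F.xE) ?_
  rw [← conjAut_inv hd, ← conjAut_mul, ← conjAut_mul]
  have hxu : x * u ∈ normalizerIn (P : Subgroup G) E := ⟨P.mul_mem F.xN.1 (hES hu), mul_mem F.xN.2 (le_normalizer hu)⟩
  convert conjAut_mem_induced hxu using 1
  exact MulEquiv.ext fun e => Subtype.ext (he e e.2)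

/-- The element `g` moves the centre. -/
def Moved (_F : Fork P E L₀ L₁ x a) (g : G) : Prop := ¬ Eqv L₀ a (g * a * g⁻¹)

/-- **Either `g` extends, or it does after composing with its transvection and `x`.** -/
theorem extend_or {g : G} (hg : g ∈ normalizer (E : Set G)) :
    conjAut hg ∈ extendableAut (groupFusionSystem (P : Subgroup G)) E ∨
      (F.Moved g ∧ ∃ hd : g * x * g⁻¹ * x * g ∈ normalizer (E : Set G),
        conjAut hd ∈ extendableAut (groupFusionSystem (P : Subgroup G)) E) := by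
  by_cases hm : Eqv L₀ a (g * a * g⁻¹)
  · left
    refine F.extendable hg fun l hl => ?_
    by_cases c1 : Eqv L₀ 1 l
    · have a1 := F.conj F.xN.2 c1
      have a2 := F.conj (F.conjN hg) c1
      simp only [mul_one, mul_inv_cancel] at a1 a2
      exact F.tr (F.symm a1) a2
    by_cases c2 : Eqv L₀ a l
    · have d1 := F.conj (F.conjN hg) (F.tr (F.symm hm) c2)
      have d2 := F.conj F.xN.2 c2
      exact F.tr (F.tr (F.symm d2) (F.symm F.a_fix)) (F.tr (F.tr hm (F.fixes hg)) d1)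
    have e1 := F.moves hg hl c1 fun c => c2 (F.tr hm c)
    have e2 := (F.trans l hl).resolve_left fun h => (F.fixed l hl h).elim c1 c2
    exact F.tr (F.symm e2) (F.tr (F.mul (F.memE F.a_mem) (F.refl l) hm) e1)
  · right
    refine ⟨hm, mul_mem (mul_mem (F.conjN hg) F.xN.2) hg, ?_⟩
    set k := g * x * g⁻¹ with hk'
    set w := g * a * g⁻¹ with hw'
    have hk : k ∈ normalizer (E : Set G) := F.conjN hg
    have hd : k * x * g ∈ normalizer (E : Set G) := mul_mem (mul_mem hk F.xN.2) hg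
    refine F.extendable hd fun l hl => ?_
    have hxinv : x⁻¹ ∈ normalizer (E : Set G) := inv_mem F.xN.2
    have hw := F.w_mem hg
    have hwE := F.memE hw
    have haE := F.memE F.a_mem
    have kw : Eqv L₀ w (k * w * k⁻¹) := F.fixes hg
    have xa := F.a_fix
    have ka : Eqv L₀ (a * w) (k * a * k⁻¹) :=
      F.moves hg F.a_mem (fun h => F.a_notMem (by simpa [Eqv] using h)) fun h => hm (F.symm h)
    have xw : Eqv L₀ (w * a) (x * w * x⁻¹) :=
      (F.trans w hw).resolve_left fun h => (F.fixed w hw h).elim (F.w_ne hg) hm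
    have hww : w * w ∈ L₀ := by
      have := F.inv0.conj g hg _ F.a_sq
      simpa [hw', mul_assoc] using this
    have cancel : ∀ p ∈ E, ∀ s : G, s * s ∈ L₀ → Eqv L₀ (p * s * s) p := by
      intro p hp s hs
      refine F.symm ?_
      show p⁻¹ * (p * s * s) ∈ L₀
      rw [show p⁻¹ * (p * s * s) = s * s by group]
      exact hs
    -- images of the two generators
    have ki_a : Eqv L₀ (a * w) (k⁻¹ * a * k) := by
      refine F.symm (F.conj_inv hk ?_)
      have h1 := F.mul hwE ka kw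
      have e : k * (a * w) * k⁻¹ = k * a * k⁻¹ * (k * w * k⁻¹) := by group
      rw [e]
      exact F.tr (F.symm (cancel a haE w hww)) h1
    have ki_w : Eqv L₀ w (k⁻¹ * w * k) := F.symm (F.conj_inv hk kw)
    have xi_a : Eqv L₀ a (x⁻¹ * a * x) := F.symm (F.conj_inv F.xN.2 xa)
    have xi_w : Eqv L₀ (w * a) (x⁻¹ * w * x) := by
      refine F.symm (F.conj_inv F.xN.2 ?_)
      have h1 := F.mul haE xw xa
      have e : x * (w * a) * x⁻¹ = x * w * x⁻¹ * (x * a * x⁻¹) := by group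
      rw [e]
      exact F.tr (F.symm (cancel w hwE a F.a_sq)) h1
    have hwaw : Eqv L₀ (w * (a * w)) a := by
      refine F.tr (F.comm w hw (a * w) (mul_mem F.a_mem hw)) ?_
      exact cancel a haE w hww
    have hawa : Eqv L₀ (a * (w * a)) w := by
      refine F.tr (F.comm a F.a_mem (w * a) (mul_mem hw F.a_mem)) ?_
      exact cancel w hwE a F.a_sq
    set D := k * x * g * x * (k * x * g)⁻¹ with hD
    have hdec : ∀ m, D * m * D⁻¹ = k * (x * (k * (x⁻¹ * (k⁻¹ * m * k) * x) * k⁻¹) * x⁻¹) * k⁻¹ := fun m => by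
      rw [hD, hk']; group
    have conjmul : ∀ {c p s : G}, c * (p * s) * c⁻¹ = c * p * c⁻¹ * (c * s * c⁻¹) := fun {c p s} => by group
    have hkwa : Eqv L₀ a (k * (w * a) * k⁻¹) := by
      rw [conjmul]
      exact F.tr (F.symm hwaw) (F.mul (mul_mem haE hwE) kw ka)
    have Da : Eqv L₀ a (D * a * D⁻¹) := by
      rw [hdec]
      have s1 : Eqv L₀ w (x⁻¹ * (k⁻¹ * a * k) * x) := by
        have h1 := F.conj hxinv ki_a
        rw [inv_inv] at h1
        rw [show x⁻¹ * (a * w) * x = x⁻¹ * a * x * (x⁻¹ * w * x) by group] at h1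
        exact F.tr (F.tr (F.symm hawa) (F.mul (mul_mem hwE haE) xi_a xi_w)) h1
      have s2 := F.tr kw (F.conj hk s1)
      have s3 := F.tr xw (F.conj F.xN.2 s2)
      exact F.tr hkwa (F.conj hk s3)
    have Dw : Eqv L₀ (w * a) (D * w * D⁻¹) := by
      rw [hdec]
      have s1 : Eqv L₀ (w * a) (x⁻¹ * (k⁻¹ * w * k) * x) := by
        have h1 := F.conj hxinv ki_w
        rw [inv_inv] at h1
        exact F.tr xi_w h1
      have s2 := F.tr hkwa (F.conj hk s1)
      have s3 := F.tr xa (F.conj F.xN.2 s2)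
      have s4 := F.tr ka (F.conj hk s3)
      exact F.tr (F.comm w hw a F.a_mem) s4
    have hDN : D ∈ normalizer (E : Set G) := F.conjN hd
    have base : ∀ m : G, Eqv L₀ 1 m ∨ Eqv L₀ a m → Eqv L₀ (x * m * x⁻¹) (D * m * D⁻¹) := by
      intro m h
      rcases h with h | h <;> have a1 := F.conj F.xN.2 h <;> have a2 := F.conj hDN h
      · simp only [mul_one, mul_inv_cancel] at a1 a2
        exact F.tr (F.symm a1) a2
      · exact F.tr (F.symm a1) (F.tr (F.symm xa) (F.tr Da a2))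
    rcases F.trans l hl with h | h
    · exact base l (F.fixed l hl h)
    · set m := w⁻¹ * l with hm'
      have hmL : m ∈ L₁ := mul_mem (inv_mem hw) hl
      have e1 : l = w * m := by rw [hm']; group
      have hfix : Eqv L₀ m (x * m * x⁻¹) := by
        have h1 : Eqv L₀ (w * m * a) (x * w * x⁻¹ * (x * m * x⁻¹)) := by
          rw [← conjmul, ← e1]; exact h
        have h2 : Eqv L₀ (w * a * m) (w * m * a) := by
          show (w * a * m)⁻¹ * (w * m * a) ∈ L₀
          have := F.comm a F.a_mem m hmL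
          unfold Eqv at this
          simpa [mul_assoc] using this
        have h3 := F.tr h2 h1
        have h4 := F.mul (F.memE hmL) (F.symm xw) (F.refl m)
        have h5 := F.tr h4 h3
        show m⁻¹ * (x * m * x⁻¹) ∈ L₀
        unfold Eqv at h5
        simpa [mul_assoc] using h5
      have hmN : ∀ c ∈ normalizer (E : Set G), c * m * c⁻¹ ∈ E := fun c hc => F.memE (F.inv1.conj c hc m hmL)
      rw [e1, conjmul (c := x) (p := w) (s := m), conjmul (c := D) (p := w) (s := m)]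
      exact F.mul (hmN x F.xN.2) (F.tr (F.symm xw) Dw) (base m (F.fixed m hmL hfix))

/-- Some element moves the centre. -/
theorem exists_moved : ∃ g ∈ normalizer (E : Set G), F.Moved g := by
  by_contra hcon
  push Not at hcon
  let L : Subgroup G :=
    { carrier := {l | l ∈ L₁ ∧ (Eqv L₀ 1 l ∨ Eqv L₀ a l)}
      one_mem' := ⟨one_mem _, Or.inl (F.refl 1)⟩
      mul_mem' := by
        rintro l l' ⟨hl, h⟩ ⟨hl', h'⟩
        refine ⟨mul_mem hl hl', ?_⟩
        rcases h with h | h <;> rcases h' with h' | h'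
        · left; simpa using F.mul (one_mem E) h h'
        · right; simpa using F.mul (F.memE F.a_mem) h h'
        · right; simpa using F.mul (one_mem E) h h'
        · left
          refine F.tr ?_ (F.mul (F.memE F.a_mem) h h')
          show (1 : G)⁻¹ * (a * a) ∈ L₀
          simpa using F.a_sq
      inv_mem' := by
        rintro l ⟨hl, h⟩
        refine ⟨inv_mem hl, ?_⟩
        have hn := fun {m : G} (hm : m ∈ L₀) => F.inv0.conj l (le_normalizer (F.memE hl)) m hm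
        rcases h with h | h
        · left
          show (1 : G)⁻¹ * l⁻¹ ∈ L₀
          simpa [Eqv] using inv_mem (show l ∈ L₀ by simpa [Eqv] using h)
        · right
          show a⁻¹ * l⁻¹ ∈ L₀
          have h2 : a⁻¹ * l⁻¹ = (l * a)⁻¹ := by group
          rw [h2]
          refine inv_mem ?_
          have h3 : l * a = a * (a⁻¹ * l) * a⁻¹ * (a * a) := by group
          rw [h3]
          exact mul_mem (F.inv0.conj a (le_normalizer (F.memE F.a_mem)) _ h) F.a_sq }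
  have hL : Inv E L := by
    refine ⟨fun l hl => F.memE hl.1, fun g hg l hl => ⟨F.inv1.conj g hg l hl.1, ?_⟩⟩
    rcases hl.2 with h | h
    · left; simpa using F.conj hg h
    · right; exact F.tr (hcon g hg |> fun h0 => by by_contra c; exact h0 c) (F.conj hg h)
  have rmul : ∀ l ∈ L₁, ∀ l', Eqv L₀ l l' → l' * l⁻¹ ∈ L₀ := fun l hl l' h => by
    have := F.inv0.conj l (le_normalizer (F.memE hl)) _ h
    rwa [← mul_assoc, mul_inv_cancel, one_mul] at this
  refine F.xE (mem_of_series F.ess F.inv0 hL F.inv1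
    (fun l hl => ⟨F.le hl, Or.inl (by simpa [Eqv] using hl)⟩) (fun l hl => hl.1) F.xN F.top (fun l hl => ?_)
    (fun l hl => ?_) F.bot)
  · refine ⟨F.top l (F.memE hl), ?_⟩
    rcases F.trans l hl with h | h
    · left; simpa [Eqv] using rmul l hl _ h
    · right
      have hla := mul_mem hl F.a_mem
      have h1 := rmul _ hla _ h
      refine F.symm ?_
      have h2 : Eqv L₀ (x * l * x⁻¹ * l⁻¹) a := by
        have hc := F.comm l hl a F.a_mem
        show (x * l * x⁻¹ * l⁻¹)⁻¹ * a ∈ L₀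
        have h3 := F.mul (inv_mem (F.memE hl)) h (F.refl l⁻¹)
        have h4 := F.mul (inv_mem (F.memE hl)) hc (F.refl l⁻¹)
        have h5 := F.tr (F.symm h4) h3
        rw [mul_inv_cancel_right] at h5
        exact F.symm h5
      exact h2
  · rcases hl.2 with h | h <;> have h1 := F.conj F.xN.2 h
    · simp only [mul_one, mul_inv_cancel] at h1
      exact rmul l hl.1 _ (F.tr (F.symm h) h1)
    · exact rmul l hl.1 _ (F.tr (F.symm h) (F.tr F.a_fix h1))

end Fork

end CfsgLib.SDSquare
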