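import Cfsg.Agent.Lib.SDSquare.Kill

/-!
Projections of order eight.
-/

set_option autoImplicit false
set_option linter.unusedSectionVars false

namespace CfsgLib.SDSquare

open Cfsg Cfsg.FusionSystem Subgroup CfsgLib.AfterFT.DihedralSquare

universe u
variable {G : Type u} [Group G] [Finite G] {P : Sylow 2 G} {E : Subgroup G} {q : Square (P : Subgroup G)}

namespace Eight

variable {u : G} (h : Eight q E u)
include h

theorem rot_c {r : G} (hr : r ∈ zpowers q.a.c) : r ∈ E ∧ r ∈ q.a.X :=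
  ⟨zpowers_le.mpr h.c_mem hr, zpowers_le.mpr q.a.c_mem_X hr⟩

theorem off_range {e : G} (he : e ∈ E) (hn : q.pr e ∉ q.a.X) : u⁻¹ * q.pr e ∈ zpowers q.a.c :=
  (h.range e he).resolve_left fun hr => hn (h.rot_c hr).2

theorem rot_range' {e : G} (he : e ∈ E) (hX : q.pr e ∈ q.a.X) : q.pr e ∈ zpowers q.a.c :=
  (h.range e he).resolve_right fun hr => h.off.2 (by
    have := q.a.X.mul_mem hX (inv_mem (h.rot_c hr).2)
    rwa [mul_inv_rev, inv_inv, mul_inv_cancel_left] at this)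

variable (hES : E ≤ P)
include hES

theorem off_sq {e : G} (he : e ∈ E) (hn : q.pr e ∉ q.a.X) : q.pr e * q.pr e = u * u := by
  have hr := h.off_range he hn
  have hoff : q.a.Off (q.pr e) := ⟨q.pr_mem (hES he), hn⟩
  have hDm : u⁻¹ * q.pr e ∈ q.a.Dm ∧ u⁻¹ * q.pr e ∈ q.a.Qm :=
    ⟨zpowers_le.mpr q.a.c_mem_Dm hr, zpowers_le.mpr q.a.c_mem_Qm hr⟩
  rcases q.a.off_cases h.off with ⟨hu, hum, -⟩ | ⟨hu, hum, -⟩ <;>
    rcases q.a.off_cases hoff with ⟨he', -, hnQ⟩ | ⟨he', -, hnD⟩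
  · rw [hu, he']
  · exact absurd (by simpa using mul_mem hum hDm.1) hnD
  · exact absurd (by simpa using mul_mem hum hDm.2) hnQ
  · rw [hu, he']

theorem sq_Z {e : G} (he : e ∈ E) : q.pr e * q.pr e ∈ q.a.Z := by
  by_cases hX : q.pr e ∈ q.a.X
  · exact q.a.sq_mem_Z_of_c (h.rot_range' he hX)
  · rw [h.off_sq hES he hX]; exact q.a.off_sq h.off

theorem rt_comm {e : G} (he : e ∈ E) : q.a.rt * e * q.a.rt⁻¹ * e⁻¹ ∈ zpowers q.a.c := by
  rw [q.comm_pr (q.a.X_le q.a.rt_mem_X) (hES he)]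
  by_cases hX : q.pr e ∈ q.a.X
  · rw [q.a.rot_comm_self q.a.rt_mem_X hX]; exact one_mem _
  · obtain ⟨ζ, hζ, e'⟩ := q.a.rot_off_sq ⟨q.pr_mem (hES he), hX⟩ q.a.rt_mem_X
    rw [e', q.a.rt_mul_rt]
    exact mul_mem (mem_zpowers _) (q.a.Z_le_c hζ)

theorem rt_norm : q.a.rt ∈ normalizerIn (P : Subgroup G) E :=
  normIn_of q hES (q.a.X_le q.a.rt_mem_X) fun e he => by
    rw [← q.comm_pr (q.a.X_le q.a.rt_mem_X) (hES he)]; exact (h.rot_c (h.rt_comm hES he)).1

theorem rt_notMem : q.a.rt ∉ E := fun he => by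
  have hp := q.pr_of_mem (q.a.X_le q.a.rt_mem_X)
  have := h.rot_range' he (by rw [hp]; exact q.a.rt_mem_X)
  rw [hp] at this
  exact q.a.rt_notMem this

theorem rt_fix {e : G} (he : e ∈ E) (hX : q.pr e ∈ q.a.X) : q.a.rt * e = e * q.a.rt :=
  (q.commute_iff_pr (q.a.X_le q.a.rt_mem_X) (hES he)).mpr (q.a.rot_comm q.a.rt_mem_X hX)

theorem pr_mem (hu : u ∈ E) {e : G} (he : e ∈ E) : q.pr e ∈ E := by
  by_cases hX : q.pr e ∈ q.a.X
  · exact (h.rot_c (h.rot_range' he hX)).1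
  · have := mul_mem hu (h.rot_c (h.off_range he hX)).1
    rwa [mul_inv_cancel_left] at this

theorem pr'_mem (hu : u ∈ E) {e : G} (he : e ∈ E) : q.swap.pr e ∈ E := by
  have := mul_mem (inv_mem (h.pr_mem hES hu he)) he
  nth_rewrite 2 [← q.split (hES he)] at this
  rwa [inv_mul_cancel_left] at this

theorem u_mem_of (h1 : ∀ e ∈ E, q.swap.pr e ∈ E) : u ∈ E := by
  obtain ⟨e, he, heu⟩ := h.lift
  have := mul_mem he (inv_mem (h1 e he))
  nth_rewrite 1 [← q.split (hES he)] at this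
  rwa [mul_inv_cancel_right, heu] at this

/-- An element of the centre of `E` projects into the centre. -/
theorem cen_pr (hu : u ∈ E) {m : G} (hm : m ∈ cen E) : q.pr m ∈ q.a.Z := by
  obtain ⟨hmE, hmc⟩ := mem_cen.mp hm
  have hX : q.pr m ∈ q.a.X := by
    refine q.a.c_comm_mem (q.pr_mem (hES hmE)) ?_
    have := q.pr_commute (hES h.c_mem) (hES hmE) (hmc _ h.c_mem).symm
    rwa [q.pr_of_mem (q.a.X_le q.a.c_mem_X)] at this
  refine q.a.off_comm_rot h.off hX ?_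
  have := q.pr_commute (hES hmE) (hES hu) (hmc _ hu)
  rwa [q.pr_of_mem h.off.1] at this

end Eight

variable (hE : (groupFusionSystem (P : Subgroup G)).IsEssential 2 E)
include hE

/-- A dihedral projection of order eight is impossible as soon as involutions of `E` see little of the other side. -/
theorem Eight.false_refl {u : G} (h : Eight q E u) (hu : u * u = 1) (huE : u ∈ E)
    (hI : ∀ i ∈ sqCent E, ∀ j ∈ sqCent E, i * i = 1 → j * j = 1 →
      q.swap.pr (i * j) * q.swap.pr (i * j) = 1) : False := by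
  have hES := hE.1.1
  let W : Set G := {e | e ∈ E ∧ e * e ≠ 1 ∧ ∃ i ∈ sqCent E, ∃ j ∈ sqCent E, i * i = 1 ∧ j * j = 1 ∧ e = i * j}
  have hW : Inv E (closure W) := by
    refine Inv.closure_set (fun e he => he.1) ?_
    rintro g hg e ⟨he, hne, i, hi, j, hj, hi2, hj2, rfl⟩
    refine ⟨(mem_normalizer_iff.mp hg _).mp he, fun e1 => hne ?_, _, inv_sqCent.conj g hg i hi, _,
      inv_sqCent.conj g hg j hj, ?_, ?_, by group⟩
    · have : g * (i * j * (i * j)) * g⁻¹ = 1 := by rw [← e1]; group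
      exact conj_eq_one_iff.mp this
    · rw [show g * i * g⁻¹ * (g * i * g⁻¹) = g * (i * i) * g⁻¹ by group, hi2, mul_one, mul_inv_cancel]
    · rw [show g * j * g⁻¹ * (g * j * g⁻¹) = g * (j * j) * g⁻¹ by group, hj2, mul_one, mul_inv_cancel]
  have huc : q.a.Off (u * q.a.c) := q.a.off_mul_rot h.off q.a.c_mem_X
  have hucE : u * q.a.c ∈ E := mul_mem huE h.c_mem
  have huc2 : u * q.a.c * (u * q.a.c) = 1 := by
    have := h.off_sq hES hucE (by rw [q.pr_of_mem huc.1]; exact huc.2)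
    rwa [q.pr_of_mem huc.1, hu] at this
  have hsc : ∀ v ∈ E, v ∈ q.a.D → v ∈ sqCent E := fun v hv hvD => mem_sqCent.mpr ⟨hv, fun e he => by
    refine (q.commute_iff_pr hvD (P.mul_mem (hES he) (hES he))).mpr ?_
    rw [q.pr_sq (hES he)]
    exact (q.a.Z_comm hvD (h.sq_Z hES he)).symm⟩
  have hcW : q.a.c ∈ closure W := subset_closure ⟨h.c_mem, fun e => q.a.z_ne_one (q.a.c_mul_c.symm.trans e),
    u, hsc u huE h.off.1, u * q.a.c, hsc _ hucE huc.1, hu, huc2, by rw [← mul_assoc, hu, one_mul]⟩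
  refine h.rt_notMem hES (mem_of_step hE hW (h.rt_norm hES)
    (fun e he => zpowers_le.mpr hcW (h.rt_comm hES he)) fun m hm => ?_)
  suffices closure W ≤ centralizer {q.a.rt} from (mem_centralizer_singleton_iff.mp (this hm)).symm
  refine (closure_le _).mpr ?_
  rintro e ⟨he, hne, i, hi, j, hj, hi2, hj2, rfl⟩
  refine mem_centralizer_singleton_iff.mpr (h.rt_fix hES he ?_).symm
  by_contra hX
  refine hne ?_
  rw [← q.split (P.mul_mem (hES he) (hES he)), q.pr_sq (hES he), h.off_sq hES he hX, hu, one_mul,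
    q.swap.pr_sq (hES he)]
  exact hI i hi j hj hi2 hj2

theorem false_four_eight {u v : G} (h : Four q E u) (h' : Eight q.swap E v) : False := by
  have hES := hE.1.1
  have hvE : v ∈ E := h'.u_mem_of hES fun e he => h.pr_mem hE he
  rcases q.b.off_cases h'.off with ⟨hv, -⟩ | ⟨hv, -⟩
  · exact h'.false_refl hE hv hvE fun i hi j hj _ _ =>
      (h.props (mul_mem (mem_sqCent.mp hi).1 (mem_sqCent.mp hj).1)).1
  · have hx := h.c_norm hE
    have hy := h'.rt_norm hES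
    refine false_of_pairs hE hx (h.c_notMem hE) fun g hg => ⟨q.b.rt, hy, h'.rt_notMem hES, ?_⟩
    set k := g * q.a.c * g⁻¹ with hk'
    have hk : k ∈ normalizer (E : Set G) := mul_mem (mul_mem hg hx.2) (inv_mem hg)
    have hcz : ∀ ζ ∈ q.a.Z, ζ ∈ cen E := fun ζ hζ => mem_cen.mpr ⟨Za_leE q hE hζ, fun e he => by
      rcases q.a.mem_Z.mp hζ with e' | e' <;> rw [e']
      · simp
      · exact q.za_comm (hES he)⟩
    have hkc : ∀ e ∈ E, k * e * k⁻¹ * e⁻¹ ∈ cen E := by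
      intro e he
      have := inv_cen.conj g hg _ (hcz _ (h.c_comm hE ((mem_normalizer_iff''.mp hg e).mp he)))
      convert this using 1
      rw [hk']; group
    have hyfix : ∀ m ∈ cen E, q.b.rt * m = m * q.b.rt := fun m hm =>
      h'.rt_fix hES (mem_cen.mp hm).1 (q.b.Z_le (h'.cen_pr hES hvE hm))
    have key : ∀ e ∈ E, k * q.b.rt * e * (k * q.b.rt)⁻¹ * (q.b.rt * k * e * (q.b.rt * k)⁻¹)⁻¹ ∈ cen E := by
      intro e he
      have hye : q.b.rt * e * q.b.rt⁻¹ ∈ E := (mem_normalizer_iff.mp hy.2 e).mp he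
      have hφ := hkc e he
      set φ := k * e * k⁻¹ * e⁻¹ with hφ'
      have h1 : q.b.rt * φ * q.b.rt⁻¹ = φ := mul_inv_eq_iff_eq_mul.mpr (hyfix φ hφ)
      have h2 : k * q.b.rt * e * (k * q.b.rt)⁻¹ * (q.b.rt * k * e * (q.b.rt * k)⁻¹)⁻¹ =
          k * (q.b.rt * e * q.b.rt⁻¹) * k⁻¹ * (q.b.rt * e * q.b.rt⁻¹)⁻¹ * (q.b.rt * φ * q.b.rt⁻¹)⁻¹ := by
        rw [hφ']; group
      rw [h2, h1]
      exact mul_mem (hkc _ hye) (inv_mem hφ)
    refine isPGroup_pair hES inv_cen inv_cen hk hy.2 (isPGroup_conjAut hx.1 hk) ?_ key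
      (fun e he => key e (mem_cen.mp he).1) fun e he => ?_
    · have h1 := isPGroup_conjAut (E := E) (g := 1) hy.1 (by simpa using hy.2)
      convert h1 using 3 <;> simp
    · have h1 : q.b.rt * e * q.b.rt⁻¹ = e := mul_inv_eq_iff_eq_mul.mpr (hyfix e he)
      have h2 : q.b.rt * (k * e * k⁻¹) * q.b.rt⁻¹ = k * e * k⁻¹ :=
        mul_inv_eq_iff_eq_mul.mpr (hyfix _ (inv_cen.conj k hk e he))
      calc k * q.b.rt * e * (k * q.b.rt)⁻¹ = k * (q.b.rt * e * q.b.rt⁻¹) * k⁻¹ := by group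
        _ = q.b.rt * (k * e * k⁻¹) * q.b.rt⁻¹ := by rw [h1, h2]
        _ = q.b.rt * k * e * (q.b.rt * k)⁻¹ := by group

end CfsgLib.SDSquare
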