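import Cfsg.Agent.Lib.SDSquare.KillEight

/-!
Two projections of order eight.
-/

set_option autoImplicit false
set_option linter.unusedSectionVars false

namespace CfsgLib.SDSquare

open Cfsg Cfsg.FusionSystem Subgroup CfsgLib.AfterFT.DihedralSquare

universe u
variable {G : Type u} [Group G] [Finite G] {P : Sylow 2 G} {E : Subgroup G} {q : Square (P : Subgroup G)}

theorem swap_swap (q : Square (P : Subgroup G)) : q.swap.swap = q := rfl

variable (hE : (groupFusionSystem (P : Subgroup G)).IsEssential 2 E)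
include hE

/-- Both projections of order eight, and `E` not their product. -/
theorem false_diagonal {u v : G} (h : Eight q E u) (h' : Eight q.swap E v)
    (hd : ∀ e ∈ E, q.pr e ∈ q.a.X ↔ q.swap.pr e ∈ q.b.X) : False := by
  have hES := hE.1.1
  have hcen : ∀ f ∈ E, q.pr f ∈ q.a.Z → q.swap.pr f ∈ q.b.Z → f ∈ cen E := fun f hf h1 h2 =>
    mem_cen.mpr ⟨hf, fun e he => q.commute_of (hES hf) (hES he) (q.a.Z_comm (q.pr_mem (hES he)) h1)
      (q.b.Z_comm (q.pr'_mem (hES he)) h2)⟩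
  have hoff : ∀ a ∈ E, ∀ f ∈ E, q.pr a ∉ q.a.X → a * f = f * a → q.pr f ∈ q.a.X → f ∈ cen E := by
    intro a ha f hf hn hc hfX
    exact hcen f hf (q.a.off_comm_rot ⟨q.pr_mem (hES ha), hn⟩ hfX (q.pr_commute (hES ha) (hES hf) hc).symm)
      (q.b.off_comm_rot ⟨q.pr'_mem (hES ha), fun hX => hn ((hd a ha).mpr hX)⟩ ((hd f hf).mp hfX)
        (q.swap.pr_commute (hES ha) (hES hf) hc).symm)
  let T : Set G := {e | e ∈ E ∧ ∃ f ∈ E, e * f = f * e ∧ f ∉ cen E ∧ e⁻¹ * f ∉ cen E ∧ e ∉ cen E}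
  have hT : Inv E (closure T) := by
    refine Inv.closure_set (fun e he => he.1) ?_
    rintro g hg e ⟨he, f, hf, hc, h1, h2, h3⟩
    refine ⟨(mem_normalizer_iff.mp hg e).mp he, _, (mem_normalizer_iff.mp hg f).mp hf, ?_,
      fun hh => h1 ((inv_cen.conj_iff hg).mp hh), fun hh => h2 ((inv_cen.conj_iff hg).mp ?_),
      fun hh => h3 ((inv_cen.conj_iff hg).mp hh)⟩
    · calc g * e * g⁻¹ * (g * f * g⁻¹) = g * (e * f) * g⁻¹ := by group
        _ = g * f * g⁻¹ * (g * e * g⁻¹) := by rw [hc]; group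
    · have : g * (e⁻¹ * f) * g⁻¹ = (g * e * g⁻¹)⁻¹ * (g * f * g⁻¹) := by group
      rwa [this]
  have hTX : ∀ e ∈ T, q.pr e ∈ q.a.X := by
    rintro e ⟨he, f, hf, hc, h1, h2, -⟩
    by_contra hX
    by_cases hfX : q.pr f ∈ q.a.X
    · exact h1 (hoff e he f hf hX hc hfX)
    · refine h2 (hoff e he _ (mul_mem (inv_mem he) hf) hX ?_ ?_)
      · calc e * (e⁻¹ * f) = f := by group
          _ = e⁻¹ * (e * f) := by group
          _ = e⁻¹ * f * e := by rw [hc]; group
      · rw [q.pr_mul (P.inv_mem (hES he)) (hES hf), q.pr_inv (hES he)]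
        exact q.a.off_mul_off ⟨inv_mem (q.pr_mem (hES he)), fun h'' => hX (inv_mem_iff.mp h'')⟩
          ⟨q.pr_mem (hES hf), hfX⟩
  obtain ⟨e₀, he₀, hu⟩ := h.lift
  have hca := q.a.X_le q.a.c_mem_X
  have hcb := q.b.X_le q.b.c_mem_X
  have hnc : q.a.c ∉ cen E := fun hc => by
    have := q.pr_commute (hES h.c_mem) (hES he₀) ((mem_cen.mp hc).2 e₀ he₀)
    rw [q.pr_of_mem hca, hu] at this
    exact q.a.z_ne_one (by rw [← q.a.c_conj h.off, this, mul_inv_cancel_right, mul_inv_cancel])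
  have hnc' : ∀ g ∈ cen E, q.swap.pr g ≠ q.b.c := fun g hg e => by
    obtain ⟨e₁, he₁, hv⟩ := h'.lift
    have := q.swap.pr_commute (hES (mem_cen.mp hg).1) (hES he₁) ((mem_cen.mp hg).2 e₁ he₁)
    rw [e, hv] at this
    exact q.b.z_ne_one (by rw [← q.b.c_conj h'.off, this, mul_inv_cancel_right, mul_inv_cancel])
  have hcT : q.a.c ∈ closure T := subset_closure ⟨h.c_mem, q.b.c, h'.c_mem, q.comm_ab hca hcb,
    fun hh => hnc' _ hh (q.pr'_of_mem_b hcb),
    fun hh => hnc' _ hh (q.pr_eq_swap (inv_mem hca) hcb), hnc⟩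
  refine h.rt_notMem hES (mem_of_step hE hT (h.rt_norm hES)
    (fun e he => zpowers_le.mpr hcT (h.rt_comm hES he)) fun m hm => ?_)
  suffices closure T ≤ centralizer {q.a.rt} from (mem_centralizer_singleton_iff.mp (this hm)).symm
  refine (closure_le _).mpr fun e he => mem_centralizer_singleton_iff.mpr ?_
  exact (h.rt_fix hES he.1 (hTX e he)).symm

/-- Both projections dihedral of order eight. -/
theorem false_refl_refl {u v : G} (h : Eight q E u) (h' : Eight q.swap E v) (hu : u * u = 1) (hv : v * v = 1)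
    (huE : u ∈ E) (hvE : v ∈ E) : False := by
  have hES := hE.1.1
  let R : Set G := {e | e ∈ E ∧ e * e ≠ 1 ∧ ∀ f ∈ E, ∀ g ∈ E, f * f = e * e → g * g = e * e → f * g = g * f}
  have side : ∀ (p : Square (P : Subgroup G)) (a b : G), Eight p E a → Eight p.swap E b → a * a = 1 → b * b = 1 →
      a ∈ E → ∀ e ∈ R, p.pr e ∈ p.a.X := by
    intro p a b ha hb ha2 hb2 haE e ⟨he, hne, hR⟩
    by_contra hX
    have h1 : p.pr e * p.pr e = 1 := (ha.off_sq hES he hX).trans ha2
    have hsq : e * e = p.swap.pr e * p.swap.pr e := by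
      conv_lhs => rw [← p.split (P.mul_mem (hES he) (hES he)), p.pr_sq (hES he), h1, one_mul, p.swap.pr_sq (hES he)]
    have hY : p.swap.pr e ∈ p.b.X := by
      by_contra hY
      exact hne (hsq.trans ((hb.off_sq hES he hY).trans hb2))
    have hw := (hb.rot_c (hb.rot_range' he hY)).1
    have hwD := p.pr'_mem (hES he)
    have hac : p.a.Off (a * p.a.c) := p.a.off_mul_rot ha.off p.a.c_mem_X
    have hac2 : a * p.a.c * (a * p.a.c) = 1 := by
      have := ha.off_sq hES (mul_mem haE ha.c_mem) (by rw [p.pr_of_mem hac.1]; exact hac.2)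
      rwa [p.pr_of_mem hac.1, ha2] at this
    have root : ∀ r, p.a.Off r → r * r = 1 → r * p.swap.pr e * (r * p.swap.pr e) = e * e := by
      intro r hr hr2
      rw [hsq]
      calc r * p.swap.pr e * (r * p.swap.pr e) = r * (p.swap.pr e * r) * p.swap.pr e := by group
        _ = r * r * (p.swap.pr e * p.swap.pr e) := by rw [← p.comm_ab hr.1 hwD]; group
        _ = p.swap.pr e * p.swap.pr e := by rw [hr2, one_mul]
    have := p.pr_commute (hES (mul_mem haE hw)) (hES (mul_mem (mul_mem haE ha.c_mem) hw))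
      (hR _ (mul_mem haE hw) _ (mul_mem (mul_mem haE ha.c_mem) hw) (root a ha.off ha2) (root _ hac hac2))
    rw [p.pr_eq ha.off.1 hwD, p.pr_eq hac.1 hwD, mul_assoc a p.a.c a] at this
    have e1 : p.a.c * a = a * p.a.c := (mul_left_cancel this).symm
    exact p.a.z_ne_one (by rw [← p.a.c_conj ha.off, e1, mul_inv_cancel_right, mul_inv_cancel])
  let M : Subgroup G := E ⊓ centralizer R
  have hM : Inv E M := by
    refine Inv.of_iff inf_le_left (fun m => ∀ e ∈ R, e * m = m * e)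
      (fun m hm => ⟨fun hh => mem_centralizer_iff.mp hh.2, fun hh => ⟨hm, mem_centralizer_iff.mpr hh⟩⟩)
      fun g hg m _ hh e he => ?_
    have hR' : g⁻¹ * e * g ∈ R := by
      obtain ⟨heE, hne, hR⟩ := he
      refine ⟨(mem_normalizer_iff''.mp hg e).mp heE, fun e1 => hne ?_, fun f hf k hk hf2 hk2 => ?_⟩
      · rw [show e * e = g * (g⁻¹ * e * g * (g⁻¹ * e * g)) * g⁻¹ by group, e1, mul_one, mul_inv_cancel]
      · have := hR _ ((mem_normalizer_iff.mp hg f).mp hf) _ ((mem_normalizer_iff.mp hg k).mp hk)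
          (by rw [show g * f * g⁻¹ * (g * f * g⁻¹) = g * (f * f) * g⁻¹ by group, hf2]; group)
          (by rw [show g * k * g⁻¹ * (g * k * g⁻¹) = g * (k * k) * g⁻¹ by group, hk2]; group)
        exact (MulAut.conj g).injective (by simpa [mul_assoc] using this)
    have h1 := congrArg (MulAut.conj g) (hh _ hR')
    simp only [MulAut.conj_apply] at h1
    calc e * (g * m * g⁻¹) = g * (g⁻¹ * e * g * m) * g⁻¹ := by group
      _ = g * (m * (g⁻¹ * e * g)) * g⁻¹ := h1
      _ = g * m * g⁻¹ * e := by group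
  have hca := q.a.X_le q.a.c_mem_X
  have hcb := q.b.X_le q.b.c_mem_X
  have hRX : ∀ e ∈ R, q.pr e ∈ q.a.X := side q u v h h' hu hv huE
  have hRY : ∀ e ∈ R, q.swap.pr e ∈ q.b.X := side q.swap v u h' h hv hu hvE
  have hcc : q.a.c * q.b.c ∈ R := by
    have hsq : q.a.c * q.b.c * (q.a.c * q.b.c) = q.a.z * q.b.z := by
      calc q.a.c * q.b.c * (q.a.c * q.b.c) = q.a.c * (q.b.c * q.a.c) * q.b.c := by group
        _ = q.a.c * q.a.c * (q.b.c * q.b.c) := by rw [← q.comm_ab hca hcb]; group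
        _ = q.a.z * q.b.z := by rw [q.a.c_mul_c, q.b.c_mul_c]
    have hpr : q.pr (q.a.z * q.b.z) = q.a.z := q.pr_eq (q.a.X_le q.a.z_mem_X) (q.b.X_le q.b.z_mem_X)
    have hpr' : q.swap.pr (q.a.z * q.b.z) = q.b.z := q.pr_eq_swap (q.a.X_le q.a.z_mem_X) (q.b.X_le q.b.z_mem_X)
    refine ⟨mul_mem h.c_mem h'.c_mem, fun e => q.a.z_ne_one ?_, fun f hf k hk hf2 hk2 => ?_⟩
    · rw [hsq] at e; rw [← hpr, e, q.pr_one]
    · rw [hsq] at hf2 hk2
      have rot : ∀ g ∈ E, g * g = q.a.z * q.b.z → q.pr g ∈ q.a.X ∧ q.swap.pr g ∈ q.b.X := by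
        intro g hg hg2
        constructor <;> by_contra hX
        · refine q.a.z_ne_one ?_
          rw [← hpr, ← hg2, q.pr_sq (hES hg), h.off_sq hES hg hX, hu]
        · refine q.b.z_ne_one ?_
          rw [← hpr', ← hg2, q.swap.pr_sq (hES hg), h'.off_sq hES hg hX, hv]
      exact q.commute_of (hES hf) (hES hk) (q.a.rot_comm (rot f hf hf2).1 (rot k hk hk2).1)
        (q.b.rot_comm (rot f hf hf2).2 (rot k hk hk2).2)
  have hcM : q.a.c ∈ M := ⟨h.c_mem, mem_centralizer_iff.mpr fun e he =>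
    ((q.commute_iff_pr hca (hES he.1)).mpr (q.a.rot_comm q.a.c_mem_X (hRX e he))).symm⟩
  refine h.rt_notMem hES (mem_of_step hE hM (h.rt_norm hES)
    (fun e he => zpowers_le.mpr hcM (h.rt_comm hES he)) fun m hm => h.rt_fix hES hm.1 ?_)
  refine q.a.c_comm_mem (q.pr_mem (hES hm.1)) ?_
  have := q.pr_commute (P.mul_mem (hES h.c_mem) (hES h'.c_mem)) (hES hm.1) (mem_centralizer_iff.mp hm.2 _ hcc)
  simp only [Square.swap_a] at this
  rwa [q.pr_eq hca hcb] at this

/-- Both projections quaternion. -/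
theorem false_quat_quat {u v : G} (h : Eight q E u) (h' : Eight q.swap E v) (hu : u * u = q.a.z)
    (hv : v * v = q.b.z) (huE : u ∈ E) (hvE : v ∈ E) : False := by
  have hES := hE.1.1
  have qsq : ∀ (p : Square (P : Subgroup G)) (a : G), Eight p E a → a * a = p.a.z → ∀ e ∈ E,
      p.pr e * p.pr e = 1 → p.pr e ∈ p.a.Z := by
    intro p a ha ha2 e he e1
    by_cases hX : p.pr e ∈ p.a.X
    · exact p.a.eq_Z_of_sq hX e1
    · exact absurd ((ha2.symm.trans (ha.off_sq hES he hX).symm).trans e1) p.a.z_ne_one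
  have qsq' : ∀ (p : Square (P : Subgroup G)) (a : G), Eight p E a → a * a = p.a.z → ∀ e ∈ E,
      p.pr e ∉ p.a.Z → p.pr e * p.pr e = p.a.z := by
    intro p a ha ha2 e he hn
    rcases p.a.mem_Z.mp (ha.sq_Z hES he) with e1 | e1
    · exact absurd (qsq p a ha ha2 e he e1) hn
    · exact e1
  -- conjugates of the central involutions
  have hw : ∀ (p : Square (P : Subgroup G)) (a b : G), Eight p E a → a * a = p.a.z → Eight p.swap E b →
      b * b = p.b.z → a ∈ E → b ∈ E → ∀ g ∈ normalizer (E : Set G),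
      g * p.a.z * g⁻¹ = p.a.z ∨ g * p.a.z * g⁻¹ = p.b.z := by
    intro p a b ha ha2 hb hb2 haE hbE g hg
    set w := g * p.a.z * g⁻¹ with hw'
    have hfE : g * a * g⁻¹ ∈ E := (mem_normalizer_iff.mp hg a).mp haE
    have hsq : g * a * g⁻¹ * (g * a * g⁻¹) = w := by
      rw [hw', ← ha2]; group
    have hwS : w ∈ (P : Subgroup G) := hES ((mem_normalizer_iff.mp hg _).mp (za_memE p hE))
    have h1 : p.pr w ∈ p.a.Z := by rw [← hsq, p.pr_sq (hES hfE)]; exact ha.sq_Z hES hfE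
    have h2 : p.swap.pr w ∈ p.b.Z := by rw [← hsq, p.swap.pr_sq (hES hfE)]; exact hb.sq_Z hES hfE
    rcases p.a.mem_Z.mp h1 with e1 | e1 <;> rcases p.b.mem_Z.mp h2 with e2 | e2 <;>
      have e := p.split hwS <;> rw [e1, e2] at e
    · exfalso
      rw [one_mul, hw', eq_comm, conj_eq_one_iff] at e
      exact p.a.z_ne_one e
    · exact Or.inr (by rw [← e, one_mul])
    · exact Or.inl (by rw [← e, mul_one])
    · exfalso
      -- two roots of `z z'` whose product is a root of `z`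
      have hab := p.comm_ab ha.off.1 hb.off.1
      have hcb := p.comm_ab (p.a.X_le p.a.c_mem_X) hb.off.1
      set f₁ := g⁻¹ * (a * b) * g
      set f₂ := g⁻¹ * (p.a.c * b) * g
      have hf₁ : f₁ * f₁ = p.a.z := by
        calc f₁ * f₁ = g⁻¹ * (a * (b * a) * b) * g := by simp only [f₁]; group
          _ = g⁻¹ * (a * a * (b * b)) * g := by rw [← hab]; group
          _ = g⁻¹ * w * g := by rw [ha2, hb2, e]
          _ = p.a.z := by rw [hw']; group
      have hf₂ : f₂ * f₂ = p.a.z := by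
        calc f₂ * f₂ = g⁻¹ * (p.a.c * (b * p.a.c) * b) * g := by simp only [f₂]; group
          _ = g⁻¹ * (p.a.c * p.a.c * (b * b)) * g := by rw [← hcb]; group
          _ = g⁻¹ * w * g := by rw [p.a.c_mul_c, hb2, e]
          _ = p.a.z := by rw [hw']; group
      have m₁ : f₁ ∈ E := (mem_normalizer_iff''.mp hg _).mp (mul_mem haE hbE)
      have m₂ : f₂ ∈ E := (mem_normalizer_iff''.mp hg _).mp (mul_mem ha.c_mem hbE)
      have hz' : ∀ f ∈ E, f * f = p.a.z → p.swap.pr f ∈ p.b.Z := fun f hf hf2 => qsq p.swap b hb hb2 f hf (by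
        rw [← p.swap.pr_sq (hES hf), hf2, p.pr'_of_mem (p.a.X_le p.a.z_mem_X)])
      have hz12 : p.swap.pr (f₁ * f₂) ∈ p.b.Z := by
        rw [p.swap.pr_mul (hES m₁) (hES m₂)]
        exact mul_mem (hz' _ m₁ hf₁) (hz' _ m₂ hf₂)
      have hsq12 : p.swap.pr (f₁ * f₂ * (f₁ * f₂)) = 1 := by
        rw [p.swap.pr_sq (P.mul_mem (hES m₁) (hES m₂))]; exact p.b.Z_sq hz12
      -- transported, the square of the product is `z` itself
      have hprod : f₁ * f₂ * (f₁ * f₂) = g⁻¹ * p.a.z * g := by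
        have hac : p.a.Off (a * p.a.c) := p.a.off_mul_rot ha.off p.a.c_mem_X
        have h3 : a * p.a.c * (a * p.a.c) = p.a.z := by
          have := ha.off_sq hES (mul_mem haE ha.c_mem) (by rw [p.pr_of_mem hac.1]; exact hac.2)
          rwa [p.pr_of_mem hac.1, ha2] at this
        have h4 : a * b * (p.a.c * b) = a * p.a.c * p.b.z := by
          calc a * b * (p.a.c * b) = a * (b * p.a.c) * b := by group
            _ = a * p.a.c * (b * b) := by rw [← hcb]; group
            _ = a * p.a.c * p.b.z := by rw [hb2]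
        calc f₁ * f₂ * (f₁ * f₂) = g⁻¹ * (a * b * (p.a.c * b) * (a * b * (p.a.c * b))) * g := by
              simp only [f₁, f₂]; group
          _ = g⁻¹ * (a * p.a.c * (p.b.z * (a * p.a.c)) * p.b.z) * g := by rw [h4]; group
          _ = g⁻¹ * (a * p.a.c * (a * p.a.c) * (p.b.z * p.b.z)) * g := by
              rw [← p.comm_ab hac.1 (p.b.X_le p.b.z_mem_X)]; group
          _ = g⁻¹ * p.a.z * g := by rw [h3, p.b.z_mul_z, mul_one]
      have hwz : g⁻¹ * p.a.z * g ∈ p.a.Z := by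
        have hmem := (mem_normalizer_iff''.mp hg p.a.z).mp (za_memE p hE)
        rw [hprod] at hsq12
        rw [← p.split (hES hmem), hsq12, mul_one, ← hprod, p.pr_sq (P.mul_mem (hES m₁) (hES m₂))]
        exact ha.sq_Z hES (mul_mem m₁ m₂)
      rcases p.a.mem_Z.mp hwz with e' | e'
      · exact p.a.z_ne_one (by rw [show p.a.z = g * (g⁻¹ * p.a.z * g) * g⁻¹ by group, e']; group)
      · have e3 : w = p.a.z := by
          rw [hw']
          conv_lhs => rw [← e']
          group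
        have := congrArg p.swap.pr e3
        rw [e2, p.pr'_of_mem (p.a.X_le p.a.z_mem_X)] at this
        exact p.b.z_ne_one this
  have hx := h.rt_norm hES
  refine false_of_pairs hE hx (h.rt_notMem hES) fun g hg => ?_
  set k := g * q.a.rt * g⁻¹ with hk'
  have hk : k ∈ normalizer (E : Set G) := mul_mem (mul_mem hg hx.2) (inv_mem hg)
  have hgen : ∀ e ∈ E, ∃ e₁ ∈ E, ∃ e₂ ∈ E, q.swap.pr e₁ ∈ q.b.Z ∧ q.pr e₂ ∈ q.a.Z ∧ e = e₁ * e₂ := fun e he =>
    ⟨_, h.pr_mem hES huE he, _, h.pr'_mem hES huE he,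
      by rw [q.pr'_of_mem (q.pr_mem (hES he))]; exact one_mem _,
      by rw [q.pr_of_mem_b (q.pr'_mem (hES he))]; exact one_mem _, (q.split (hES he)).symm⟩
  have finish : ∀ y (hy : y ∈ normalizerIn (P : Subgroup G) E), y ∉ E →
      (∀ e ∈ E, k * y * e * (k * y)⁻¹ = y * k * e * (y * k)⁻¹) → ∃ y, ∃ hy : y ∈ normalizerIn (P : Subgroup G) E,
        y ∉ E ∧ IsPGroup 2 ↥(zpowers (conjAut hk) ⊔ zpowers (conjAut hy.2)) := by
    intro y hy hyE hc
    refine ⟨y, hy, hyE, isPGroup_pair hES Inv.top Inv.top hk hy.2 (isPGroup_conjAut hx.1 hk) ?_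
      (fun e he => ?_) (fun e he => ?_) hc⟩
    · have h1 := isPGroup_conjAut (E := E) (g := 1) hy.1 (by simpa using hy.2)
      convert h1 using 3 <;> simp
    all_goals rw [hc e he, mul_inv_cancel]; exact one_mem _
  have comm_of : ∀ (A B : G → Prop) (y : G), y ∈ normalizer (E : Set G) →
      (∀ e ∈ E, ∃ e₁ ∈ E, ∃ e₂ ∈ E, A e₁ ∧ B e₂ ∧ e = e₁ * e₂) →
      (∀ e ∈ E, A e → A (k * e * k⁻¹) ∧ y * e * y⁻¹ = e) →
      (∀ e ∈ E, B e → B (y * e * y⁻¹) ∧ k * e * k⁻¹ = e) →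
      ∀ e ∈ E, k * y * e * (k * y)⁻¹ = y * k * e * (y * k)⁻¹ := by
    intro A B y hy hsp hA hB e he
    obtain ⟨e₁, h₁, e₂, h₂, a₁, b₂, rfl⟩ := hsp e he
    obtain ⟨hA1, hA2⟩ := hA e₁ h₁ a₁
    obtain ⟨hB1, hB2⟩ := hB e₂ h₂ b₂
    have hA3 := (hA _ ((mem_normalizer_iff.mp hk e₁).mp h₁) hA1).2
    have hB3 := (hB _ ((mem_normalizer_iff.mp hy e₂).mp h₂) hB1).2
    calc k * y * (e₁ * e₂) * (k * y)⁻¹ = k * (y * e₁ * y⁻¹) * k⁻¹ * (k * (y * e₂ * y⁻¹) * k⁻¹) := by group
      _ = y * (k * e₁ * k⁻¹) * y⁻¹ * (y * (k * e₂ * k⁻¹) * y⁻¹) := by rw [hA2, hB3, hA3, hB2]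
      _ = y * k * (e₁ * e₂) * (y * k)⁻¹ := by group
  have cz : ∀ ζ : G, (∀ e ∈ E, ζ * e = e * ζ) → ∀ f ∈ E, k * (f * f) * k⁻¹ = (k * f * k⁻¹) * (k * f * k⁻¹) :=
    fun _ _ f _ => by group
  -- `k` fixes both central involutions
  have kfix : ∀ (p : Square (P : Subgroup G)) (a b : G), Eight p E a → a * a = p.a.z → Eight p.swap E b →
      b * b = p.b.z → a ∈ E → b ∈ E → k * p.a.z * k⁻¹ = p.a.z := by
    intro p a b ha ha2 hb hb2 haE hbE
    have hmem : g⁻¹ * p.a.z * g ∈ E := (mem_normalizer_iff''.mp hg _).mp (za_memE p hE)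
    have hcase := hw p a b ha ha2 hb hb2 haE hbE g⁻¹ (inv_mem hg)
    rw [inv_inv] at hcase
    have hfix : q.a.rt * (g⁻¹ * p.a.z * g) = g⁻¹ * p.a.z * g * q.a.rt := by
      rcases hcase with e | e <;> rw [e]
      · exact (p.za_comm (q.aD_le (q.a.X_le q.a.rt_mem_X))).symm
      · exact (p.swap.za_comm (q.aD_le (q.a.X_le q.a.rt_mem_X))).symm
    calc k * p.a.z * k⁻¹ = g * (q.a.rt * (g⁻¹ * p.a.z * g) * q.a.rt⁻¹) * g⁻¹ := by rw [hk']; group
      _ = p.a.z := by rw [hfix]; group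
  -- `q.pr e` central is a condition on squares
  have zcrit : ∀ (p : Square (P : Subgroup G)) (a b : G), Eight p E a → a * a = p.a.z → Eight p.swap E b →
      b * b = p.b.z → ∀ e ∈ E, (p.pr e ∈ p.a.Z ↔ e * e = 1 ∨ e * e = p.b.z) := by
    intro p a b ha ha2 hb hb2 e he
    constructor
    · intro hz
      have h1 : p.pr (e * e) = 1 := by rw [p.pr_sq (hES he)]; exact p.a.Z_sq hz
      have h2 : p.swap.pr (e * e) ∈ p.b.Z := by rw [p.swap.pr_sq (hES he)]; exact hb.sq_Z hES he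
      have e3 := p.split (P.mul_mem (hES he) (hES he))
      rw [h1, one_mul] at e3
      rcases p.b.mem_Z.mp h2 with e' | e' <;> rw [e'] at e3
      exacts [Or.inl e3.symm, Or.inr e3.symm]
    · intro hh
      refine qsq p a ha ha2 e he ?_
      rw [← p.pr_sq (hES he)]
      rcases hh with e' | e' <;> rw [e']
      · exact p.pr_one
      · exact p.pr_of_mem_b (p.b.X_le p.b.z_mem_X)
  have inv_k : ∀ (p : Square (P : Subgroup G)) (a b : G), Eight p E a → a * a = p.a.z → Eight p.swap E b →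
      b * b = p.b.z → a ∈ E → b ∈ E → ∀ e ∈ E, p.pr e ∈ p.a.Z → p.pr (k * e * k⁻¹) ∈ p.a.Z := by
    intro p a b ha ha2 hb hb2 haE hbE e he hz
    have hke := (mem_normalizer_iff.mp hk e).mp he
    refine (zcrit p a b ha ha2 hb hb2 _ hke).mpr ?_
    rw [show k * e * k⁻¹ * (k * e * k⁻¹) = k * (e * e) * k⁻¹ by group]
    rcases (zcrit p a b ha ha2 hb hb2 e he).mp hz with e' | e' <;> rw [e']
    · left; group
    · right; exact kfix p.swap b a hb hb2 ha ha2 hbE haE
  -- the part centralised by the conjugate of the root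
  have kcent : ∀ e ∈ E, q.pr (g⁻¹ * e * g) ∈ q.a.Z → k * e * k⁻¹ = e := by
    intro e he hz
    have := h.rt_fix hES ((mem_normalizer_iff''.mp hg e).mp he) (q.a.Z_le hz)
    calc k * e * k⁻¹ = g * (q.a.rt * (g⁻¹ * e * g) * q.a.rt⁻¹) * g⁻¹ := by rw [hk']; group
      _ = e := by rw [this]; group
  have ginv : ∀ e ∈ E, (e * e = 1 ∨ e * e = g * q.b.z * g⁻¹) → q.pr (g⁻¹ * e * g) ∈ q.a.Z := by
    intro e he hh
    refine (zcrit q u v h hu h' hv _ ((mem_normalizer_iff''.mp hg e).mp he)).mpr ?_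
    rw [show g⁻¹ * e * g * (g⁻¹ * e * g) = g⁻¹ * (e * e) * g by group]
    rcases hh with e' | e' <;> rw [e']
    · left; group
    · right; group
  rcases hw q.swap v u h' hv h hu hvE huE g hg with e' | e'
  · -- `g` fixes the second involution: use the other root
    refine finish q.b.rt (h'.rt_norm hES) (h'.rt_notMem hES)
      (comm_of (fun e => q.swap.pr e ∈ q.b.Z) (fun e => q.pr e ∈ q.a.Z) _ (h'.rt_norm hES).2 hgen
        (fun e he hz => ⟨inv_k q.swap v u h' hv h hu hvE huE e he hz,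
          mul_inv_eq_iff_eq_mul.mpr (h'.rt_fix hES he (q.b.Z_le hz))⟩)
        fun e he hz => ⟨?_, kcent e he (ginv e he ?_)⟩)
    · have hrtP : q.b.rt ∈ (P : Subgroup G) := q.bD_le (q.b.X_le q.b.rt_mem_X)
      rw [q.pr_conj hrtP (hES he), q.pr_of_mem_b (q.b.X_le q.b.rt_mem_X), one_mul, inv_one, mul_one]
      exact hz
    · change g * q.b.z * g⁻¹ = q.b.z at e'
      rw [e']; exact (zcrit q u v h hu h' hv e he).mp hz
  · refine finish q.a.rt hx (h.rt_notMem hES)
      (comm_of (fun e => q.pr e ∈ q.a.Z) (fun e => q.swap.pr e ∈ q.b.Z) _ hx.2 ?_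
        (fun e he hz => ⟨inv_k q u v h hu h' hv huE hvE e he hz,
          mul_inv_eq_iff_eq_mul.mpr (h.rt_fix hES he (q.a.Z_le hz))⟩)
        fun e he hz => ⟨?_, kcent e he (ginv e he ?_)⟩)
    · intro e he
      obtain ⟨e₁, h₁, e₂, h₂, -, -, -⟩ := hgen e he
      exact ⟨_, h.pr'_mem hES huE he, _, h.pr_mem hES huE he,
        by rw [q.pr_of_mem_b (q.pr'_mem (hES he))]; exact one_mem _,
        by rw [q.pr'_of_mem (q.pr_mem (hES he))]; exact one_mem _,
        (q.split (hES he)).symm.trans (q.comm_ab (q.pr_mem (hES he)) (q.pr'_mem (hES he)))⟩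
    · rw [q.swap.pr_conj hx.1 (hES he), q.pr'_of_mem (q.a.X_le q.a.rt_mem_X), one_mul, inv_one, mul_one]
      exact hz
    · change g * q.b.z * g⁻¹ = q.a.z at e'
      rw [e']; exact (zcrit q.swap v u h' hv h hu e he).mp hz

theorem false_eight_eight {u v : G} (h : Eight q E u) (h' : Eight q.swap E v) : False := by
  have hES := hE.1.1
  by_cases hd : ∀ e ∈ E, q.pr e ∈ q.a.X ↔ q.swap.pr e ∈ q.b.X
  · exact false_diagonal hE h h' hd
  have hmem : u ∈ E ∧ v ∈ E := by
    push Not at hd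
    obtain ⟨e, he, hh⟩ := hd
    have split' : ∀ (p : Square (P : Subgroup G)) (a b : G), Eight p E a → Eight p.swap E b → p.pr e ∈ p.a.X →
        p.swap.pr e ∉ p.b.X → a ∈ E ∧ b ∈ E := by
      intro p a b ha hb h1 h2
      have hp := (ha.rot_c (ha.rot_range' he h1)).1
      have hp' : p.swap.pr e ∈ E := by
        have := mul_mem (inv_mem hp) he
        nth_rewrite 2 [← p.split (hES he)] at this
        rwa [inv_mul_cancel_left] at this
      have hb' : b ∈ E := by
        have := mul_mem hp' (inv_mem (hb.rot_c (hb.off_range he h2)).1)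
        rwa [mul_inv_rev, inv_inv, mul_inv_cancel_left] at this
      exact ⟨ha.u_mem_of hES fun f hf => hb.pr_mem hES hb' hf, hb'⟩
    rcases hh with ⟨h1, h2⟩ | ⟨h1, h2⟩
    · exact split' q u v h h' h1 h2
    · exact (split' q.swap v u h' h h2 h1).symm
  obtain ⟨huE, hvE⟩ := hmem
  have hinv : ∀ (p : Square (P : Subgroup G)) (a b : G), Eight p E a → Eight p.swap E b → b * b = p.b.z →
      ∀ i ∈ sqCent E, ∀ j ∈ sqCent E, i * i = 1 → j * j = 1 → p.swap.pr (i * j) * p.swap.pr (i * j) = 1 := by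
    intro p a b _ hb hb2 i hi j hj hi2 hj2
    have hz : ∀ m ∈ E, m * m = 1 → p.swap.pr m ∈ p.b.Z := by
      intro m hm hm2
      have e1 : p.swap.pr m * p.swap.pr m = 1 := by rw [← p.swap.pr_sq (hES hm), hm2, p.swap.pr_one]
      by_cases hX : p.swap.pr m ∈ p.b.X
      · exact p.b.eq_Z_of_sq hX e1
      · exact absurd ((hb2.symm.trans (hb.off_sq hES hm hX).symm).trans e1) p.b.z_ne_one
    have hiE := (mem_sqCent.mp hi).1
    have hjE := (mem_sqCent.mp hj).1
    rw [p.swap.pr_mul (hES hiE) (hES hjE)]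
    exact p.b.Z_sq (mul_mem (hz i hiE hi2) (hz j hjE hj2))
  rcases q.a.off_cases h.off with ⟨hu, -⟩ | ⟨hu, -⟩ <;> rcases q.b.off_cases h'.off with ⟨hv, -⟩ | ⟨hv, -⟩
  · exact false_refl_refl hE h h' hu hv huE hvE
  · exact h.false_refl hE hu huE (hinv q u v h h' hv)
  · exact h'.false_refl hE hv hvE (hinv q.swap v u h' h hu)
  · exact false_quat_quat hE h h' hu hv huE hvE

end CfsgLib.SDSquare
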