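import Cfsg.Agent.Lib.QuasiDihedral

/-!
A semidihedral subgroup given by generators: the elementary facts.
-/

set_option autoImplicit false
set_option linter.unusedSectionVars false

namespace CfsgLib.SDSquare

open Subgroup

universe u
variable {G : Type u} [Group G]

/-- Generators of a semidihedral subgroup of order `16 * M`. -/
structure SDGen (G : Type u) [Group G] where
  /-- The rotation. -/
  x : G
  /-- A reflection. -/
  y : G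
  /-- A sixteenth of the order. -/
  M : ℕ
  two_pow : ∃ k, M = 2 ^ k
  order_x : orderOf x = 8 * M
  y_sq : y * y = 1
  conj_x : y * x * y⁻¹ = x ^ (4 * (M : ℤ) - 1)
  y_notMem : y ∉ zpowers x

namespace SDGen

variable (d : SDGen G)

/-- The cyclic subgroup of index two. -/
def X : Subgroup G := zpowers d.x

/-- The central involution. -/
def z : G := d.x ^ (4 * (d.M : ℤ))

/-- A rotation of order four. -/
def c : G := d.x ^ (2 * (d.M : ℤ))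

/-- The centre. -/
def Z : Subgroup G := zpowers d.z

theorem M_pos : 0 < d.M := by
  obtain ⟨k, hk⟩ := d.two_pow
  rw [hk]; exact Nat.two_pow_pos k

theorem zpow_eq_one {i : ℤ} : d.x ^ i = 1 ↔ 8 * (d.M : ℤ) ∣ i := by
  rw [← orderOf_dvd_iff_zpow_eq_one, d.order_x]
  push_cast
  rfl

theorem zpow_eq {i j : ℤ} : d.x ^ i = d.x ^ j ↔ 8 * (d.M : ℤ) ∣ j - i := by
  rw [zpow_eq_zpow_iff_modEq, d.order_x, Int.modEq_iff_dvd]
  push_cast
  rfl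

theorem y_inv : d.y⁻¹ = d.y := inv_eq_of_mul_eq_one_left d.y_sq

theorem y_zpow (i : ℤ) : d.y * d.x ^ i = d.x ^ ((4 * (d.M : ℤ) - 1) * i) * d.y := by
  rw [zpow_mul, ← d.conj_x, conj_zpow, inv_mul_cancel_right]

/-- Products in the normal form `x ^ i * y ^ e`. -/
theorem xy_zpow (i k : ℤ) : d.x ^ i * d.y * d.x ^ k = d.x ^ (i + (4 * (d.M : ℤ) - 1) * k) * d.y := by
  rw [mul_assoc, d.y_zpow, ← mul_assoc, ← zpow_add]

theorem xy_xy (i k : ℤ) : d.x ^ i * d.y * (d.x ^ k * d.y) = d.x ^ (i + (4 * (d.M : ℤ) - 1) * k) := by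
  rw [← mul_assoc, d.xy_zpow, mul_assoc, d.y_sq, mul_one]

theorem xy_inv (i : ℤ) : (d.x ^ i * d.y)⁻¹ = d.x ^ (-((4 * (d.M : ℤ) - 1) * i)) * d.y := by
  rw [mul_inv_rev, d.y_inv, ← zpow_neg, d.y_zpow]
  congr 2
  ring

/-- The subgroup of normal forms with a given parity pattern. -/
def sub (m e : ℤ) (hm : m = 1 ∨ m = 2) : Subgroup G where
  carrier := {g | ∃ i : ℤ, g = d.x ^ (m * i) ∨ g = d.x ^ (m * i + e) * d.y}
  one_mem' := ⟨0, Or.inl (by simp)⟩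
  mul_mem' := by
    rintro a b ⟨i, rfl | rfl⟩ ⟨j, rfl | rfl⟩
    · exact ⟨i + j, Or.inl (by rw [mul_add, zpow_add])⟩
    · exact ⟨i + j, Or.inr (by rw [← mul_assoc, ← zpow_add]; congr 2; ring)⟩
    · exact ⟨i + (4 * (d.M : ℤ) - 1) * j, Or.inr (by rw [d.xy_zpow]; congr 2; ring)⟩
    · rcases hm with rfl | rfl
      · exact ⟨i + e + (4 * (d.M : ℤ) - 1) * (j + e), Or.inl (by rw [d.xy_xy]; congr 1; ring)⟩
      · exact ⟨i + (4 * (d.M : ℤ) - 1) * j + 2 * d.M * e, Or.inl (by rw [d.xy_xy]; congr 1; ring)⟩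
  inv_mem' := by
    rintro a ⟨i, rfl | rfl⟩
    · exact ⟨-i, Or.inl (by rw [← zpow_neg]; congr 1; ring)⟩
    · refine ⟨i * (1 - 4 * d.M) - (if m = 1 then 4 * (d.M : ℤ) * e else 2 * d.M * e), Or.inr ?_⟩
      rw [d.xy_inv]
      congr 2
      rcases hm with rfl | rfl
      · rw [if_pos rfl]; ring
      · rw [if_neg (by norm_num)]; ring

/-- The semidihedral subgroup. -/
def D : Subgroup G := d.sub 1 0 (Or.inl rfl)

/-- The dihedral maximal subgroup. -/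
def Dm : Subgroup G := d.sub 2 0 (Or.inr rfl)

/-- The quaternion maximal subgroup. -/
def Qm : Subgroup G := d.sub 2 1 (Or.inr rfl)

theorem mem_D {g : G} : g ∈ d.D ↔ ∃ i : ℤ, g = d.x ^ i ∨ g = d.x ^ i * d.y := by
  show (∃ i : ℤ, g = d.x ^ (1 * i) ∨ g = d.x ^ (1 * i + 0) * d.y) ↔ _
  simp only [one_mul, add_zero]

theorem mem_Dm {g : G} : g ∈ d.Dm ↔ ∃ i : ℤ, g = d.x ^ (2 * i) ∨ g = d.x ^ (2 * i) * d.y := by
  show (∃ i : ℤ, g = d.x ^ (2 * i) ∨ g = d.x ^ (2 * i + 0) * d.y) ↔ _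
  simp only [add_zero]

theorem mem_Qm {g : G} : g ∈ d.Qm ↔ ∃ i : ℤ, g = d.x ^ (2 * i) ∨ g = d.x ^ (2 * i + 1) * d.y := Iff.rfl

theorem zpow_mem_X (i : ℤ) : d.x ^ i ∈ d.X := zpow_mem (mem_zpowers _) i

theorem X_le : d.X ≤ d.D := by
  rintro g ⟨i, rfl⟩
  exact d.mem_D.mpr ⟨i, Or.inl rfl⟩

theorem xy_notMem (i : ℤ) : d.x ^ i * d.y ∉ d.X := fun h =>
  d.y_notMem (by
    have h2 := mul_mem (inv_mem (d.zpow_mem_X i)) h
    rwa [inv_mul_cancel_left] at h2)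

/-- An element of `D` outside the cyclic subgroup. -/
def Off (u : G) : Prop := u ∈ d.D ∧ u ∉ d.X

theorem off_form {u : G} (hu : d.Off u) : ∃ i : ℤ, u = d.x ^ i * d.y := by
  obtain ⟨i, h | h⟩ := d.mem_D.mp hu.1
  · exact absurd (h ▸ d.zpow_mem_X i) hu.2
  · exact ⟨i, h⟩

theorem off_xy (i : ℤ) : d.Off (d.x ^ i * d.y) := ⟨d.mem_D.mpr ⟨i, Or.inr rfl⟩, d.xy_notMem i⟩

theorem off_y : d.Off d.y := by simpa using d.off_xy 0

theorem z_mem_X : d.z ∈ d.X := d.zpow_mem_X _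

theorem c_mem_X : d.c ∈ d.X := d.zpow_mem_X _

theorem Z_le : d.Z ≤ d.X := zpowers_le.mpr d.z_mem_X

theorem c_mul_c : d.c * d.c = d.z := by rw [c, z, ← zpow_add]; congr 1; ring

theorem z_mul_z : d.z * d.z = 1 := by
  rw [z, ← zpow_add, d.zpow_eq_one]
  exact ⟨1, by ring⟩

theorem z_inv : d.z⁻¹ = d.z := inv_eq_of_mul_eq_one_left d.z_mul_z

theorem mem_Z {g : G} : g ∈ d.Z ↔ g = 1 ∨ g = d.z := by
  constructor
  · rintro ⟨i, rfl⟩
    show d.z ^ i = 1 ∨ d.z ^ i = d.z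
    have h2 : d.z ^ (2 : ℤ) = 1 := by rw [zpow_two, d.z_mul_z]
    rcases Int.even_or_odd' i with ⟨j, rfl | rfl⟩
    · left; rw [zpow_mul, h2, one_zpow]
    · right; rw [zpow_add, zpow_mul, h2, one_zpow, one_mul, zpow_one]
  · rintro (rfl | rfl)
    exacts [one_mem _, mem_zpowers _]

theorem z_ne_one : d.z ≠ 1 := fun h => by
  rw [z, d.zpow_eq_one] at h
  have := Int.le_of_dvd (by have := d.M_pos; omega) h
  have := d.M_pos
  omega

theorem c_notMem_Z : d.c ∉ d.Z := fun h => by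
  have : d.c * d.c = 1 := by
    rcases d.mem_Z.mp h with e | e <;> rw [e]
    exacts [one_mul 1, d.z_mul_z]
  exact d.z_ne_one (d.c_mul_c.symm.trans this)

theorem rot_comm {a b : G} (ha : a ∈ d.X) (hb : b ∈ d.X) : a * b = b * a := by
  obtain ⟨i, rfl⟩ := ha
  obtain ⟨j, rfl⟩ := hb
  exact ((Commute.refl d.x).zpow_zpow i j).eq

theorem zpow_four_M (i : ℤ) : d.x ^ (4 * (d.M : ℤ) * i) ∈ d.Z := by
  rw [zpow_mul]
  exact zpow_mem (mem_zpowers _) i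

/-- Squares of the elements outside `X` are central. -/
theorem off_sq {u : G} (hu : d.Off u) : u * u ∈ d.Z := by
  obtain ⟨i, rfl⟩ := d.off_form hu
  rw [d.xy_xy, show i + (4 * (d.M : ℤ) - 1) * i = 4 * (d.M : ℤ) * i by ring]
  exact d.zpow_four_M i

/-- An element outside `X` maps rotations to a fixed power. -/
theorem off_conj {u r : G} (hu : d.Off u) (hr : r ∈ d.X) : u * r * u⁻¹ = r ^ (4 * (d.M : ℤ) - 1) := by
  obtain ⟨i, rfl⟩ := d.off_form hu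
  obtain ⟨k, rfl⟩ := hr
  show d.x ^ i * d.y * d.x ^ k * (d.x ^ i * d.y)⁻¹ = (d.x ^ k) ^ (4 * (d.M : ℤ) - 1)
  rw [d.xy_inv, d.xy_zpow, d.xy_xy, ← zpow_mul, d.zpow_eq]
  exact ⟨2 * d.M * i - i, by ring⟩

/-- The commutator of a rotation with an element outside `X`. -/
theorem rot_off {u r : G} (hu : d.Off u) (hr : r ∈ d.X) :
    r * u * r⁻¹ * u⁻¹ = r ^ (2 - 4 * (d.M : ℤ)) := by
  calc r * u * r⁻¹ * u⁻¹ = r * (u * r * u⁻¹)⁻¹ := by group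
    _ = r * (r ^ (4 * (d.M : ℤ) - 1))⁻¹ := by rw [d.off_conj hu hr]
    _ = r ^ (2 - 4 * (d.M : ℤ)) := by
        rw [← zpow_neg, ← zpow_one_add]
        congr 1
        ring

theorem pow_four_M_mem {r : G} (hr : r ∈ d.X) : r ^ (4 * (d.M : ℤ)) ∈ d.Z := by
  obtain ⟨k, rfl⟩ := hr
  show (d.x ^ k) ^ (4 * (d.M : ℤ)) ∈ d.Z
  rw [← zpow_mul, mul_comm]
  exact d.zpow_four_M k

theorem rot_off_sq {u r : G} (hu : d.Off u) (hr : r ∈ d.X) :
    ∃ ζ ∈ d.Z, r * u * r⁻¹ * u⁻¹ = r * r * ζ := by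
  refine ⟨(r ^ (4 * (d.M : ℤ)))⁻¹, inv_mem (d.pow_four_M_mem hr), ?_⟩
  rw [d.rot_off hu hr, zpow_sub, zpow_two]

theorem c_conj {u : G} (hu : d.Off u) : d.c * u * d.c⁻¹ * u⁻¹ = d.z := by
  rw [d.rot_off hu d.c_mem_X, c, z, ← zpow_mul, d.zpow_eq]
  exact ⟨(d.M : ℤ), by ring⟩

theorem eq_Z_of_sq {r : G} (hr : r ∈ d.X) (h : r * r = 1) : r ∈ d.Z := by
  obtain ⟨i, rfl⟩ := hr
  change d.x ^ i * d.x ^ i = 1 at h
  rw [← zpow_add, d.zpow_eq_one] at h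
  obtain ⟨j, hj⟩ := h
  show d.x ^ i ∈ d.Z
  rw [show i = 4 * (d.M : ℤ) * j by linarith]
  exact d.zpow_four_M j

theorem mem_zpowers_c {r : G} (hr : r ∈ d.X) (h : r * r ∈ d.Z) : r ∈ zpowers d.c := by
  obtain ⟨i, rfl⟩ := hr
  change d.x ^ i * d.x ^ i ∈ d.Z at h
  obtain ⟨j, hj⟩ := h
  change d.z ^ j = _ at hj
  rw [z, ← zpow_mul, ← zpow_add, d.zpow_eq] at hj
  obtain ⟨m, hm⟩ := hj
  refine ⟨j + 2 * m, ?_⟩
  show d.c ^ (j + 2 * m) = d.x ^ i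
  rw [c, ← zpow_mul]
  congr 1
  linarith

theorem z_comm {g : G} (hg : g ∈ d.D) : d.z * g = g * d.z := by
  by_cases h : g ∈ d.X
  · exact d.rot_comm d.z_mem_X h
  · have e := d.rot_off ⟨hg, h⟩ d.z_mem_X
    rw [show d.z ^ (2 - 4 * (d.M : ℤ)) = 1 by
      rw [show 2 - 4 * (d.M : ℤ) = 2 * (1 - 2 * d.M) by ring, zpow_mul, zpow_two, d.z_mul_z, one_zpow],
      mul_inv_eq_one, mul_inv_eq_iff_eq_mul] at e
    exact e

/-- A large enough subgroup of rotations contains a given small root. -/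
theorem root_mem {i : ℤ} {s : ℕ} (hi : ¬ (d.M : ℤ) * 2 ^ (s + 1) ∣ i) (hs : s ≤ 2) :
    d.x ^ ((d.M : ℤ) * 2 ^ s) ∈ zpowers (d.x ^ i) := by
  obtain ⟨k, hk⟩ := d.two_pow
  set g := Int.gcd i (8 * (d.M : ℤ)) with hg
  have hdvd : g ∣ 2 ^ (k + 3) := by
    have h1 : (g : ℤ) ∣ 8 * (d.M : ℤ) := Int.gcd_dvd_right _ _
    rw [show 8 * (d.M : ℤ) = ((2 ^ (k + 3) : ℕ) : ℤ) by rw [hk]; push_cast; ring] at h1
    exact Int.natCast_dvd_natCast.mp h1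
  obtain ⟨v, -, hv⟩ := (Nat.dvd_prime_pow Nat.prime_two).mp hdvd
  have hv' : v ≤ k + s := by
    by_contra hlt
    push Not at hlt
    refine hi (dvd_trans ?_ (Int.gcd_dvd_left i (8 * (d.M : ℤ))))
    rw [← hg, hv, hk]
    push_cast
    rw [← pow_add]
    exact pow_dvd_pow 2 (by omega)
  obtain ⟨j, hj⟩ : (g : ℤ) ∣ (d.M : ℤ) * 2 ^ s := by
    rw [hv, hk]
    push_cast
    rw [← pow_add]
    exact pow_dvd_pow 2 hv'
  refine ⟨Int.gcdA i (8 * (d.M : ℤ)) * j, ?_⟩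
  show (d.x ^ i) ^ _ = _
  rw [← zpow_mul, hj, hg, Int.gcd_eq_gcd_ab, d.zpow_eq]
  exact ⟨Int.gcdB i (8 * (d.M : ℤ)) * j, by ring⟩

theorem c_mem_of_notMem {r : G} (hr : r ∈ d.X) (h : r ∉ d.Z) : d.c ∈ zpowers r := by
  obtain ⟨i, rfl⟩ := hr
  have : ¬ (d.M : ℤ) * 2 ^ (1 + 1) ∣ i := by
    rintro ⟨j, rfl⟩
    refine h ?_
    show d.x ^ ((d.M : ℤ) * 2 ^ (1 + 1) * j) ∈ d.Z
    rw [show (d.M : ℤ) * 2 ^ (1 + 1) * j = 4 * (d.M : ℤ) * j by ring]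
    exact d.zpow_four_M j
  have := d.root_mem (s := 1) this (by norm_num)
  rwa [show (d.M : ℤ) * 2 ^ 1 = 2 * (d.M : ℤ) by ring] at this

theorem root_mem_of_notMem {r : G} (hr : r ∈ d.X) (h : r ∉ zpowers d.c) : d.x ^ (d.M : ℤ) ∈ zpowers r := by
  obtain ⟨i, rfl⟩ := hr
  have : ¬ (d.M : ℤ) * 2 ^ (0 + 1) ∣ i := by
    rintro ⟨j, rfl⟩
    refine h ⟨j, ?_⟩
    show d.c ^ j = _
    rw [c, ← zpow_mul]
    show d.x ^ _ = d.x ^ _
    congr 1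
    ring
  have := d.root_mem (s := 0) this (by norm_num)
  rwa [pow_zero, mul_one] at this

theorem off_comm_rot {u r : G} (hu : d.Off u) (hr : r ∈ d.X) (h : r * u = u * r) : r ∈ d.Z := by
  obtain ⟨ζ, hζ, e⟩ := d.rot_off_sq hu hr
  rw [h, mul_inv_cancel_right, mul_inv_cancel] at e
  have h2 : r * r ∈ d.Z := by
    rw [eq_inv_of_mul_eq_one_left e.symm]
    exact inv_mem hζ
  by_contra hZ
  obtain ⟨k, hk⟩ := mem_zpowers_iff.mp (d.c_mem_of_notMem hr hZ)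
  have hc : d.c * u = u * d.c := by rw [← hk]; exact (Commute.zpow_left h k).eq
  exact d.z_ne_one (by rw [← d.c_conj hu, hc, mul_inv_cancel_right, mul_inv_cancel])

theorem off_comm_off {u v : G} (hu : d.Off u) (hv : d.Off v) (h : u * v = v * u) : u⁻¹ * v ∈ d.Z := by
  obtain ⟨i, hi⟩ := d.off_form hu
  obtain ⟨k, hk⟩ := d.off_form hv
  have hX : u⁻¹ * v ∈ d.X := by
    rw [hi, hk, d.xy_inv, d.xy_xy]
    exact d.zpow_mem_X _
  refine d.off_comm_rot hu hX ?_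
  calc u⁻¹ * v * u = u⁻¹ * (u * v) := by rw [h, mul_assoc]
    _ = u * (u⁻¹ * v) := by group

theorem off_mul_off {u v : G} (hu : d.Off u) (hv : d.Off v) : u * v ∈ d.X := by
  obtain ⟨i, rfl⟩ := d.off_form hu
  obtain ⟨k, rfl⟩ := d.off_form hv
  rw [d.xy_xy]
  exact d.zpow_mem_X _

theorem off_mul_rot {u r : G} (hu : d.Off u) (hr : r ∈ d.X) : d.Off (u * r) :=
  ⟨mul_mem hu.1 (d.X_le hr), fun h => hu.2 (by simpa using mul_mem h (inv_mem hr))⟩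

theorem sq_mem_X {g : G} (hg : g ∈ d.D) : g * g ∈ d.X := by
  by_cases h : g ∈ d.X
  · exact mul_mem h h
  · exact d.Z_le (d.off_sq ⟨hg, h⟩)

theorem conj_mem_X {g r : G} (hg : g ∈ d.D) (hr : r ∈ d.X) : g * r * g⁻¹ ∈ d.X := by
  by_cases h : g ∈ d.X
  · exact mul_mem (mul_mem h hr) (inv_mem h)
  · rw [d.off_conj ⟨hg, h⟩ hr]
    exact zpow_mem hr _

theorem c_comm_mem {g : G} (hg : g ∈ d.D) (h : d.c * g = g * d.c) : g ∈ d.X := by
  by_contra hn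
  exact d.z_ne_one (by rw [← d.c_conj ⟨hg, hn⟩, h, mul_inv_cancel_right, mul_inv_cancel])

/-- The two kinds of elements outside `X`. -/
theorem off_cases {u : G} (hu : d.Off u) :
    (u * u = 1 ∧ u ∈ d.Dm ∧ u ∉ d.Qm) ∨ (u * u = d.z ∧ u ∈ d.Qm ∧ u ∉ d.Dm) := by
  obtain ⟨i, rfl⟩ := d.off_form hu
  rcases Int.even_or_odd' i with ⟨j, rfl | rfl⟩
  · refine Or.inl ⟨?_, d.mem_Dm.mpr ⟨j, Or.inr rfl⟩, ?_⟩
    · rw [d.xy_xy, d.zpow_eq_one]
      exact ⟨j, by ring⟩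
    · rintro ⟨m, h | h⟩
      · exact hu.2 (h ▸ d.zpow_mem_X _)
      · rw [mul_left_inj, d.zpow_eq] at h
        obtain ⟨q, hq⟩ := h
        have h8 : (8 * (d.M : ℤ) * q) = 2 * (4 * d.M * q) := by ring
        omega
  · refine Or.inr ⟨?_, ⟨j, Or.inr rfl⟩, ?_⟩
    · rw [d.xy_xy, z, d.zpow_eq]
      exact ⟨-j, by ring⟩
    · intro hm
      obtain ⟨m, h | h⟩ := d.mem_Dm.mp hm
      · exact hu.2 (h ▸ d.zpow_mem_X _)
      · rw [mul_left_inj, d.zpow_eq] at h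
        obtain ⟨q, hq⟩ := h
        have h8 : (8 * (d.M : ℤ) * q) = 2 * (4 * d.M * q) := by ring
        omega

theorem refl_mem {u : G} (hu : d.Off u) (h : u * u = 1) : u ∈ d.Dm ∧ u ∉ d.Qm := by
  rcases d.off_cases hu with ⟨-, h'⟩ | ⟨h', -⟩
  · exact h'
  · exact absurd (h'.symm.trans h) d.z_ne_one

theorem quat_mem {u : G} (hu : d.Off u) (h : u * u = d.z) : u ∈ d.Qm ∧ u ∉ d.Dm := by
  rcases d.off_cases hu with ⟨h', -⟩ | ⟨-, h'⟩
  · exact absurd (h.symm.trans h') d.z_ne_one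
  · exact h'

theorem Dm_le : d.Dm ≤ d.D := by
  intro g hg
  obtain ⟨i, h | h⟩ := d.mem_Dm.mp hg <;> exact d.mem_D.mpr ⟨2 * i, by simp [h]⟩

theorem Qm_le : d.Qm ≤ d.D := by
  rintro g ⟨i, h | h⟩
  exacts [d.mem_D.mpr ⟨2 * i, Or.inl h⟩, d.mem_D.mpr ⟨2 * i + 1, Or.inr h⟩]

theorem x_notMem : d.x ∉ d.Dm ∧ d.x ∉ d.Qm := by
  have key : ∀ i : ℤ, d.x ≠ d.x ^ (2 * i) := fun i h => by
    nth_rewrite 1 [← zpow_one d.x] at h
    rw [d.zpow_eq] at h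
    obtain ⟨q, hq⟩ := h
    have h8 : (8 * (d.M : ℤ) * q) = 2 * (4 * d.M * q) := by ring
    omega
  constructor
  · intro hm
    obtain ⟨i, h | h⟩ := d.mem_Dm.mp hm
    exacts [key i h, d.xy_notMem _ (by rw [← h]; exact mem_zpowers d.x)]
  · rintro ⟨i, h | h⟩
    exacts [key i h, d.xy_notMem _ (by rw [← h]; exact mem_zpowers d.x)]

/-- The rotations in either dihedral or quaternion maximal subgroup are the even powers. -/
theorem rot_mem_iff {g : G} (hg : g ∈ d.X) : g ∈ d.Dm ↔ g ∈ d.Qm := by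
  constructor
  · intro hm
    obtain ⟨i, h | h⟩ := d.mem_Dm.mp hm
    exacts [⟨i, Or.inl h⟩, absurd (h ▸ hg) (d.xy_notMem _)]
  · rintro ⟨i, h | h⟩
    exacts [d.mem_Dm.mpr ⟨i, Or.inl h⟩, absurd (h ▸ hg) (d.xy_notMem _)]

theorem mul_mem_Dm {a b : G} (ha : a ∈ d.D) (hb : b ∈ d.D) (ha' : a ∉ d.Dm) (hb' : b ∉ d.Dm) :
    a * b ∈ d.Dm := by
  obtain ⟨i, h | h⟩ := d.mem_D.mp ha <;> obtain ⟨k, h' | h'⟩ := d.mem_D.mp hb <;> subst h h' <;>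
    rcases Int.even_or_odd' i with ⟨i, rfl | rfl⟩ <;> rcases Int.even_or_odd' k with ⟨k, rfl | rfl⟩ <;>
    first
      | exact absurd (d.mem_Dm.mpr ⟨i, Or.inl rfl⟩) ha'
      | exact absurd (d.mem_Dm.mpr ⟨i, Or.inr rfl⟩) ha'
      | exact absurd (d.mem_Dm.mpr ⟨k, Or.inl rfl⟩) hb'
      | exact absurd (d.mem_Dm.mpr ⟨k, Or.inr rfl⟩) hb'
      | skip
  · exact d.mem_Dm.mpr ⟨i + k + 1, Or.inl (by rw [← zpow_add]; congr 1; ring)⟩
  · exact d.mem_Dm.mpr ⟨i + k + 1, Or.inr (by rw [← mul_assoc, ← zpow_add]; congr 2; ring)⟩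
  · exact d.mem_Dm.mpr ⟨i + (4 * (d.M : ℤ) - 1) * k + 2 * d.M, Or.inr (by rw [d.xy_zpow]; congr 2; ring)⟩
  · exact d.mem_Dm.mpr ⟨i + (4 * (d.M : ℤ) - 1) * k + 2 * d.M, Or.inl (by rw [d.xy_xy]; congr 1; ring)⟩

theorem mul_mem_Qm {a b : G} (ha : a ∈ d.D) (hb : b ∈ d.D) (ha' : a ∉ d.Qm) (hb' : b ∉ d.Qm) :
    a * b ∈ d.Qm := by
  obtain ⟨i, h | h⟩ := d.mem_D.mp ha <;> obtain ⟨k, h' | h'⟩ := d.mem_D.mp hb <;> subst h h' <;>
    rcases Int.even_or_odd' i with ⟨i, rfl | rfl⟩ <;> rcases Int.even_or_odd' k with ⟨k, rfl | rfl⟩ <;>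
    first
      | exact absurd (show d.x ^ (2 * i) ∈ d.Qm from ⟨i, Or.inl rfl⟩) ha'
      | exact absurd (show d.x ^ (2 * i + 1) * d.y ∈ d.Qm from ⟨i, Or.inr rfl⟩) ha'
      | exact absurd (show d.x ^ (2 * k) ∈ d.Qm from ⟨k, Or.inl rfl⟩) hb'
      | exact absurd (show d.x ^ (2 * k + 1) * d.y ∈ d.Qm from ⟨k, Or.inr rfl⟩) hb'
      | skip
  · exact ⟨i + k + 1, Or.inl (by rw [← zpow_add]; congr 1; ring)⟩
  · exact ⟨i + k, Or.inr (by rw [← mul_assoc, ← zpow_add]; congr 2; ring)⟩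
  · exact ⟨i + (4 * (d.M : ℤ) - 1) * k + 2 * d.M - 1, Or.inr (by rw [d.xy_zpow]; congr 2; ring)⟩
  · exact ⟨i + (4 * (d.M : ℤ) - 1) * k, Or.inl (by rw [d.xy_xy]; congr 1; ring)⟩

theorem sq_mem_Dm {g : G} (hg : g ∈ d.D) : g * g ∈ d.Dm :=
  (em (g ∈ d.Dm)).elim (fun h => mul_mem h h) fun h => d.mul_mem_Dm hg hg h h

theorem sq_mem_Qm {g : G} (hg : g ∈ d.D) : g * g ∈ d.Qm :=
  (em (g ∈ d.Qm)).elim (fun h => mul_mem h h) fun h => d.mul_mem_Qm hg hg h h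

theorem conj_mem_Dm {g m : G} (hg : g ∈ d.D) (hm : m ∈ d.Dm) : g * m * g⁻¹ ∈ d.Dm := by
  by_cases h : g ∈ d.Dm
  · exact mul_mem (mul_mem h hm) (inv_mem h)
  · exact d.mul_mem_Dm (mul_mem hg (d.Dm_le hm)) (inv_mem hg) (fun h' => h ((mul_mem_cancel_right hm).mp h'))
      fun h' => h (inv_mem_iff.mp h')

theorem conj_mem_Qm {g m : G} (hg : g ∈ d.D) (hm : m ∈ d.Qm) : g * m * g⁻¹ ∈ d.Qm := by
  by_cases h : g ∈ d.Qm
  · exact mul_mem (mul_mem h hm) (inv_mem h)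
  · exact d.mul_mem_Qm (mul_mem hg (d.Qm_le hm)) (inv_mem hg) (fun h' => h ((mul_mem_cancel_right hm).mp h'))
      fun h' => h (inv_mem_iff.mp h')

theorem Dm_le_of {H : Subgroup G} (h : ∀ u, d.Off u → u * u = 1 → u ∈ H) : d.Dm ≤ H := by
  have hy := h d.y d.off_y d.y_sq
  have hu := d.off_xy 2
  have hx : d.x ^ (2 : ℤ) ∈ H := by
    have h1 := mul_mem (h _ hu (by rw [d.xy_xy, d.zpow_eq_one]; exact ⟨1, by ring⟩)) hy
    rwa [mul_assoc, d.y_sq, mul_one] at h1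
  intro g hg
  obtain ⟨i, e | e⟩ := d.mem_Dm.mp hg <;> rw [e, zpow_mul]
  exacts [zpow_mem hx i, mul_mem (zpow_mem hx i) hy]

theorem Qm_le_of {H : Subgroup G} (h : ∀ u, d.Off u → u * u = d.z → u ∈ H) : d.Qm ≤ H := by
  have h1 := h _ (d.off_xy 1) (by rw [d.xy_xy, z, d.zpow_eq]; exact ⟨0, by ring⟩)
  have hx : d.x ^ (2 : ℤ) ∈ H := by
    have h3 := mul_mem (h _ (d.off_xy 3) (by rw [d.xy_xy, z, d.zpow_eq]; exact ⟨-1, by ring⟩)) (inv_mem h1)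
    rwa [mul_inv_rev, d.y_inv, mul_assoc, ← mul_assoc d.y d.y, d.y_sq, one_mul, ← zpow_neg, ← zpow_add,
      show (3 : ℤ) + -1 = 2 by norm_num] at h3
  rintro g ⟨i, e | e⟩ <;> rw [e]
  · rw [zpow_mul]; exact zpow_mem hx i
  · rw [zpow_add, zpow_mul, mul_assoc]; exact mul_mem (zpow_mem hx i) h1

/-- Elements outside `X` with the same square are conjugate by rotations. -/
theorem exists_conj {u v : G} (hu : d.Off u) (hv : d.Off v) (h : u * u = v * v) :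
    ∃ r ∈ d.X, r * u * r⁻¹ = v := by
  obtain ⟨i, rfl⟩ := d.off_form hu
  obtain ⟨k, rfl⟩ := d.off_form hv
  rw [d.xy_xy, d.xy_xy, d.zpow_eq] at h
  obtain ⟨q, hq⟩ := h
  have hM : (d.M : ℤ) ≠ 0 := by have := d.M_pos; omega
  have hq' : 4 * (d.M : ℤ) * (k - i) = 4 * (d.M : ℤ) * (2 * q) := by linear_combination hq
  have hk : k - i = 2 * q := mul_left_cancel₀ (mul_ne_zero (by norm_num) hM) hq'
  refine ⟨d.x ^ ((1 - 2 * (d.M : ℤ)) * q), d.zpow_mem_X _, mul_right_cancel (b := (d.x ^ i * d.y)⁻¹) ?_⟩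
  rw [d.rot_off hu (d.zpow_mem_X _), ← zpow_mul, d.xy_inv, d.xy_xy, d.zpow_eq]
  exact ⟨q + i * (1 - 2 * d.M) - d.M * q, by linear_combination hk⟩

/-- A square of an element normalising a small subgroup acts on it almost trivially. -/
theorem sq_normalizing {s u : G} (hs : s ∈ d.D) (hu : d.Off u) (h : s * u * s⁻¹ * u⁻¹ ∈ zpowers d.c) :
    s * s * u * (s * s)⁻¹ * u⁻¹ ∈ d.Z := by
  by_cases hx : s ∈ d.X
  · obtain ⟨ζ, hζ, e⟩ := d.rot_off_sq hu hx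
    rw [e] at h
    obtain ⟨ζ', hζ', e'⟩ := d.rot_off_sq hu (mul_mem hx hx)
    rw [e']
    refine mul_mem ?_ hζ'
    obtain ⟨k, hk⟩ := mem_zpowers_iff.mp h
    have hc : zpowers d.c ≤ d.X := zpowers_le.mpr d.c_mem_X
    obtain ⟨m, hm⟩ := mem_zpowers_iff.mp (show s * s ∈ zpowers d.c by
      refine ((zpowers d.c).mul_mem_cancel_right (zpowers_le.mpr ?_ hζ)).mp ⟨k, hk⟩
      exact ⟨2, show d.c ^ (2 : ℤ) = d.z by rw [zpow_two, d.c_mul_c]⟩)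
    rw [← hm, ← (Commute.refl d.c).mul_zpow, d.c_mul_c]
    exact zpow_mem (mem_zpowers _) m
  · rcases d.mem_Z.mp (d.off_sq ⟨hs, hx⟩) with e | e <;> rw [e]
    · simp
    · rw [d.z_comm hu.1, mul_inv_cancel_right, mul_inv_cancel]; exact one_mem _

/-- A square of an element normalising a four group is central. -/
theorem sq_normalizing_four {s u : G} (hs : s ∈ d.D) (hu : d.Off u) (h : s * u * s⁻¹ * u⁻¹ ∈ d.Z) :
    s * s ∈ d.Z := by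
  by_cases hx : s ∈ d.X
  · obtain ⟨ζ, hζ, e⟩ := d.rot_off_sq hu hx
    rw [e] at h
    exact (d.Z.mul_mem_cancel_right hζ).mp h
  · exact d.off_sq ⟨hs, hx⟩

end SDGen

end CfsgLib.SDSquare
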