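import Cfsg.Agent.Lib.SDSquare.SD
import Cfsg.Prelude.Def_TwoFusion
import Mathlib.GroupTheory.Sylow
import Mathlib.Algebra.Group.Subgroup.Pointwise

/-!
A Sylow `2`-subgroup which is the product of two semidihedral subgroups: the two projections.
-/

set_option autoImplicit false
set_option linter.unusedSectionVars false

namespace CfsgLib.SDSquare

open Cfsg Subgroup

universe u
variable {G : Type u} [Group G]

/-- `P` is the internal direct product of two semidihedral subgroups. -/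
structure Square (P : Subgroup G) where
  /-- The first factor. -/
  a : SDGen G
  /-- The second factor. -/
  b : SDGen G
  prod : IsInternalDirectProduct a.D b.D P

namespace Square

variable {P : Subgroup G} (q : Square P)

/-- The same product with the factors exchanged. -/
def swap : Square P where
  a := q.b
  b := q.a
  prod := ⟨q.prod.2.1, q.prod.1, fun x hx y hy => (q.prod.2.2.1 y hy x hx).symm,
    by rw [inf_comm]; exact q.prod.2.2.2.1, by rw [sup_comm]; exact q.prod.2.2.2.2⟩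

@[simp] theorem swap_a : q.swap.a = q.b := rfl

@[simp] theorem swap_b : q.swap.b = q.a := rfl

theorem aD_le : q.a.D ≤ P := q.prod.1

theorem bD_le : q.b.D ≤ P := q.prod.2.1

theorem comm_ab {x y : G} (hx : x ∈ q.a.D) (hy : y ∈ q.b.D) : x * y = y * x := q.prod.2.2.1 x hx y hy

theorem exists_decomp {g : G} (hg : g ∈ P) : ∃ x ∈ q.a.D, ∃ y ∈ q.b.D, x * y = g := by
  rw [← q.prod.2.2.2.2] at hg
  have hn : q.b.D ≤ normalizer (q.a.D : Set G) := fun y hy => mem_normalizer_iff.mpr fun x => by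
    constructor
    · intro hx
      rw [← q.comm_ab hx hy, mul_inv_cancel_right]
      exact hx
    · intro hx
      have e : x = y * x * y⁻¹ := by
        have h1 := q.comm_ab hx hy
        calc x = y⁻¹ * (y * x * y⁻¹ * y) := by group
          _ = y⁻¹ * (y * (y * x * y⁻¹)) := by rw [h1]
          _ = y * x * y⁻¹ := by group
      rw [e]
      exact hx
  have hg' : g ∈ (↑(q.a.D ⊔ q.b.D) : Set G) := hg
  rw [coe_mul_of_right_le_normalizer_left q.a.D q.b.D hn] at hg'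
  obtain ⟨x, hx, y, hy, e⟩ := hg'
  exact ⟨x, hx, y, hy, e⟩

theorem eq_one_of_mem {g : G} (h1 : g ∈ q.a.D) (h2 : g ∈ q.b.D) : g = 1 := by
  have : g ∈ q.a.D ⊓ q.b.D := ⟨h1, h2⟩
  rwa [q.prod.2.2.2.1, mem_bot] at this

/-- The projection on the first factor. -/
noncomputable def pr (g : G) : G :=
  haveI := Classical.propDecidable (g ∈ P)
  if h : g ∈ P then (q.exists_decomp h).choose else 1

theorem pr_eq {x y : G} (hx : x ∈ q.a.D) (hy : y ∈ q.b.D) : q.pr (x * y) = x := by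
  have h : x * y ∈ P := P.mul_mem (q.aD_le hx) (q.bD_le hy)
  rw [pr, dif_pos h]
  obtain ⟨hx', y', hy', e⟩ := (q.exists_decomp h).choose_spec
  set x' := (q.exists_decomp h).choose
  have h1 : x⁻¹ * x' = y * y'⁻¹ := by
    calc x⁻¹ * x' = x⁻¹ * (x' * y') * y'⁻¹ := by group
      _ = y * y'⁻¹ := by rw [e]; group
  have := q.eq_one_of_mem (mul_mem (inv_mem hx) hx') (h1 ▸ mul_mem hy (inv_mem hy'))
  exact (inv_mul_eq_one.mp this).symm

theorem pr_eq_swap {x y : G} (hx : x ∈ q.a.D) (hy : y ∈ q.b.D) : q.swap.pr (x * y) = y := by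
  rw [q.comm_ab hx hy]
  exact q.swap.pr_eq hy hx

theorem pr_mem {g : G} (hg : g ∈ P) : q.pr g ∈ q.a.D := by
  obtain ⟨x, hx, y, hy, rfl⟩ := q.exists_decomp hg
  rw [q.pr_eq hx hy]
  exact hx

theorem pr'_mem {g : G} (hg : g ∈ P) : q.swap.pr g ∈ q.b.D := q.swap.pr_mem hg

theorem split {g : G} (hg : g ∈ P) : q.pr g * q.swap.pr g = g := by
  obtain ⟨x, hx, y, hy, rfl⟩ := q.exists_decomp hg
  rw [q.pr_eq hx hy, q.pr_eq_swap hx hy]

theorem ext {g h : G} (hg : g ∈ P) (hh : h ∈ P) (h1 : q.pr g = q.pr h) (h2 : q.swap.pr g = q.swap.pr h) :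
    g = h := by
  rw [← q.split hg, ← q.split hh, h1, h2]

theorem pr_of_mem {x : G} (hx : x ∈ q.a.D) : q.pr x = x := by
  have := q.pr_eq hx q.b.D.one_mem
  rwa [mul_one] at this

theorem pr_of_mem_b {y : G} (hy : y ∈ q.b.D) : q.pr y = 1 := by
  have := q.pr_eq q.a.D.one_mem hy
  rwa [one_mul] at this

theorem pr'_of_mem {x : G} (hx : x ∈ q.a.D) : q.swap.pr x = 1 := q.swap.pr_of_mem_b hx

theorem pr'_of_mem_b {y : G} (hy : y ∈ q.b.D) : q.swap.pr y = y := q.swap.pr_of_mem hy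

theorem pr_one : q.pr 1 = 1 := q.pr_of_mem q.a.D.one_mem

theorem pr_mul {g h : G} (hg : g ∈ P) (hh : h ∈ P) : q.pr (g * h) = q.pr g * q.pr h := by
  obtain ⟨x, hx, y, hy, rfl⟩ := q.exists_decomp hg
  obtain ⟨x', hx', y', hy', rfl⟩ := q.exists_decomp hh
  rw [q.pr_eq hx hy, q.pr_eq hx' hy',
    show x * y * (x' * y') = x * x' * (y * y') by
      rw [mul_assoc x y, ← mul_assoc y x', ← q.comm_ab hx' hy]; group,
    q.pr_eq (mul_mem hx hx') (mul_mem hy hy')]

theorem pr_inv {g : G} (hg : g ∈ P) : q.pr g⁻¹ = (q.pr g)⁻¹ :=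
  eq_inv_of_mul_eq_one_left (by rw [← q.pr_mul (P.inv_mem hg) hg, inv_mul_cancel, q.pr_one])

theorem pr_conj {g h : G} (hg : g ∈ P) (hh : h ∈ P) : q.pr (g * h * g⁻¹) = q.pr g * q.pr h * (q.pr g)⁻¹ := by
  rw [q.pr_mul (P.mul_mem hg hh) (P.inv_mem hg), q.pr_mul hg hh, q.pr_inv hg]

theorem pr_sq {g : G} (hg : g ∈ P) : q.pr (g * g) = q.pr g * q.pr g := q.pr_mul hg hg

theorem commute_of {g h : G} (hg : g ∈ P) (hh : h ∈ P) (h1 : q.pr g * q.pr h = q.pr h * q.pr g)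
    (h2 : q.swap.pr g * q.swap.pr h = q.swap.pr h * q.swap.pr g) : g * h = h * g :=
  q.ext (P.mul_mem hg hh) (P.mul_mem hh hg) (by rw [q.pr_mul hg hh, q.pr_mul hh hg, h1])
    (by rw [q.swap.pr_mul hg hh, q.swap.pr_mul hh hg, h2])

theorem pr_commute {g h : G} (hg : g ∈ P) (hh : h ∈ P) (e : g * h = h * g) :
    q.pr g * q.pr h = q.pr h * q.pr g := by
  rw [← q.pr_mul hg hh, ← q.pr_mul hh hg, e]

/-- An element of the first factor only sees the first projection. -/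
theorem comm_pr {x g : G} (hx : x ∈ q.a.D) (hg : g ∈ P) :
    x * g * x⁻¹ * g⁻¹ = x * q.pr g * x⁻¹ * (q.pr g)⁻¹ := by
  have h2 := q.pr'_mem hg
  nth_rewrite 1 2 [← q.split hg]
  rw [mul_inv_rev]
  calc x * (q.pr g * q.swap.pr g) * x⁻¹ * ((q.swap.pr g)⁻¹ * (q.pr g)⁻¹)
      = x * q.pr g * (q.swap.pr g * x⁻¹) * ((q.swap.pr g)⁻¹ * (q.pr g)⁻¹) := by group
    _ = x * q.pr g * (x⁻¹ * q.swap.pr g) * ((q.swap.pr g)⁻¹ * (q.pr g)⁻¹) := by
        rw [q.comm_ab (inv_mem hx) h2]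
    _ = x * q.pr g * x⁻¹ * (q.pr g)⁻¹ := by group

theorem commute_iff_pr {x g : G} (hx : x ∈ q.a.D) (hg : g ∈ P) :
    x * g = g * x ↔ x * q.pr g = q.pr g * x := by
  rw [← mul_inv_eq_iff_eq_mul, ← mul_inv_eq_one, q.comm_pr hx hg, mul_inv_eq_one, mul_inv_eq_iff_eq_mul]

theorem za_comm {g : G} (hg : g ∈ P) : q.a.z * g = g * q.a.z :=
  (q.commute_iff_pr (q.a.X_le q.a.z_mem_X) hg).mpr (q.a.z_comm (q.pr_mem hg))

theorem za_mem : q.a.z ∈ P := q.aD_le (q.a.X_le q.a.z_mem_X)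

theorem zb_mem : q.b.z ∈ P := q.swap.za_mem

theorem z_ne : q.a.z ≠ q.b.z := fun e =>
  q.a.z_ne_one (q.eq_one_of_mem (q.a.X_le q.a.z_mem_X) (e ▸ q.b.X_le q.b.z_mem_X))

end Square

end CfsgLib.SDSquare
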